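import Cfsg.Agent.H510.TwoTool
import Cfsg.Agent.H867.SporMI
import Cfsg.Agent.H604.Cop.Conway
import Cfsg.Agent.H729.PairCoN
import Cfsg.Agent.S2070

/-!
# `Co2` has no 2-transitive action (helper410, HUB H1 part P11)

* `card_cent_inc`: in a subgroup of `Co0` without `-1` the elements of order 23 are self-centralizing;
* `TwoCo2.row`: the sieve for the primes 11 and 23 leaves the degrees 23, 46, 253, 276, all below 672.
-/

set_option autoImplicit false

namespace Cfsg.Agent.H410.TwoCo2

open MulAction Subgroup Cfsg.Agent.H384.TwoTrans Cfsg Cfsg.Agent.OrdDiv Cfsg.Agent.H510.TwoCore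
open Cfsg.Agent.SporadicA.Co0Mono (signCo0)
open Cfsg.Agent.SporadicA.Co1Simple (allOne)
open Cfsg.Agent.CpAutBig Cfsg.Agent.Co2Type.Mono
open Cfsg.Agent.SporadicA.GolayBase
open Cfsg.Agent.H729.PairBase Cfsg.Agent.H729.PairCoN Cfsg.Agent.H729.PairEleven

universe u v

/-- the degree is at least `n` -/
theorem le_degree {G : Type u} {Ω : Type v} [Group G] [MulAction G Ω] {T : Subgroup G} (A : AS G Ω T)
    {Y : Type*} [Group Y] (e : ↥T ≃* Y) {n : ℕ} (h : Cfsg.Agent.H867.MinIdx.MI Y n) : n ≤ Nat.card Ω := by
  have := A.finΩ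
  have := A.faithfulT
  have := A.simple
  have := A.simple.toNontrivial
  by_contra hcon
  push Not at hcon
  have h1 := (h.congr e.symm).of_finite (Ω := Ω) hcon
  obtain ⟨x, hx⟩ := exists_ne (1 : ↥T)
  exact hx (FaithfulSMul.eq_of_smul_eq_smul (α := Ω) fun ω => by rw [h1, one_smul])

/-- in a subgroup of `Co0` without `-1` the elements of order 23 are self-centralizing -/
theorem card_cent_inc {K : Type*} [Group K] [Finite K] (i : K →* Co0) (hi : Function.Injective i)
    (hZ : ∀ g : K, i g ≠ signCo0 allOne) {z : K} (hz : orderOf z = 23) :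
    Nat.card (centralizer ({z} : Set K)) = 23 := by
  have hz' : orderOf (i z) = 23 := by rw [orderOf_injective i hi, hz]
  have hfin := CoZero.finite_co0
  rw [← hz]
  refine Cfsg.Agent.H604.Cop.Conway.card_eq hz ?_
  have h1 := Cfsg.Agent.H604.Cop.Conway.card_cent_co0 hz'
  classical
  let f : ↥(centralizer ({z} : Set K)) × Bool → ↥(centralizer ({i z} : Set Co0)) := fun a =>
    ⟨i a.1 * (if a.2 then signCo0 allOne else 1), by
      have h2 := mem_centralizer_singleton_iff.1 a.1.2
      rw [mem_centralizer_singleton_iff]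
      have h3 : i a.1 * i z = i z * i a.1 := by rw [← map_mul, h2, map_mul]
      by_cases hb : a.2
      · rw [if_pos hb, mul_assoc, Cfsg.Agent.LThreeBX.NoSeven.n_comm, ← mul_assoc, h3, mul_assoc]
      · rw [if_neg hb, mul_one, h3]⟩
  have hf : Function.Injective f := by
    rintro ⟨a, s⟩ ⟨b, t⟩ h
    have h2 : i a * (if s then signCo0 allOne else 1) = i b * (if t then signCo0 allOne else 1) :=
      congrArg Subtype.val h
    have key : ∀ a b : K, i a * signCo0 allOne = i b → False := by
      intro a b hab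
      apply hZ (a⁻¹ * b)
      rw [map_mul, map_inv, ← hab, inv_mul_cancel_left]
    cases s <;> cases t
    · replace h2 : i a * 1 = i b * 1 := h2
      rw [Prod.mk.injEq]
      exact ⟨Subtype.ext (hi (mul_right_cancel h2)), rfl⟩
    · replace h2 : i a * 1 = i b * signCo0 allOne := h2
      rw [mul_one] at h2
      exact (key _ _ h2.symm).elim
    · replace h2 : i a * signCo0 allOne = i b * 1 := h2
      rw [mul_one] at h2
      exact (key _ _ h2).elim
    · replace h2 : i a * signCo0 allOne = i b * signCo0 allOne := h2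
      rw [Prod.mk.injEq]
      exact ⟨Subtype.ext (hi (mul_right_cancel h2)), rfl⟩
  have h2 := Nat.card_le_card_of_injective f hf
  rw [Nat.card_prod, Nat.card_eq_fintype_card (α := Bool), Fintype.card_bool] at h2
  omega

/-- no involution commutes with an element of order 23 -/
theorem noInv_of_card {X : Type*} [Group X] [Finite X] {p : ℕ} (hp : p.Prime) (hp2 : p ≠ 2)
    (h : ∀ z : X, orderOf z = p → Nat.card (centralizer ({z} : Set X)) = p) : NoInv X p := by
  refine noInv_of_comm hp fun t y ht hy hc => ?_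
  have h1 : t ∈ centralizer ({y} : Set X) := mem_centralizer_singleton_iff.2 hc
  have h2 := orderOf_dvd_natCard (⟨t, h1⟩ : ↥(centralizer ({y} : Set X)))
  rw [← Subgroup.orderOf_coe, h y hy] at h2
  change orderOf t ∣ p at h2
  rw [ht, Nat.prime_dvd_prime_iff_eq Nat.prime_two hp] at h2
  exact hp2 h2.symm

theorem neg_ne (g : Spor.Co2) : toCo0 g ≠ signCo0 allOne := by
  intro hg
  have h1 : toCo0 g • Spor.leechU = Spor.leechU := toCo0_smul g
  rw [hg] at h1
  have h2 := congrArg (fun u : leechLattice => (u : GolayPt → ℤ) none) h1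
  rw [show ((signCo0 allOne : Co0) • Spor.leechU) = -Spor.leechU from Cfsg.Agent.SporadicA.Co1Simple.allOne_smul _] at h2
  have h3 : -((4 : ℤ)) = 4 := h2
  omega

theorem card_cent_23 {z : Spor.Co2} (hz : orderOf z = 23) : Nat.card (centralizer ({z} : Set Spor.Co2)) = 23 := by
  have : Finite Spor.Co2 := Cfsg.Agent.Schreier.CoTwoStab.finite
  exact card_cent_inc toCo0 toCo0_injective neg_ne hz

theorem noTwo_11 : NoTwo Spor.Co2 11 := by
  have : Finite Spor.Co2 := Cfsg.Agent.Schreier.CoTwoStab.finite
  refine NoTwo.of_one (by norm_num) (by rw [Cfsg.Agent.Schreier.CoTwoStab.card]; norm_num) orderOf_x2 ?_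
  intro t ht hc
  have h1 : toCo0 t = 1 := by
    apply eq_one_of_fix
    · rw [← toCo0_xx, ← map_mul, ← map_mul, hc.eq]
    · rw [← map_mul]
      have h2 := pow_orderOf_eq_one t
      rw [ht, pow_two] at h2
      rw [h2, map_one]
    · exact toCo0_smul t
  rw [← map_one toCo0] at h1
  rw [toCo0_injective h1, orderOf_one] at ht
  norm_num at ht

def l : List (ℕ × ℕ) := [(3, 6), (5, 3), (7, 1), (11, 1), (23, 1)]
def N : ℕ := 42305421312000
def R : List ℕ := [11, 23]
def S : List ℕ := [19958400, 239500800, 660, 6072, 13685760, 9196830720, 7920, 95040, 443520, 10200960, 244823040,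
  42305421312000, 898128000, 44352000]

theorem hv : valid ((2, 18) :: l) N = true := by decide +kernel
theorem ht : tab ((2, 18) :: l) N R S = true := by decide +kernel
theorem hall : allD (two (chk ((2, 18) :: l) N N R S) [23, 46, 253, 276]) l 1 = true := by decide +kernel

theorem noInv {X : Type*} [Group X] [Finite X] (h : Spor.IsoCo2 X) {p : ℕ} (hp : p ∈ R) : NoInv X p := by
  obtain ⟨e⟩ := h
  have : Finite Spor.Co2 := Cfsg.Agent.Schreier.CoTwoStab.finite
  simp only [R, List.mem_cons, List.not_mem_nil, or_false] at hp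
  rcases hp with rfl | rfl
  · refine NoInv.congr (by norm_num) e (noInv_of_comm (by norm_num) fun t y ht hy hc => ?_)
    exact noTwo_11 t y ht hy hc
  · exact NoInv.congr (by norm_num) e (noInv_of_card (by norm_num) (by norm_num) fun z hz => card_cent_23 hz)

variable {G : Type u} {Ω : Type v} [Group G] [MulAction G Ω] {T : Subgroup G}

/-- **Row `Co2` of HUB H1.** -/
theorem row (A : AS G Ω T) (h : Spor.IsoCo2 ↥T) (Tb : OrderTable.{u})
    (hS : ∀ (X : Type u) [Group X] [Finite X] [IsSimpleGroup X], IsKnownSimple' X) : False := by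
  have := A.finG
  have h0 := h
  obtain ⟨e⟩ := h0
  have hm := main A (e := 1) (M := N) (by norm_num) (out_le e Cfsg.Agent.S2070.result)
    ((Nat.card_congr e.toEquiv).trans Cfsg.Agent.Schreier.CoTwoStab.card) (one_mul _) hv ht
    (fun p hp => noInv h hp) Tb hS hall
  have hs : IsSimpleGroup Spor.Co2 := Cfsg.Agent.Schreier.CoTwoStab.isSimpleGroup
  have h1 := le_degree A e (Cfsg.Agent.H867.SporMI.co2 hs)
  simp only [List.mem_cons, List.not_mem_nil, or_false] at hm
  omega

end Cfsg.Agent.H410.TwoCo2
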