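import Cfsg.Agent.H410.TwoTransRGD
import Cfsg.Agent.Mrg.Omega.ML.Ex.Typ.List
import Cfsg.Prelude.Def_Classification2

/-!
# Root group data not of type `A`: no 2-transitive actions of degree prime to the characteristic (helper410)

* `Bad M` : the Coxeter matrix has a bond `≥ 4` or a branch node; `BadGroup r G` : `HasRGDT r M G` with `M` bad;
* `split_known` : the list of known simple groups with all `BadGroup` families in one row;
* `BadGroup.false` : no 2-transitive action on a set of size prime to `r`;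
* `sq_dvd` : rank at least two: `r ^ 2 ∣ |G|`.
-/

set_option autoImplicit false
set_option linter.unusedSectionVars false

namespace Cfsg.Agent.H410.Types

open Cfsg
open CoxeterSystem Cfsg.Agent.ChevalleyStructure.CoxeterGeom Cfsg.Agent.Tits.Roots Cfsg.Agent.Tits.Core
  Cfsg.Agent.Nodes.Comb Cfsg.Agent.Nodes.Reps Cfsg.Agent.Nodes.BNOf Cfsg.Agent.Nodes.Bruhat
  Cfsg.Agent.Nodes.RGDLib
  Cfsg.Agent.Nodes.RGDChev Cfsg.Agent.LieRecognition.BNCox Cfsg.Agent.Omega.ML.Ex.Typ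
  Cfsg.Agent.H410.TwoTransRGD

/-- A bond `≥ 4` or a branch node. -/
def Bad {I : Type*} (M : CoxeterMatrix I) : Prop :=
  (∃ i k, i ≠ k ∧ M i k ≠ 2 ∧ M i k ≠ 3) ∨
    ∃ k i₁ i₂ i₃, i₁ ≠ k ∧ i₂ ≠ k ∧ i₃ ≠ k ∧ i₁ ≠ i₂ ∧ i₁ ≠ i₃ ∧ i₂ ≠ i₃ ∧ M i₁ k ≠ 2 ∧ M i₂ k ≠ 2 ∧ M i₃ k ≠ 2

/-- a bad Coxeter matrix has rank at least two -/
theorem Bad.exists_ne {I : Type*} {M : CoxeterMatrix I} (h : Bad M) : ∃ i k : I, i ≠ k := by
  rcases h with ⟨i, k, h, -⟩ | ⟨k, i, -, -, h, -⟩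
  · exact ⟨i, k, h⟩
  · exact ⟨i, k, h⟩

theorem B_apply (n : ℕ) (i j : Fin n) : CoxeterMatrix.B n i j =
    if i = j then 1 else if (i : ℕ) = n - 1 ∧ (j : ℕ) = n - 2 ∨ (j : ℕ) = n - 1 ∧ (i : ℕ) = n - 2 then 4
      else if (j : ℕ) + 1 = i ∨ (i : ℕ) + 1 = j then 3 else 2 := rfl

theorem bad_B {n : ℕ} (hn : 2 ≤ n) : Bad (CoxeterMatrix.B n) := by
  have hne : (⟨n - 1, by omega⟩ : Fin n) ≠ ⟨n - 2, by omega⟩ := by
    rw [ne_eq, Fin.mk.injEq]; omega
  have h4 : CoxeterMatrix.B n ⟨n - 1, by omega⟩ ⟨n - 2, by omega⟩ = 4 := by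
    rw [B_apply, if_neg hne, if_pos (Or.inl ⟨rfl, rfl⟩)]
  exact Or.inl ⟨_, _, hne, by rw [h4]; decide, by rw [h4]; decide⟩

theorem bad_D {k : ℕ} (hk : 1 ≤ k) : Bad (Nodes.TypeD.M (k + 1)) := by
  refine Or.inr ⟨⟨k, by omega⟩, ⟨k - 1, by omega⟩, ⟨k + 1, by omega⟩, ⟨k + 2, by omega⟩, ?_, ?_, ?_, ?_, ?_, ?_, ?_, ?_, ?_⟩
  iterate 6
    simp only [ne_eq, Fin.mk.injEq]
    omega
  · rw [Nodes.TypeD.M_apply, if_neg (by simp only [Fin.mk.injEq]; omega),
      if_pos (by unfold Nodes.TypeD.Adj; dsimp only; omega)]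
    decide
  · rw [Nodes.TypeD.M_apply, if_neg (by simp only [Fin.mk.injEq]; omega),
      if_pos (by unfold Nodes.TypeD.Adj; dsimp only; omega)]
    decide
  · rw [Nodes.TypeD.M_apply, if_neg (by simp only [Fin.mk.injEq]; omega),
      if_pos (by unfold Nodes.TypeD.Adj; dsimp only; omega)]
    decide

theorem bad_G2 : Bad CoxeterMatrix.G₂ := Or.inl ⟨0, 1, by decide, by decide, by decide⟩
theorem bad_F4 : Bad CoxeterMatrix.F₄ := Or.inl ⟨1, 2, by decide, by decide, by decide⟩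
theorem bad_E6 : Bad CoxeterMatrix.E₆ :=
  Or.inr ⟨3, 1, 2, 4, by decide, by decide, by decide, by decide, by decide, by decide, by decide, by decide, by decide⟩
theorem bad_E7 : Bad CoxeterMatrix.E₇ :=
  Or.inr ⟨3, 1, 2, 4, by decide, by decide, by decide, by decide, by decide, by decide, by decide, by decide, by decide⟩
theorem bad_E8 : Bad CoxeterMatrix.E₈ :=
  Or.inr ⟨3, 1, 2, 4, by decide, by decide, by decide, by decide, by decide, by decide, by decide, by decide, by decide⟩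

/-- `G` has a root group datum of characteristic `r` not of type `A`, of rank at least two. -/
def BadGroup (r : ℕ) (G : Type*) [Group G] : Prop :=
  ∃ (l : ℕ) (M : CoxeterMatrix (Fin l)), Bad M ∧ HasRGDT r M G

theorem BadGroup.of_equiv {r : ℕ} {G H : Type*} [Group G] [Group H] (e : G ≃* H) (hG : BadGroup r G) :
    BadGroup r H := by
  obtain ⟨l, M, hM, hG⟩ := hG
  exact ⟨l, M, hM, hG.of_equiv e⟩

section Odd

open QuadraticMap
open Cfsg.Agent.LieClassical Cfsg.Agent.LieClassical.OrthCore Cfsg.Agent.LieClassical.OrthTrans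
open Cfsg.Agent.LieClassical.OrthSimple Cfsg.Agent.LieClassical.OrthFinite
open Cfsg.Agent.LieClassical.OrthForms Cfsg.Agent.TitsThree
open Cfsg.Agent.TitsThree.KSideO Cfsg.Agent.TitsThree.StdData
open Cfsg.Agent.Nodes Cfsg.Agent.Nodes.WittAll Cfsg.Agent.Nodes.WittU Cfsg.Agent.Nodes.WittInst
  Cfsg.Agent.TitsThree.Siegel Cfsg.Agent.TitsThree.SiegelGen
  Cfsg.Agent.TitsThree.WittFrame Cfsg.Agent.TitsThree.WBridge Cfsg.Agent.TitsThree.WittWeyl
  Cfsg.Agent.TitsThree.FrameCN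

/-- **`PΩ_{2m+1}(F)`, `F` of odd characteristic, with its type.** -/
theorem typ_PO_odd {F : Type*} [Field F] [Finite F] {m : ℕ} (h2 : (2 : F) ≠ 0) (hm : 2 ≤ m) {p : ℕ}
    [Fact p.Prime] [CharP F p] : HasRGDT p (CoxeterMatrix.B m) (Cfsg.POmega F (Cfsg.quadFormOdd m F)) := by
  rw [← coe_oddForm]
  have hG : Good (oddForm m F) := by
    apply good_of_finite (nondeg_oddForm m F h2)
    rw [Module.finrank_fintype_fun_eq_card, Fintype.card_sum, Fintype.card_sum, Fintype.card_fin,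
      Fintype.card_unit]
    omega
  have hp : ((embOdd m F).ngt ⟨1, -1 ^ 2, rfl⟩).c ≠ 0 := by
    change (1 : F)⁻¹ * (-1 ^ 2) ≠ 0
    simp
  exact typ_C (model (wodd m F) hG ⟨_, hp⟩) (AmbT.of_amb (amb_O_of_two _ h2) p) hp (by omega)

end Odd

/-- The list of the known simple groups, the families `BadGroup` in one row. -/
theorem split_known {G : Type*} [Group G] (h : IsKnownSimple' G) :
    IsPrimeCyclic G ∨ IsAlternating G ∨ IsPSL G ∨ (∃ r, r.Prime ∧ BadGroup r G) ∨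
      (∃ (F : Type) (_ : Field F) (_ : Fintype F) (q : ℕ), Fintype.card F = q ^ 2 ∧ q ≠ 2 ∧ Nonempty (G ≃* PSU 3 F q)) ∨
      Lie.IsoSuzuki G ∨ Lie.IsoRee G ∨ Lie.Iso2F4 G ∨ Lie.IsoTits G ∨ IsSporadicGroup G := by
  have key : (∃ r, r.Prime ∧ BadGroup r G) → IsPrimeCyclic G ∨ IsAlternating G ∨ IsPSL G ∨
      (∃ r, r.Prime ∧ BadGroup r G) ∨
      (∃ (F : Type) (_ : Field F) (_ : Fintype F) (q : ℕ), Fintype.card F = q ^ 2 ∧ q ≠ 2 ∧ Nonempty (G ≃* PSU 3 F q)) ∨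
      Lie.IsoSuzuki G ∨ Lie.IsoRee G ∨ Lie.Iso2F4 G ∨ Lie.IsoTits G ∨ IsSporadicGroup G :=
    fun h => Or.inr (Or.inr (Or.inr (Or.inl h)))
  rcases h with h | h | h | h | h | h | h | h | h | h
  · exact Or.inl h
  · exact Or.inr (Or.inl h)
  · exact Or.inr (Or.inr (Or.inl h))
  · obtain ⟨F, _, _, m, hm, -, ⟨e⟩⟩ := h
    obtain ⟨p, hc⟩ := CharP.exists F
    have : Fact p.Prime := ⟨CharP.char_is_prime F p⟩
    exact key ⟨p, this.out, _, _, bad_B hm, (typ_PSp (by omega)).of_equiv e.symm⟩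
  · obtain ⟨F, _, _, n, q, hF, hn, hnq, ⟨e⟩⟩ := h
    obtain ⟨p, hc⟩ := CharP.exists F
    have : Fact p.Prime := ⟨CharP.char_is_prime F p⟩
    rcases hn.eq_or_lt with h3 | h3
    · subst h3
      exact Or.inr (Or.inr (Or.inr (Or.inr (Or.inl ⟨F, _, _, q, hF, fun h => hnq ⟨rfl, h⟩, ⟨e⟩⟩))))
    · obtain ⟨m, hm, h⟩ := typ_PSU (p := p) hF hn
      exact key ⟨p, this.out, _, _, bad_B (n := m) (by omega), h.of_equiv e.symm⟩
  · obtain ⟨F, _, _, m, hm, hodd, ⟨e⟩⟩ := h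
    obtain ⟨p, hc⟩ := CharP.exists F
    have : Fact p.Prime := ⟨CharP.char_is_prime F p⟩
    have h2 : (2 : F) ≠ 0 := by
      intro h2
      have h3 : CharP F 2 := CharTwo.of_one_ne_zero_of_two_eq_zero one_ne_zero h2
      obtain ⟨k, -, hk⟩ := FiniteField.card F 2
      rw [hk] at hodd
      exact absurd hodd (by
        rw [Nat.not_odd_iff_even]
        exact (even_two).pow_of_ne_zero k.ne_zero)
    exact key ⟨p, this.out, _, _, bad_B (n := m) (by omega), (typ_PO_odd h2 (by omega)).of_equiv e.symm⟩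
  · obtain ⟨F, _, _, m, hm, ⟨e⟩⟩ := h
    obtain ⟨p, hc⟩ := CharP.exists F
    have : Fact p.Prime := ⟨CharP.char_is_prime F p⟩
    obtain ⟨n, rfl⟩ : ∃ n, m = n + 3 := ⟨m - 3, by omega⟩
    exact key ⟨p, this.out, _, _, bad_D (k := n) (by omega), (typ_PO_plus n).of_equiv e.symm⟩
  · obtain ⟨F, _, _, m, a, b, hm, hab, ⟨e⟩⟩ := h
    obtain ⟨p, hc⟩ := CharP.exists F
    have : Fact p.Prime := ⟨CharP.char_is_prime F p⟩
    exact key ⟨p, this.out, _, _, bad_B (n := m - 1) (by omega), (typ_PO_minus hab (by omega)).of_equiv e.symm⟩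
  · rcases h with h | h | h | h | h | h | h | h | h | h | h
    · obtain ⟨F, _, _, -, ⟨e⟩⟩ := h
      obtain ⟨p, hc⟩ := CharP.exists F
      have : Fact p.Prime := ⟨CharP.char_is_prime F p⟩
      exact key ⟨p, this.out, _, _, bad_G2, (typ_group (by simp [IsType, typeList]) F p).of_equiv e.symm⟩
    · obtain ⟨F, _, _, ⟨e⟩⟩ := h
      obtain ⟨p, hc⟩ := CharP.exists F
      have : Fact p.Prime := ⟨CharP.char_is_prime F p⟩
      exact key ⟨p, this.out, _, _, bad_F4, (typ_group (by simp [IsType, typeList]) F p).of_equiv e.symm⟩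
    · obtain ⟨F, _, _, ⟨e⟩⟩ := h
      obtain ⟨p, hc⟩ := CharP.exists F
      have : Fact p.Prime := ⟨CharP.char_is_prime F p⟩
      exact key ⟨p, this.out, _, _, bad_E6, (typ_group (by simp [IsType, typeList]) F p).of_equiv e.symm⟩
    · obtain ⟨F, _, _, ⟨e⟩⟩ := h
      obtain ⟨p, hc⟩ := CharP.exists F
      have : Fact p.Prime := ⟨CharP.char_is_prime F p⟩
      exact key ⟨p, this.out, _, _, bad_E7, (typ_group (by simp [IsType, typeList]) F p).of_equiv e.symm⟩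
    · obtain ⟨F, _, _, ⟨e⟩⟩ := h
      obtain ⟨p, hc⟩ := CharP.exists F
      have : Fact p.Prime := ⟨CharP.char_is_prime F p⟩
      exact key ⟨p, this.out, _, _, bad_E8, (typ_group (by simp [IsType, typeList]) F p).of_equiv e.symm⟩
    · obtain ⟨K, _, _, q, hq, hK, ⟨e⟩⟩ := h
      obtain ⟨p, hc⟩ := CharP.exists K
      have : Fact p.Prime := ⟨CharP.char_is_prime K p⟩
      exact key ⟨p, this.out, _, _, bad_F4, (typ_twE6 hq hK p).of_equiv e.symm⟩
    · obtain ⟨K, _, _, q, hq, hK, ⟨e⟩⟩ := h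
      obtain ⟨p, hc⟩ := CharP.exists K
      have : Fact p.Prime := ⟨CharP.char_is_prime K p⟩
      exact key ⟨p, this.out, _, _, bad_G2, (typ_twD4 hq hK p).of_equiv e.symm⟩
    · exact Or.inr (Or.inr (Or.inr (Or.inr (Or.inr (Or.inl h)))))
    · exact Or.inr (Or.inr (Or.inr (Or.inr (Or.inr (Or.inr (Or.inl h))))))
    · exact Or.inr (Or.inr (Or.inr (Or.inr (Or.inr (Or.inr (Or.inr (Or.inl h)))))))
    · exact Or.inr (Or.inr (Or.inr (Or.inr (Or.inr (Or.inr (Or.inr (Or.inr (Or.inl h))))))))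
  · exact Or.inr (Or.inr (Or.inr (Or.inr (Or.inr (Or.inr (Or.inr (Or.inr (Or.inr h))))))))

/-! ### the unipotent subgroup -/

section RGDfacts

variable {I W Y : Type*} [Fintype I] [DecidableEq I] [Group W] [Group Y] {M : CoxeterMatrix I}
  {cs : CoxeterSystem M W} {A : I → I → ℤ} {h : IsCartan M A} {p : ℕ} {T : Subgroup Y} {n : I → Y}
  {X : (I → ℤ) → Subgroup Y}

/-- **Rank at least two: `p ^ 2` divides the order.** -/
theorem sq_dvd_of_rgd [Finite W] [Finite Y] [hp : Fact p.Prime] (R : RGD cs h p T n X) {i j : I} (hij : i ≠ j) :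
    p ^ 2 ∣ Nat.card Y := by
  set U := RGD.Sup X (RGD.Pos cs h) with hU
  set V := RGD.Sup X (RGD.PosNe cs h i) with hV
  have hUp : IsPGroup p ↥U := R.isPGroup_Upos
  have hVU : V ≤ U := by rw [hU, R.Upos_eq i]; exact le_sup_right
  have hVp : IsPGroup p ↥V := hUp.to_le hVU
  -- `V ≠ ⊥`
  have hV1 : V ≠ ⊥ := by
    intro h0
    have h1 : X (sr j) ≤ V := by
      refine RGD.le_Sup (S := RGD.PosNe cs h i) ?_
      refine ⟨isRoot_sr cs h j, sr_nonneg j, fun e => hij ?_⟩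
      by_contra hne
      have := congrFun e j
      rw [sr_self, sr_ne (Ne.symm hne)] at this
      exact one_ne_zero this
    exact X_ne_bot R (isRoot_sr cs h j) (le_bot_iff.1 (h0 ▸ h1))
  -- `V ≠ U`
  have hV2 : V ≠ U := by
    intro h0
    have h1 : X (sr i) ≤ V := by
      rw [h0]; exact RGD.le_Sup (S := RGD.Pos cs h) ⟨isRoot_sr cs h i, sr_nonneg i⟩
    have h2 : X (-sr i) ≤ V := by
      have h3 := R.cj_n_V i
      have h4 := R.conj i (sr i) (isRoot_sr cs h i)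
      rw [rep_simple_sr] at h4
      rw [← h4, hV, ← h3]
      exact cj_mono _ h1
    exact R.notp i (hVp.to_le (sup_le h1 h2))
  obtain ⟨a, ha⟩ := IsPGroup.iff_card.1 hUp
  obtain ⟨b, hb⟩ := IsPGroup.iff_card.1 hVp
  have hb1 : b ≠ 0 := by
    rintro rfl
    rw [pow_zero] at hb
    exact hV1 (Subgroup.card_eq_one.1 hb)
  have hab : b ≠ a := by
    rintro rfl
    exact hV2 (Subgroup.eq_of_le_of_card_ge hVU (by rw [ha, hb]))
  have hle : p ^ b ∣ p ^ a := by rw [← ha, ← hb]; exact Subgroup.card_dvd_of_le hVU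
  have hle' : b ≤ a := (Nat.pow_dvd_pow_iff_le_right hp.out.one_lt).1 hle
  exact (pow_dvd_pow p (by omega : 2 ≤ a)).trans (ha ▸ Subgroup.card_subgroup_dvd_card U)

/-- A simple group with a root group datum of positive rank has trivial center. -/
theorem center_eq_bot_of_rgd [IsSimpleGroup Y] (R : RGD cs h p T n X) (i : I) : Subgroup.center Y = ⊥ := by
  rcases (inferInstance : (Subgroup.center Y).Normal).eq_bot_or_eq_top with h1 | h1
  · exact h1
  exfalso
  have h4 := R.conj i (sr i) (isRoot_sr cs h i)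
  rw [rep_simple_sr] at h4
  have h5 : cj (n i) (X (sr i)) = X (sr i) := by
    ext x
    rw [mem_cj]
    have h6 : n i ∈ Subgroup.center Y := h1 ▸ Subgroup.mem_top _
    have h7' : (n i)⁻¹ * x * n i = x := by
      rw [mul_assoc, Subgroup.mem_center_iff.1 h6 x, inv_mul_cancel_left]
    rw [h7']
  apply R.notp i
  rw [← h4, h5, sup_idem]
  exact R.pgrp i

end RGDfacts

/-- **No 2-transitive action of degree prime to the characteristic.** -/
theorem BadGroup.false_of_two_trans {r : ℕ} (hr : r.Prime) {G : Type*} [Group G] [Finite G] [IsSimpleGroup G]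
    (hG : BadGroup r G) {Ω : Type*} [MulAction G Ω] [Finite Ω] (h2 : MulAction.IsMultiplyPretransitive G Ω 2)
    (hΩ : 1 < Nat.card Ω) (hdvd : ¬ r ∣ Nat.card Ω) : False := by
  obtain ⟨l, M, hM, A, h, T, n, X, hW, R, hX⟩ := hG
  have := Fact.mk hr
  obtain ⟨i, k, hik⟩ := hM.exists_ne
  have hc := center_eq_bot_of_rgd R i
  obtain ⟨α, hα⟩ := IsPGroup.nonempty_fixed_point_of_prime_not_dvd_card (R.isPGroup_Upos) Ω hdvd
  have hU : RGD.Sup X (RGD.Pos M.toCoxeterSystem h) ≤ MulAction.stabilizer G α := fun u hu => hα ⟨u, hu⟩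
  have htr : MulAction.IsPretransitive G Ω := by
    have := h2
    exact MulAction.isPretransitive_of_is_two_pretransitive
  have hne : MulAction.stabilizer G α ≠ ⊤ := by
    intro htop
    have : Nontrivial Ω := Finite.one_lt_card_iff_nontrivial.1 hΩ
    obtain ⟨β, hβ⟩ := exists_ne α
    obtain ⟨g, hg⟩ := MulAction.exists_smul_eq G α β
    have : g ∈ MulAction.stabilizer G α := htop ▸ Subgroup.mem_top g
    exact hβ (hg.symm.trans this)
  obtain ⟨h3, h4⟩ := TwoTransRGD.bonds R hc hX h2 α hU hne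
  rcases hM with ⟨a, b, hab, m2, m3⟩ | ⟨k, i₁, i₂, i₃, q1, q2, q3, q4, q5, q6, q7, q8, q9⟩
  · rcases h3 a b hab with h5 | h5
    · exact m2 h5
    · exact m3 h5
  · exact h4 k i₁ i₂ i₃ q1 q2 q3 q4 q5 q6 q7 q8 q9

theorem BadGroup.sq_dvd {r : ℕ} (hr : r.Prime) {G : Type*} [Group G] [Finite G] (hG : BadGroup r G) :
    r ^ 2 ∣ Nat.card G := by
  obtain ⟨l, M, hM, A, h, T, n, X, hW, R, hX⟩ := hG
  have := Fact.mk hr
  obtain ⟨i, k, hik⟩ := hM.exists_ne
  exact sq_dvd_of_rgd R hik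

/-- **No action of prime degree.** -/
theorem BadGroup.false_of_prime {r : ℕ} (hr : r.Prime) {G : Type*} [Group G] [Finite G] [IsSimpleGroup G]
    (hG : BadGroup r G) {Ω : Type*} [MulAction G Ω] [Finite Ω] (h2 : MulAction.IsMultiplyPretransitive G Ω 2)
    {p : ℕ} (hp : p.Prime) (hΩ : Nat.card Ω = p) (hsq : ¬ p ^ 2 ∣ Nat.card G) : False := by
  refine hG.false_of_two_trans hr h2 (by rw [hΩ]; exact hp.one_lt) ?_
  rw [hΩ, Nat.prime_dvd_prime_iff_eq hr hp]
  rintro rfl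
  exact hsq (hG.sq_dvd hr)

end Cfsg.Agent.H410.Types
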