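import Cfsg.Agent.H410.BldgAS
import Cfsg.Agent.H410.TwFFour
import Cfsg.Agent.H410.ASLie
import Cfsg.Agent.S1111

/-!
# 2-transitive groups with socle `²F₄(q)`: even degree (helper410)

* `exists_split` : the split (B,N)-pair of `²F₄(q)`, with a Weyl group of order `16`;
* `even` : `AS G Ω T`, `Iso2F4 T` implies `2 ∣ |Ω|`.
-/

set_option autoImplicit false
set_option linter.unusedSectionVars false

namespace Cfsg.Agent.H410.TwFFourAS

open Cfsg.Lie
open Cfsg.Agent.ChevalleyStructure.TwF4.Tables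
open Cfsg.Agent.ChevalleyStructure.TwF4.Rel
open Cfsg.Agent.ChevalleyStructure.TwF4.Groups Cfsg.Agent.ChevalleyStructure.TwF4.RankOne
open Cfsg.Agent.ChevalleyStructure.TwF4.Twisted Cfsg.Agent.ChevalleyStructure.TwF4.TwistedFix
open Cfsg.Agent.ChevalleyStructure.TwF4.BN
open Cfsg.Agent.ChevalleyStructure.TwF4.Torus (T chi T_conj_X T_inr chi_def)
open Cfsg.Agent.ChevalleyStructure.F4NTab (ca)
open Cfsg.Agent.ChevalleyStructure.TwF4.TwGen (tc tc_mul chi_tc_24 chi_tc_25 chi_tc_33 chi_tc_27 chi28 chi30 pow_all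
  n1_eq n2_eq n1_conj_T n2_conj_T)
open Cfsg.Agent.ChevalleyStructure.TwF4.TorusFix (mem_iff pow_unit T_rt rt)
open Cfsg.Agent.ChevalleyStructure.TwF4.Fix (Fix)
open Cfsg.Agent.ChevalleyStructure.TwF4.OrderCls (X_inj)
open Cfsg.Agent.Schreier.TwFFour
open Cfsg.Agent.Octagon.KSys Cfsg.Agent.Octagon.KPar Cfsg.Agent.Octagon.KRoot Cfsg.Agent.Octagon.Pkg
open Cfsg.Agent.ParSys.Fam.TwoFFour

/-- **The split (B,N)-pair of `²F₄(q)`**, with the order of the Weyl group. -/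
theorem exists_split {K : Type*} [Field K] [Fintype K] {m : ℕ} (hm : 1 ≤ m) (hK : Fintype.card K = 2 ^ (2 * m + 1)) :
    ∃ (Q : Cfsg.BNPair ↥(twistedF4 K (2 ^ m))) (UE : Subgroup ↥(twistedF4 K (2 ^ m)))
      (s t : ↥(twistedF4 K (2 ^ m))), FixBN.Split Q 2 UE ∧ Q.S = {s, t} ∧ (Q.B ⊓ Q.N).relIndex Q.N = 16 := by
  have : CharP K 2 := charP_two hK
  have : Fact (Nat.Prime 2) := ⟨Nat.prime_two⟩
  obtain ⟨φ, hφ⟩ := exists_rln hK
  obtain ⟨P, hPB, hPN, -, hPS⟩ := Cfsg.Agent.ChevalleyStructure.TwF4.BNIrred.exists_bnPair_irreducible hφ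
  have hB : P.B = B0 K (2 ^ m) := hPB
  have hdec := dec hK hφ
  have hUp := isPGroup_U0 hK
  set s1 : ↥(twistedF4 K (2 ^ m)) := m1 K (2 ^ m) with hs1
  set s2 : ↥(twistedF4 K (2 ^ m)) := m2 hφ with hs2
  have node_1 : Cfsg.Agent.Schreier.BNSch.Node P (U0 K (2 ^ m)) s1 (V1 K (2 ^ m)) := node1 hφ hB
  have node_2 : Cfsg.Agent.Schreier.BNSch.Node P (U0 K (2 ^ m)) s2 (V8 K (2 ^ m)) := node2 hφ hB
  have hdB : ∀ b ∈ P.B, ∃ s t : Kˣ, ∃ u ∈ U0 K (2 ^ m), b = u * tt hdec s t := by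
    intro b hb
    rw [hB] at hb
    obtain ⟨s, t, u, hu, hbu⟩ := hdec.1 b hb
    exact ⟨s, t, u, hu, Subtype.ext hbu⟩
  have httB : ∀ s t : Kˣ, tt hdec s t ∈ P.B := fun s t => by rw [hB]; exact tt_B0 hdec s t
  have httN : ∀ s t : Kˣ, tt hdec s t ∈ P.N := fun s t => by
    rw [hPN]
    exact Cfsg.Agent.ChevalleyStructure.TwF4.NStruct.T_mem_N _
  have hH : ∀ h ∈ P.B, h ∈ P.N → ∃ s t : Kˣ, h = tt hdec s t := by
    intro h hh hN
    rw [hPB, Subgroup.mem_subgroupOf] at hh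
    rw [hPN, Subgroup.mem_subgroupOf] at hN
    have h1 := borel_inf_N ⟨hh, hN⟩
    obtain ⟨s, t, hst⟩ := (mem_iff hK (h : GL chevF4.Idx K)).1 ⟨h1, h.2⟩
    exact ⟨s, t, Subtype.ext hst⟩
  have hUB : U0 K (2 ^ m) ≤ P.B := by rw [hB]; exact U0_le_B0
  have hnorm : ∀ b ∈ P.B, ∀ u ∈ U0 K (2 ^ m), b * u * b⁻¹ ∈ U0 K (2 ^ m) := fun b hb u hu => by
    rw [hB] at hb
    exact conj_U0 hb hu
  have hsplit : FixBN.Split P 2 (U0 K (2 ^ m)) :=
    { le := hUB
      norm := hnorm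
      isP := hUp
      cover := fun b hb => by
        obtain ⟨s, t, u, hu, rfl⟩ := hdB b hb
        refine ⟨u, hu, ?_⟩
        rw [inv_mul_cancel_left]
        exact httN s t
      tor := ⟨2 ^ (2 * m + 1) - 1, by
        have h1 : 2 ∣ 2 ^ (2 * m + 1) := dvd_pow_self 2 (by omega)
        have h2 : 0 < 2 ^ (2 * m + 1) := by positivity
        omega, fun h hh hN => by
        obtain ⟨s, t, rfl⟩ := hH h hh hN
        apply Subtype.ext
        show T (tc (2 ^ m) s t) ^ (2 ^ (2 * m + 1) - 1) = 1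
        rw [← map_pow]
        have h2 : tc (2 ^ m) s t ^ (2 ^ (2 * m + 1) - 1) = 1 := by
          have h3 : ∀ x : Kˣ, x ^ (2 ^ (2 * m + 1) - 1) = 1 := by
            intro x
            have h4 := pow_card_eq_one' (x := x)
            rwa [Nat.card_units, Nat.card_eq_fintype_card, hK] at h4
          funext l
          rw [Pi.pow_apply, h3]; rfl
        rw [h2, map_one]⟩
      node := by
        intro s hs
        rw [hPS] at hs
        rcases hs with rfl | hs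
        · exact ⟨_, node_1⟩
        · rw [Set.mem_singleton_iff] at hs
          subst hs
          exact ⟨_, node_2⟩
      core := by
        obtain ⟨hsimp, -⟩ := Cfsg.Agent.S1072.result hm hK
        rcases hsimp.eq_bot_or_eq_top_of_normal P.B.normalCore inferInstance with h | h
        · exact h
        · exfalso
          have h1 : P.B = ⊤ := by
            rw [eq_top_iff, ← h]
            exact Subgroup.normalCore_le _
          obtain ⟨u, hu, huV⟩ := node_1.ne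
          exact huV (node_1.stab u hu (by rw [h1]; exact Subgroup.mem_top _)) }
  refine ⟨P, U0 K (2 ^ m), s1, s2, hsplit, hPS, ?_⟩
  obtain ⟨ψ, hψ, hker⟩ := Cfsg.Agent.S1111.result hK
  have h1 : ((chevF4.diagonalSubgroup K ⊓ twistedF4 K (2 ^ m)).relIndex
      (chevF4.monomialSubgroup K ⊓ twistedF4 K (2 ^ m))) = 16 := by
    rw [Subgroup.relIndex, ← hker, Subgroup.index_ker, MonoidHom.range_eq_top.2 hψ, Subgroup.card_top]
    rw [DihedralGroup.nat_card]
  have h2 : P.N = (chevF4.monomialSubgroup K ⊓ twistedF4 K (2 ^ m)).subgroupOf (twistedF4 K (2 ^ m)) := by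
    rw [hPN, Subgroup.inf_subgroupOf_right]
  have h3 : P.B ⊓ P.N = (chevF4.diagonalSubgroup K ⊓ twistedF4 K (2 ^ m)).subgroupOf (twistedF4 K (2 ^ m)) := by
    rw [hPB, hPN, Subgroup.inf_subgroupOf_right]
    apply le_antisymm
    · rintro x ⟨hx1, hx2⟩
      exact borel_inf_N ⟨hx1, hx2⟩
    · intro x hx
      have h4 : (x : GL chevF4.Idx K) ∈ chevF4.diagonalSubgroup K := hx
      exact ⟨(le_sup_right : _ ≤ chevF4.posUnipotent K ⊔ chevF4.diagonalSubgroup K) h4,
        (le_sup_left : chevF4.diagonalSubgroup K ≤ chevF4.monomialSubgroup K) h4⟩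
  rw [h3, h2, Subgroup.relIndex_subgroupOf inf_le_right, h1]

open Cfsg.Agent.H384.TwoTrans Cfsg.Agent.FixBN Cfsg.Agent.Tits.OfBN MulAction in
/-- **The degree is even.** -/
theorem even {G Ω : Type*} [Group G] [MulAction G Ω] {T : Subgroup G} (A : AS G Ω T) (h : Cfsg.Lie.Iso2F4 ↥T) :
    2 ∣ Nat.card Ω := by
  by_contra hdvd
  obtain ⟨F, _, _, m, hm, hF, ⟨e⟩⟩ := h
  have : Fact (Nat.Prime 2) := ⟨Nat.prime_two⟩
  have := A.finG
  have := A.finΩ
  have := A.simple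
  have := A.normal
  obtain ⟨Q, UE, s, t, hsp, hS, hrel⟩ := exists_split (K := F) hm hF
  have hspl := Transport.split e.symm Q hsp
  set P := Transport.mapBN e.symm Q with hP
  have hPS : P.S = {e.symm s, e.symm t} := by
    show e.symm '' Q.S = _
    rw [hS, Set.image_pair]
  have hN : ((P.B ⊓ P.N).subgroupOf P.N).Normal := normal_subgroupOf P
  obtain ⟨M, cs, hcs⟩ := S0320.result P
  have hI : Finite P.S := OfBN.finite_I (Equiv.refl P.S)
  have hIn : Nonempty P.S := ⟨⟨e.symm s, by rw [hPS]; exact Set.mem_insert _ _⟩⟩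
  have Sy := OfBN.sys (Equiv.refl P.S) cs hcs hspl
  have hth := thick P (Equiv.refl P.S) cs hcs
  obtain ⟨Ac⟩ := Omega.ML.LieRow.exists_hact Sy hth (fun τ => UGT.U2.FOne.exists_mv hspl (Equiv.refl P.S) cs hcs τ)
  set c : ↥T ⧸ P.B := QuotientGroup.mk 1 with hc
  obtain ⟨α, hα⟩ := IsPGroup.nonempty_fixed_point_of_prime_not_dvd_card (Sy.isP c) Ω hdvd
  have hU : Sy.U c ≤ stabilizer ↥T α := fun u hu => hα ⟨u, hu⟩
  have h10 := BldgAS.card_le_ten Sy Ac hth A.two hU (ASLie.ne_top A α)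
    (i₁ := ⟨e.symm s, by rw [hPS]; exact Set.mem_insert _ _⟩)
    (i₂ := ⟨e.symm t, by rw [hPS]; exact Set.mem_insert_of_mem _ rfl⟩) (by
      rintro ⟨x, hx⟩
      have hx' : x ∈ P.S := hx
      rw [hPS] at hx'
      rcases hx' with h | h
      · exact Or.inl (Subtype.ext h)
      · exact Or.inr (Subtype.ext h))
  have h16 : Nat.card (WP P) = 16 := by
    rw [← hrel]
    have h1 : P.B ⊓ P.N = (Q.B ⊓ Q.N).map e.symm.toMonoidHom := by
      show Q.B.map e.symm.toMonoidHom ⊓ Q.N.map e.symm.toMonoidHom = _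
      rw [Subgroup.map_inf _ _ _ e.symm.injective]
    have h2 : P.N = Q.N.map e.symm.toMonoidHom := rfl
    rw [← Subgroup.relIndex_map_map_of_injective (f := e.symm.toMonoidHom) (Q.B ⊓ Q.N) Q.N e.symm.injective, ← h1, ← h2]
    rfl
  omega

end Cfsg.Agent.H410.TwFFourAS
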