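import Cfsg.Agent.H410.EndFld
import Cfsg.Agent.H459.Iface
import Cfsg.Agent.H628.ZRowSz
import Cfsg.Agent.H101.SzGeo
import Cfsg.Agent.OddCyclic.ClaimC.SzIso
import Cfsg.Agent.SignalizersComponents.CoprimeBasic

/-!
# The row of the Suzuki groups (helper410, for S3829, S3832, S4336)

`endAt_suzuki`: a radical automorphism of prime order `p ≥ 5` of a Suzuki group is inner. Only `PS 2` is used.

An outer automorphism of order `p` is conjugate to a field automorphism `σ` (`CycConj.aut_conj`). If `w` is an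
involution fixed by `σ`, `w ∉ P a`, `σ (P a) = P a`, and `u` is an involution of `P a` with `σ u ≠ u` then
`⟨σ, σ ^ (u w u)⟩` is not solvable.
-/

set_option autoImplicit false
set_option linter.unusedSectionVars false

namespace Cfsg.Agent.H410.EndSz

open Subgroup MulAction Cfsg.Agent.H101.SzAbs Cfsg.Agent.H101.SzAbs.Geo Cfsg.Agent.H459.Rad
  Cfsg.Agent.H459.Iface
open scoped commutatorElement

/-- a nontrivial solvable group has a nontrivial abelian normal subgroup -/
theorem exists_abelian_normal {D : Type*} [Group D] [Nontrivial D] (h : Group.IsSolvable D) :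
    ∃ A : Subgroup D, A.Normal ∧ A ≠ ⊥ ∧ ∀ x ∈ A, ∀ y ∈ A, x * y = y * x := by
  classical
  have hex : ∃ n, derivedSeries D n = ⊥ := (Group.isSolvable_def D).1 h
  set n := Nat.find hex with hn
  have h1 : derivedSeries D n = ⊥ := Nat.find_spec hex
  have h0 : n ≠ 0 := by
    intro h0
    rw [h0, derivedSeries_zero] at h1
    exact top_ne_bot h1
  obtain ⟨k, hk⟩ := Nat.exists_eq_succ_of_ne_zero h0
  refine ⟨derivedSeries D k, inferInstance, Nat.find_min hex (by omega), ?_⟩
  intro x hx y hy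
  have h2 : ⁅x, y⁆ ∈ derivedSeries D n := by
    rw [hk, Nat.succ_eq_add_one, derivedSeries_succ]
    exact commutator_mem_commutator hx hy
  rw [h1, mem_bot] at h2
  exact commutatorElement_eq_one_iff_mul_comm.1 h2

section abs

variable {G Ω : Type*} [Group G] [MulAction G Ω] {P : Ω → Subgroup G}

/-- elements outside the `P a` have abelian centralisers -/
def AbC (P : Ω → Subgroup G) : Prop :=
  ∀ y : G, y ≠ 1 → (∀ a, y ∉ P a) → ∀ b c : G, b * y = y * b → c * y = y * c → b * c = c * b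

theorem comm_of_solvable (h : Geo G Ω P) (hab : AbC P) {D : Subgroup G} (hD : Group.IsSolvable D)
    {a b : Ω} (hne : a ≠ b) {t₁ t₂ t₃ : G} (h1 : t₁ ∈ inv P a) (h2 : t₂ ∈ inv P b) (h3 : t₃ * t₃ = 1)
    (h31 : t₃ ≠ 1) (hD1 : t₁ ∈ D) (hD2 : t₂ ∈ D) (hD3 : t₃ ∈ D) : t₁ * t₂ * (t₂ * t₃) = t₂ * t₃ * (t₁ * t₂) := by
  have hnt : Nontrivial D := ⟨⟨⟨t₁, hD1⟩, 1, fun h0 => h1.2.2 (congrArg Subtype.val h0)⟩⟩
  obtain ⟨A, hAn, hA1, hAc⟩ := exists_abelian_normal hD
  have hconj : ∀ d ∈ D, ∀ y : D, y ∈ A → ∃ z : D, z ∈ A ∧ (z : G) = d * y * d⁻¹ := fun d hd y hy =>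
    ⟨⟨d, hd⟩ * y * ⟨d, hd⟩⁻¹, hAn.conj_mem y hy ⟨d, hd⟩, rfl⟩
  have hcomm : ∀ y z : D, y ∈ A → z ∈ A → (y : G) * z = z * y := fun y z hy hz => congrArg Subtype.val (hAc y hy z hz)
  by_cases hc : ∃ y : D, y ∈ A ∧ y ≠ 1 ∧ ∃ c, (y : G) ∈ P c
  · exfalso
    obtain ⟨y, hy, hy1, c, hyc⟩ := hc
    have hy1' : (y : G) ≠ 1 := fun h0 => hy1 (Subtype.ext h0)
    have key : ∀ {d : Ω} {t : G}, t ∈ inv P d → t ∈ D → d = c := by
      intro d t ht htD
      obtain ⟨z, hz, hzy⟩ := hconj t htD y hy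
      have h4 : (z : G) ∈ P c := h.cent c y hyc hy1' z (hcomm z y hz hy)
      have h5 : (z : G) ∈ P (t • c) := by
        rw [hzy]
        exact h.conj t c y hyc
      have hz1 : (z : G) ≠ 1 := by
        rw [hzy]
        intro h0
        apply hy1'
        calc (y : G) = t⁻¹ * (t * y * t⁻¹) * t := by group
          _ = 1 := by rw [h0]; group
      have h6 : t • c = c := (h.free _ c z h5 (h.le c z h4) hz1).symm
      exact (h.free d c t ht.1 h6 ht.2.2).symm
    exact hne ((key h1 hD1).trans (key h2 hD2).symm)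
  · push Not at hc
    obtain ⟨y, hyA, hy1⟩ := A.ne_bot_iff_exists_ne_one.1 hA1 |> fun ⟨y, hy⟩ => (⟨y, y.2, fun h0 => hy (Subtype.ext h0)⟩ :
      ∃ y : D, y ∈ A ∧ y ≠ 1)
    have hinv : ∀ {t : G}, t * t = 1 → t ≠ 1 → t ∈ D → t * y * t⁻¹ = (y : G)⁻¹ := by
      intro t ht ht1 htD
      obtain ⟨z, hz, hzy⟩ := hconj t htD y hyA
      obtain ⟨c, hcP⟩ := h.fix t ht ht1
      have hti : t⁻¹ = t := inv_eq_of_mul_eq_one_right ht
      have h4 : ((y * z : D) : G) * t = t * (y * z : D) := by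
        have h5 : ((y * z : D) : G) = z * y := by
          rw [hAc y hyA z hz]
          rfl
        have h6 : t * ((y * z : D) : G) = t * y * (t * y * t⁻¹) := by
          change t * ((y : G) * z) = _
          rw [hzy]
          group
        rw [h6, h5, hzy, hti]
        calc t * y * t * y * t = (t * y) * (t * y * t) := by group
          _ = _ := rfl
      by_contra hne1
      have h7 : y * z ≠ 1 := by
        intro h0
        apply hne1
        have h8 : (y : G) * z = 1 := congrArg Subtype.val h0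
        rw [← hzy]
        exact (inv_eq_of_mul_eq_one_right h8).symm
      exact hc (y * z) (A.mul_mem hyA hz) h7 c (h.cent c t hcP ht1 _ h4)
    have hi1 := hinv h1.2.1 h1.2.2 hD1
    have hi2 := hinv h2.2.1 h2.2.2 hD2
    have hi3 := hinv h3 h31 hD3
    have hcc : ∀ {s t : G}, s * y * s⁻¹ = (y : G)⁻¹ → t * y * t⁻¹ = (y : G)⁻¹ → s * t * y = y * (s * t) := by
      intro s t hs ht
      have h4 : s * t * y * (s * t)⁻¹ = y := by
        calc s * t * y * (s * t)⁻¹ = s * (t * y * t⁻¹) * s⁻¹ := by group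
          _ = (s * y * s⁻¹)⁻¹ := by rw [ht]; group
          _ = y := by rw [hs, inv_inv]
      exact mul_inv_eq_iff_eq_mul.1 h4
    exact hab y (fun h0 => hy1 (Subtype.ext h0)) (fun a ha => hc y hyA hy1 a ha) _ _ (hcc hi1 hi2) (hcc hi2 hi3)

/-- the product of two involutions with different fixed points has odd order -/
theorem odd_order [Finite G] (h : Geo G Ω P) {a b : Ω} (hab : a ≠ b) {t u : G} (ht : t ∈ inv P a) (hu : u ∈ inv P b) :
    Odd (orderOf (t * u)) := by
  obtain ⟨ht, ht2, ht1⟩ := ht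
  obtain ⟨hu, hu2, hu1⟩ := hu
  by_contra hodd
  rw [Nat.not_odd_iff_even] at hodd
  obtain ⟨k, hk⟩ := hodd
  set w := t * u with hw
  have htw : t * w = w⁻¹ * t := by
    rw [hw, mul_inv_rev, inv_eq_of_mul_eq_one_right hu2, inv_eq_of_mul_eq_one_right ht2]
    rw [← mul_assoc, ht2, one_mul, mul_assoc, ht2, mul_one]
  have htwn : ∀ n : ℕ, t * w ^ n = (w⁻¹) ^ n * t := by
    intro n
    induction n with
    | zero => simp
    | succ n ih => rw [pow_succ, ← mul_assoc, ih, mul_assoc, htw, ← mul_assoc, ← pow_succ]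
  have huw : u = t * w := by rw [hw, ← mul_assoc, ht2, one_mul]
  have hpos : 0 < orderOf w := orderOf_pos w
  set z := w ^ k with hz
  have hz1 : z ≠ 1 := by
    intro h1
    have := orderOf_dvd_of_pow_eq_one h1
    have := Nat.le_of_dvd (by omega) this
    omega
  have hzz : z * z = 1 := by
    rw [hz, ← pow_add, ← hk, pow_orderOf_eq_one]
  have hzi : z⁻¹ = z := inv_eq_of_mul_eq_one_right hzz
  have hzt : z * t = t * z := by
    rw [hz, htwn, inv_pow, ← hz, hzi]
  have hzw : z * w = w * z := by rw [hz, ← pow_succ, ← pow_succ']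
  have hzu : z * u = u * z := by
    rw [huw]
    calc z * (t * w) = z * t * w := by group
      _ = t * z * w := by rw [hzt]
      _ = t * (z * w) := by group
      _ = t * (w * z) := by rw [hzw]
      _ = t * w * z := by group
  have hza := h.cent a t ht ht1 z hzt
  have hzb := h.cent b u hu hu1 z hzu
  exact hab (h.free a b z hza (h.le b z hzb) hz1).symm

/-- an element of odd order commutes with everything which commutes with its square -/
theorem commute_of_sq {x y : G} (hx : Odd (orderOf x)) (h : Commute (x * x) y) : Commute x y := by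
  obtain ⟨k, hk⟩ := hx
  have h1 : x = (x * x) ^ (k + 1) := by
    have h2 : (x * x) ^ (k + 1) = x ^ (orderOf x) * x := by
      rw [← pow_two, ← pow_mul, hk, ← pow_succ]
      rfl
    rw [h2, pow_orderOf_eq_one, one_mul]
  rw [h1]
  exact h.pow_left _

theorem key [Finite G] (h : Geo G Ω P) (hab : AbC P) {σ : MulAut G} {w u : G} {a : Ω} (hw : w * w = 1) (hw1 : w ≠ 1)
    (hwa : w ∉ P a) (hσw : σ w = w) (hu : u ∈ P a) (hu' : σ u ∈ P a) (hu'' : σ (σ u) ∈ P a) (huu : u * u = 1)
    (hne : σ u ≠ u) (hne2 : σ (σ u) ≠ u) {D : Subgroup G} (hD : Group.IsSolvable D) (h1 : u * w * u ∈ D)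
    (h2 : σ (u * w * u) ∈ D) (h3 : σ (σ (u * w * u)) ∈ D) : False := by
  set u' := σ u with hu'd
  set u₂ := σ u' with hu₂d
  have hu'u' : u' * u' = 1 := by rw [hu'd, ← map_mul, huu, map_one]
  have hu₂u₂ : u₂ * u₂ = 1 := by rw [hu₂d, ← map_mul, hu'u', map_one]
  have hui : u⁻¹ = u := inv_eq_of_mul_eq_one_right huu
  have hu'i : u'⁻¹ = u' := inv_eq_of_mul_eq_one_right hu'u'
  have hu₂i : u₂⁻¹ = u₂ := inv_eq_of_mul_eq_one_right hu₂u₂
  have hc1 : u * u' = u' * u := h.central a u hu huu u' hu'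
  have hc2 : u' * u₂ = u₂ * u' := h.central a u' hu' hu'u' u₂ hu''
  have hc3 : u * u₂ = u₂ * u := h.central a u hu huu u₂ hu''
  -- the involutions
  obtain ⟨c, hc⟩ := h.fix w hw hw1
  have hca : a ≠ c := by
    rintro rfl
    exact hwa hc
  have e2 : σ (u * w * u) = u' * w * u' := by rw [map_mul, map_mul, hσw]
  have e3 : σ (σ (u * w * u)) = u₂ * w * u₂ := by rw [e2, map_mul, map_mul, hσw]
  rw [e3] at h3
  rw [e2] at h2
  have hmem : ∀ {x : G}, x * x = 1 → x * w * x ∈ inv P (x • c) := by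
    intro x hx
    have hxi : x⁻¹ = x := inv_eq_of_mul_eq_one_right hx
    refine ⟨?_, ?_, ?_⟩
    · have := h.conj x c w hc
      rwa [hxi] at this
    · calc x * w * x * (x * w * x) = x * w * (x * x) * w * x := by group
        _ = x * (w * w) * x := by rw [hx]; group
        _ = 1 := by rw [hw, mul_one, hx]
    · intro h0
      apply hw1
      calc w = x⁻¹ * (x * w * x) * x⁻¹ := by group
        _ = 1 := by rw [h0, hxi, mul_one, hx]
  have hv1 : u * u' ≠ 1 := by
    intro h0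
    exact hne (by rw [← inv_eq_of_mul_eq_one_right h0, hui])
  have hv'1 : u' * u₂ ≠ 1 := by
    intro h0
    have h4 : σ (u * u') = 1 := by rw [map_mul]; exact h0
    rw [← map_one σ] at h4
    exact hv1 (σ.injective h4)
  have hpts : u • c ≠ u' • c := by
    intro h0
    have h4 : (u * u') • c = c := by
      rw [mul_smul, ← h0, ← mul_smul, huu, one_smul]
    exact hca (h.free a c (u * u') ((P a).mul_mem hu hu') h4 hv1).symm
  have hcomm := comm_of_solvable h hab hD hpts (hmem huu) (hmem hu'u') (hmem hu₂u₂).2.1 (hmem hu₂u₂).2.2 h1 h2 h3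
  -- conjugate by `u'`
  obtain ⟨v, hv⟩ : ∃ v, v = u * u' := ⟨_, rfl⟩
  obtain ⟨v', hv'⟩ : ∃ v', v' = u' * u₂ := ⟨_, rfl⟩
  have hvv : v * v = 1 := by
    rw [hv]
    calc u * u' * (u * u') = u * (u' * u) * u' := by group
      _ = (u * u) * (u' * u') := by rw [← hc1]; group
      _ = 1 := by rw [huu, hu'u', one_mul]
  have hv'v' : v' * v' = 1 := by
    rw [hv']
    calc u' * u₂ * (u' * u₂) = u' * (u₂ * u') * u₂ := by group
      _ = (u' * u') * (u₂ * u₂) := by rw [← hc2]; group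
      _ = 1 := by rw [hu'u', hu₂u₂, one_mul]
  have hva : v ∈ P a := hv ▸ (P a).mul_mem hu hu'
  have hv'a : v' ∈ P a := hv' ▸ (P a).mul_mem hu' hu''
  have hvv' : v * v' = v' * v := h.central a v hva hvv v' hv'a
  have g1 : u' * (u * w * u * (u' * w * u')) * u' = v * w * (v * w) := by
    rw [hv]
    calc u' * (u * w * u * (u' * w * u')) * u' = (u' * u) * w * (u * u') * w * (u' * u') := by group
      _ = _ := by rw [hu'u', ← hc1]; group
  have g2 : u' * (u' * w * u' * (u₂ * w * u₂)) * u' = w * v' * (w * v') := by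
    rw [hv']
    calc u' * (u' * w * u' * (u₂ * w * u₂)) * u' = (u' * u') * w * (u' * u₂) * w * (u₂ * u') := by group
      _ = _ := by rw [hu'u', ← hc2]; group
  have hC : Commute (v * w * (v * w)) (w * v' * (w * v')) := by
    rw [← g1, ← g2]
    change _ * _ = _ * _
    calc u' * (u * w * u * (u' * w * u')) * u' * (u' * (u' * w * u' * (u₂ * w * u₂)) * u') =
        u' * (u * w * u * (u' * w * u')) * (u' * u') * (u' * w * u' * (u₂ * w * u₂)) * u' := by group
      _ = u' * (u * w * u * (u' * w * u') * (u' * w * u' * (u₂ * w * u₂))) * u' := by rw [hu'u']; group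
      _ = u' * (u' * w * u' * (u₂ * w * u₂) * (u * w * u * (u' * w * u'))) * u' := by rw [hcomm]
      _ = u' * (u' * w * u' * (u₂ * w * u₂)) * (u' * u') * (u * w * u * (u' * w * u')) * u' := by rw [hu'u']; group
      _ = _ := by group
  have hvI : v ∈ inv P a := ⟨hva, hvv, hv ▸ hv1⟩
  have hv'I : v' ∈ inv P a := ⟨hv'a, hv'v', hv' ▸ hv'1⟩
  have hwI : w ∈ inv P c := ⟨hc, hw, hw1⟩
  have hC2 : Commute (v * w) (w * v') :=
    commute_of_sq (odd_order h hca hvI hwI) ((commute_of_sq (odd_order h hca.symm hwI hv'I) hC.symm).symm)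
  have h4 : v * v' = w * v' * (v * w) := by
    calc v * v' = v * (w * w) * v' := by rw [hw, mul_one]
      _ = v * w * (w * v') := by group
      _ = _ := hC2.eq
  have h5 : w * (v * v') = v * v' * w := by
    calc w * (v * v') = w * (w * v' * (v * w)) := by rw [← h4]
      _ = (w * w) * (v' * v) * w := by group
      _ = v * v' * w := by rw [hw, one_mul, hvv']
  by_cases h6 : v * v' = 1
  · -- `v = v'`
    have h7 : v = v' := by
      rw [← inv_eq_of_mul_eq_one_right h6, inv_eq_of_mul_eq_one_right hvv]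
    apply hne2
    have h8 : u * u' = u₂ * u' := by rw [← hv, h7, hv', hc2]
    exact (mul_right_cancel h8).symm
  · exact hwa (h.cent a _ ((P a).mul_mem hva hv'a) h6 w h5)

end abs

/-- `PS 2` makes `⟨t, σ t, σ² t⟩` solvable -/
theorem exists_solvable {G : Type*} [Group G] [Finite G] {σ : MulAut G} (h : PS 2 σ)
    (hinj : Function.Injective (MulAut.conj : G →* MulAut G)) {t : G} (ht : t * t = 1) :
    ∃ D : Subgroup G, Group.IsSolvable D ∧ t ∈ D ∧ σ t ∈ D ∧ σ (σ t) ∈ D := by
  set c : MulAut G := MulAut.conj t with hc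
  have hcc : c * c = 1 := by rw [hc, ← map_mul, ht, map_one]
  have hci : c⁻¹ = c := inv_eq_of_mul_eq_one_right hcc
  have h1 := h ![1, t]
  set E : Subgroup (MulAut G) := closure (Set.range fun i => MulAut.conj (![1, t] i) * σ * (MulAut.conj (![1, t] i))⁻¹)
    with hE
  have hσE : σ ∈ E := subset_closure ⟨0, by simp⟩
  have hτE : c * σ * c⁻¹ ∈ E := subset_closure ⟨1, by simp [hc]⟩
  have hnorm : zpowers c ≤ normalizer (E : Set (MulAut G)) := by
    rw [zpowers_le, mem_normalizer_iff]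
    have key : ∀ x ∈ E, c * x * c⁻¹ ∈ E := by
      intro x hx
      have h2 : E ≤ E.comap (MulAut.conj c).toMonoidHom := by
        rw [hE, closure_le]
        rintro _ ⟨i, rfl⟩
        change c * _ * c⁻¹ ∈ E
        fin_cases i
        · simpa using hτE
        · have h3 : c * (MulAut.conj (![1, t] 1) * σ * (MulAut.conj (![1, t] 1))⁻¹) * c⁻¹ = σ := by
            have h4 : MulAut.conj (![1, t] 1) = c := by simp [hc]
            rw [h4]
            calc c * (c * σ * c⁻¹) * c⁻¹ = (c * c) * σ * (c * c)⁻¹ := by group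
              _ = σ := by rw [hcc, inv_one, mul_one, one_mul]
          change c * (MulAut.conj (![1, t] 1) * σ * (MulAut.conj (![1, t] 1))⁻¹) * c⁻¹ ∈ E
          rw [h3]
          exact hσE
      exact h2 hx
    intro x
    refine ⟨key x, fun hx => ?_⟩
    have h2 := key _ hx
    rwa [show c * (c * x * c⁻¹) * c⁻¹ = x by
      calc c * (c * x * c⁻¹) * c⁻¹ = (c * c) * x * (c * c)⁻¹ := by group
        _ = x := by rw [hcc, inv_one, mul_one, one_mul]] at h2
  have hsol : Group.IsSolvable ↥(E ⊔ zpowers c) :=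
    Cfsg.Agent.SignalizersComponents.CoprimeBasic.isSolvable_sup hnorm h1
      (Group.isSolvable_of_comm fun a b => by
        obtain ⟨i, hi⟩ := mem_zpowers_iff.1 a.2
        obtain ⟨j, hj⟩ := mem_zpowers_iff.1 b.2
        apply Subtype.ext
        change (a : MulAut G) * b = b * a
        rw [← hi, ← hj]
        exact (Commute.refl c).zpow_zpow i j)
  set E' := E ⊔ zpowers c with hE'
  have hσ' : σ ∈ E' := (le_sup_left : E ≤ E') hσE
  have hc' : c ∈ E' := (le_sup_right : zpowers c ≤ E') (mem_zpowers c)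
  have hconj : ∀ k : G, MulAut.conj k ∈ E' → MulAut.conj (σ k) ∈ E' := by
    intro k hk
    have h2 : MulAut.conj (σ k) = σ * MulAut.conj k * σ⁻¹ := by
      ext y
      simp [MulAut.conj_apply]
    rw [h2]
    exact E'.mul_mem (E'.mul_mem hσ' hk) (E'.inv_mem hσ')
  refine ⟨E'.comap MulAut.conj, ?_, hc', hconj t hc', hconj _ (hconj t hc')⟩
  let f : ↥(E'.comap (MulAut.conj : G →* MulAut G)) →* E' :=
    ((MulAut.conj : G →* MulAut G).comp (E'.comap (MulAut.conj : G →* MulAut G)).subtype).codRestrict E' fun x => x.2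
  exact Group.isSolvable_of_isSolvable_injective (f := f) (fun x y hxy => Subtype.ext (hinj (congrArg Subtype.val hxy)))

section sz

variable {F : Type*} [Field F] [Fintype F] {m : ℕ}

theorem abC (hm : 1 ≤ m) (hF : Fintype.card F = 2 ^ (2 * m + 1)) : AbC (Cfsg.Agent.H101.SzGeo.P hF) := by
  intro y hy hP b c hb hc
  rcases Cfsg.Agent.H101.SzGeo.trichotomy hm hF hy with ⟨a, ha⟩ | ⟨U, hyU, hcyc, -, hcent⟩
  · exact absurd ha (hP a)
  · have hbU : b ∈ U := by
      rw [← hcent y hyU hy, mem_centralizer_singleton_iff]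
      exact hb
    have hcU : c ∈ U := by
      rw [← hcent y hyU hy, mem_centralizer_singleton_iff]
      exact hc
    obtain ⟨z, hz⟩ := hcyc.exists_generator
    obtain ⟨i, hi⟩ := mem_zpowers_iff.1 (hz ⟨b, hbU⟩)
    obtain ⟨j, hj⟩ := mem_zpowers_iff.1 (hz ⟨c, hcU⟩)
    have h1 : (⟨b, hbU⟩ : U) * ⟨c, hcU⟩ = ⟨c, hcU⟩ * ⟨b, hbU⟩ := by
      rw [← hi, ← hj]
      exact (Commute.refl z).zpow_zpow i j
    exact congrArg Subtype.val h1

theorem aux (hm : 1 ≤ m) (hF : Fintype.card F = 2 ^ (2 * m + 1)) {p : ℕ} [hp : Fact p.Prime] (hp5 : 5 ≤ p) :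
    EndAt p ↥(Cfsg.Lie.Sz F (2 ^ (m + 1))) := by
  intro x hx hR hP
  have hp2 : p ≠ 2 := by omega
  obtain ⟨g, τ, hg⟩ := Cfsg.Agent.H70.SzAutThm.exists_conj_field hm hF x
  have hcycS := fun P : Sylow p ↥(Cfsg.Lie.Sz F (2 ^ (m + 1))) => Cfsg.Agent.H67.SzOdd.sylow_cyclic hm hF hp2 P
  by_cases hτ : τ = 1
  · exact ⟨⟨g, by rw [hg, hτ, map_one, mul_one]⟩, hcycS⟩
  exfalso
  have hxp : x ^ p = 1 := by rw [← hx, pow_orderOf_eq_one]
  have hZ := Cfsg.Agent.H67.SzOdd.center_sz hm hF
  obtain ⟨ho, k, hk⟩ := EndFld.conj_std hZ (Φ := Cfsg.Agent.H70.SzOut.fieldAut (Cfsg.Agent.LieRecognition.SzMatrix.good hF))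
    (fun σ τ => map_mul _ σ τ) (map_one _)
    (fun τ g hg => Cfsg.Agent.H70.SzOut.eq_one_of_conj (Cfsg.Agent.LieRecognition.SzMatrix.good hF) hg) hp2 hxp hg hτ
    hcycS (d := 2) (by norm_num) (Cfsg.Agent.H628.ZRowSz.card_sz hF) (Cfsg.Agent.H628.ZRowSz.card_fixed hF τ) (by
      rw [Nat.card_eq_fintype_card, hF]
      intro h1
      exact hp2 ((Nat.prime_dvd_prime_iff_eq hp.out Nat.prime_two).1 (hp.out.dvd_of_dvd_pow h1)))
  have hinj : Function.Injective (MulAut.conj : ↥(Cfsg.Lie.Sz F (2 ^ (m + 1))) →* _) := by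
    rw [injective_iff_map_eq_one]
    intro a ha
    have h1 : a ∈ center ↥(Cfsg.Lie.Sz F (2 ^ (m + 1))) := by
      rw [mem_center_iff]
      intro b
      have h2 : a * b * a⁻¹ = b := DFunLike.congr_fun ha b
      exact (mul_inv_eq_iff_eq_mul.1 h2).symm
    rwa [hZ, mem_bot] at h1
  set R := Cfsg.Agent.ThreePrime.SzRel.ofGood (Cfsg.Agent.LieRecognition.SzMatrix.good hF) with hRdef
  set σ := Cfsg.Agent.H70.SzOut.fieldAut (Cfsg.Agent.LieRecognition.SzMatrix.good hF) τ with hσ
  have hσu : ∀ b : F, σ (R.u 0 b) = R.u 0 (τ b) := by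
    intro b
    have h1 := Cfsg.Agent.H70.SzOut.fieldAut_u (Cfsg.Agent.LieRecognition.SzMatrix.good hF) τ 0 b
    rw [map_zero] at h1
    exact h1
  have hσw : σ R.w = R.w := Cfsg.Agent.H70.SzOut.fieldAut_w (Cfsg.Agent.LieRecognition.SzMatrix.good hF) τ
  have hPS : PS 2 σ := by
    intro f
    have h1 := hP fun i => f i * k⁻¹
    have h2 : (fun i => MulAut.conj (f i) * σ * (MulAut.conj (f i))⁻¹) =
        fun i => MulAut.conj (f i * k⁻¹) * x * (MulAut.conj (f i * k⁻¹))⁻¹ := by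
      funext i
      rw [hk, map_mul, map_inv]
      group
    rw [h2]
    exact h1
  obtain ⟨b, hb⟩ : ∃ b : F, τ b ≠ b := by
    by_contra h1
    push Not at h1
    exact hτ (RingEquiv.ext h1)
  have hb2 : τ (τ b) ≠ b := by
    intro h1
    apply hb
    have h2 : ∀ n : ℕ, (τ ^ (2 * n)) b = b := by
      intro n
      induction n with
      | zero => rfl
      | succ n ih =>
        have h3 : (τ ^ (2 * (n + 1))) b = (τ ^ (2 * n)) (τ (τ b)) := by
          rw [mul_add, pow_add]
          rfl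
        rw [h3, h1, ih]
    obtain ⟨n, hn⟩ := hp.out.odd_of_ne_two hp2
    have h3 : (τ ^ p) b = τ b := by
      rw [hn, pow_succ']
      exact congrArg τ (h2 n)
    rw [← h3, ← ho, pow_orderOf_eq_one]
    rfl
  have hww := R.w_mul_w
  have hwN := R.w_not_mem_normalizer
  have hw1 : R.w ≠ 1 := by
    intro h1
    rw [h1] at hwN
    exact hwN (one_mem _)
  have huu : ∀ c : F, R.u 0 c * R.u 0 c = 1 := fun c => (R.u_sq_iff 0 c).2 rfl
  have hucomm : ∀ c e : F, R.u 0 c * R.u 0 e = R.u 0 e * R.u 0 c := by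
    intro c e
    rw [R.comm_iff, zero_mul]
  obtain ⟨D, hD, hD1, hD2, hD3⟩ := exists_solvable hPS hinj (t := R.u 0 b * R.w * R.u 0 b) (by
    calc R.u 0 b * R.w * R.u 0 b * (R.u 0 b * R.w * R.u 0 b) =
        R.u 0 b * R.w * (R.u 0 b * R.u 0 b) * R.w * R.u 0 b := by group
      _ = R.u 0 b * (R.w * R.w) * R.u 0 b := by rw [huu]; group
      _ = 1 := by rw [hww, mul_one, huu])
  -- transport to the permutation model
  obtain ⟨e⟩ := Cfsg.Agent.OddCyclic.ClaimC.SzIso.iso hm hF
  have hG := Cfsg.Agent.H101.SzGeo.geo hm hF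
  have hfin : Finite ↥(Cfsg.Sz F m) := Finite.of_injective e e.injective
  have h11 : e.symm (R.u 0 1) ≠ 1 := by
    intro h1
    rw [map_eq_one_iff e.symm e.symm.injective] at h1
    exact R.u_ne_one one_ne_zero h1
  obtain ⟨a, ha⟩ := hG.fix (e.symm (R.u 0 1)) (by rw [← map_mul, huu, map_one]) h11
  have hua : ∀ c : F, e.symm (R.u 0 c) ∈ Cfsg.Agent.H101.SzGeo.P hF a := by
    intro c
    refine hG.cent a _ ha h11 _ ?_
    rw [← map_mul, ← map_mul, hucomm]
  have htr : ∀ y, tr e.symm σ (e.symm y) = e.symm (σ y) := by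
    intro y
    rw [tr_apply]
    simp
  refine key hG (abC hm hF) (σ := tr e.symm σ) (w := e.symm R.w) (u := e.symm (R.u 0 b)) (a := a)
    (D := D.map e.symm.toMonoidHom) ?_ ?_ ?_ ?_ (hua b) ?_ ?_ ?_ ?_ ?_ ?_ ?_ ?_ ?_
  · rw [← map_mul, hww, map_one]
  · intro h1
    exact hw1 ((map_eq_one_iff e.symm e.symm.injective).1 h1)
  · intro h1
    apply hwN
    have h2 := hG.central a _ ha (by rw [← map_mul, huu, map_one]) _ h1
    rw [← map_mul, ← map_mul] at h2
    have h3 := e.symm.injective h2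
    refine R.ti (x := R.u 0 1) (R.u_mem 0 1) (R.u_ne_one one_ne_zero) ?_
    rw [← h3, mul_inv_cancel_right]
    exact R.u_mem 0 1
  · rw [htr, hσw]
  · rw [htr, hσu]
    exact hua _
  · rw [htr, htr, hσu, hσu]
    exact hua _
  · rw [← map_mul, huu, map_one]
  · rw [htr, hσu]
    intro h1
    exact hb (R.u_inj (e.symm.injective h1)).2
  · rw [htr, htr, hσu, hσu]
    intro h1
    exact hb2 (R.u_inj (e.symm.injective h1)).2
  · exact Cfsg.Agent.SignalizersComponents.ComponentExists.isSolvable_map hD _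
  · exact ⟨_, hD1, by simp⟩
  · rw [← map_mul, ← map_mul, htr]
    exact ⟨_, hD2, rfl⟩
  · rw [← map_mul, ← map_mul, htr, htr]
    exact ⟨_, hD3, rfl⟩

end sz

/-- **The row of the Suzuki groups.** -/
theorem endAt_suzuki {K : Type*} [Group K] [Finite K] [IsSimpleGroup K] {p : ℕ} [Fact p.Prime]
    (h : Cfsg.Lie.IsoSuzuki K) (hp : 5 ≤ p) : EndAt p K := by
  obtain ⟨F, iF, iF', m, hm, hc, ⟨f⟩⟩ := h
  exact EndAt.congr f (aux hm hc hp)

end Cfsg.Agent.H410.EndSz
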