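import Cfsg.Agent.H439.Der.Tools
import Cfsg.Agent.H372.FxPsuD
import Cfsg.Agent.H272.NFUEv
import Cfsg.Agent.H403.LinAdj

/-!
# S3500, the row `PSU₃(q)`: primes dividing `q (q² - 1)` and conjugate powers (helper410)
-/

set_option autoImplicit false

namespace Cfsg.Agent.H410.DerPsu

open Subgroup Cfsg Cfsg.Agent.H439.Der Cfsg.Agent.H372.FxU
open Cfsg.Agent.ClassicalGeometry.PSUAutBasic (pr pr_surjective pr_eq_one_iff exists_scalar_of_mem_center)
open Cfsg.Agent.Phan (emb)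

variable {F : Type} [Field F] [Fintype F] {q : ℕ}

theorem exists_w (hq : 3 ≤ q) : ∃ w : ℕ, w.Prime ∧ w ∣ q + 1 ∧ (w = 3 → 9 ∣ q + 1) := by
  by_cases hs : ∃ w : ℕ, w.Prime ∧ w ∣ q + 1 ∧ w ≠ 3
  · obtain ⟨w, h1, h2, h3⟩ := hs
    exact ⟨w, h1, h2, fun h => absurd h h3⟩
  · push Not at hs
    have h1 := Nat.eq_prime_pow_of_unique_prime_dvd (p := 3) (n := q + 1) (by omega) (fun {d} hd hdm => hs d hd hdm)
    obtain ⟨k, hk⟩ : ∃ k, q + 1 = 3 ^ k := ⟨_, h1⟩
    have hk2 : 2 ≤ k := by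
      by_contra hlt
      have : k = 0 ∨ k = 1 := by omega
      rcases this with rfl | rfl
      · rw [pow_zero] at hk; omega
      · rw [pow_one] at hk; omega
    refine ⟨3, Nat.prime_three, ?_, fun _ => ?_⟩
    · rw [hk]; exact dvd_pow_self 3 (by omega)
    · rw [hk]
      exact pow_dvd_pow 3 hk2

theorem exists_z (hF : Fintype.card F = q ^ 2) {w : ℕ} (hw : w.Prime) (h1 : w ∣ q + 1) (h2 : w = 3 → 9 ∣ q + 1) :
    ∃ z : PSU 3 F q, orderOf z = w ∧ ∀ a : ↥(SU 2 F q), Commute (pr 3 F q (emb hF 0 (by omega) a)) z := by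
  have : Fact w.Prime := ⟨hw⟩
  obtain ⟨s, hs, hs1, hs3⟩ : ∃ s : ℕ, s ∣ q + 1 ∧ s ∣ 3 * w ∧ ¬ s ∣ 3 := by
    by_cases h : w = 3
    · subst h
      exact ⟨9, h2 rfl, by norm_num, by norm_num⟩
    · refine ⟨w, h1, Dvd.intro_left _ rfl, fun h3 => h ?_⟩
      exact (Nat.prime_dvd_prime_iff_eq hw Nat.prime_three).1 h3
  obtain ⟨c, -, hc⟩ := exists_unit hF (s := s) (by rw [sq_sub hF]; exact Dvd.dvd.mul_left hs _)
  have hc1 : c ^ (q + 1) = 1 := orderOf_dvd_iff_pow_eq_one.1 (by rw [hc]; exact hs)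
  obtain ⟨z, hz, -, hz2⟩ := exists_D hF (k := 2) le_rfl hc1
  refine ⟨pr 3 F q z, orderOf_eq_prime ?_ ?_, fun a => ?_⟩
  · rw [← map_pow, pr_eq_one_iff, hz2]
    exact orderOf_dvd_iff_pow_eq_one.1 (by rw [hc]; exact hs1)
  · intro h
    have h3 := pr_eq_one_iff.1 h
    have h4 := (hz2 1).1 (by rwa [pow_one])
    rw [mul_one] at h4
    have h5 := orderOf_dvd_of_pow_eq_one h4
    rw [hc] at h5
    exact hs3 h5
  · show pr 3 F q _ * pr 3 F q z = pr 3 F q z * pr 3 F q _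
    rw [← map_mul, hz a, map_mul]

/-- elements of prime order in the block -/
theorem exists_block (hF : Fintype.card F = q ^ 2) {v : ℕ} (hv : v.Prime) (hd : v ∣ q * (q ^ 2 - 1)) :
    ∃ a : ↥(SU 2 F q), orderOf (pr 3 F q (emb hF 0 (by omega) a)) = v := by
  obtain ⟨a, ha⟩ := exists_emb (F := F) (q := q) hv (m := 2) (by rw [card_two hF]; exact hd)
  exact ⟨a, by rw [orderOf_emb hF le_rfl (by omega) (by omega), ha]⟩

/-- **the primes dividing `q (q² - 1)`** -/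
theorem not_SC_small (hF : Fintype.card F = q ^ 2) (hq : 3 ≤ q) {v : ℕ} (hv : v.Prime) (hd : v ∣ q * (q ^ 2 - 1)) :
    ¬ SC (PSU 3 F q) v := by
  have hfin : Finite (PSU 3 F q) := Quotient.finite _
  obtain ⟨w, hw, hw1, hw3⟩ := exists_w hq
  obtain ⟨z, hz, hzc⟩ := exists_z hF hw hw1 hw3
  by_cases hvw : v = w
  · subst hvw
    -- the characteristic
    obtain ⟨r, hr, hrq⟩ := Nat.exists_prime_and_dvd (n := q) (by omega)
    obtain ⟨a, ha⟩ := exists_block hF hr (Dvd.dvd.mul_right hrq _)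
    refine not_SC_of_commute hv hr ?_ hz ha (hzc a).symm
    rintro rfl
    exact hv.one_lt.ne' (Nat.dvd_one.1 ((Nat.dvd_add_right hrq).1 hw1))
  · obtain ⟨a, ha⟩ := exists_block hF hv hd
    exact not_SC_of_commute hv hw hvw ha hz (hzc a)

section conj

open Cfsg.Agent.H272.NFU Cfsg.Agent.H403 Cfsg.Agent.H403.NumTop Cfsg.Agent.H518.DghpMat

theorem pow_vec (E : Type) [Field E] [IsAlgClosed E] [Algebra F E] {n : ℕ} {Y : SU n F q} {y : E} {v : Fin n → E}
    (h : (mE E Y).mulVec v = y • v) (k : ℕ) : (mE E (Y ^ k)).mulVec v = y ^ k • v := by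
  induction k with
  | zero => rw [pow_zero, mE_one, Matrix.one_mulVec, pow_zero, one_smul]
  | succ k ih =>
    rw [pow_succ, mE_mul, ← Matrix.mulVec_mulVec, h, Matrix.mulVec_smul, ih, smul_smul, pow_succ, mul_comm]

/-- conjugate powers -/
theorem conj_exp (hF : Fintype.card F = q ^ 2) {r : ℕ} (hr : r.Prime)
    (hi : orderOf ((xv false q : ℤ) : ZMod r) = 3) (hrF : (r : F) ≠ 0) (Y T : SU 3 F q) (hYr : Y ^ r = 1)
    (hY1 : Y ≠ 1) {k : ℕ} (hT : T * Y * T⁻¹ = Y ^ k) :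
    ∃ j < 3, ((k : ℕ) : ZMod r) = ((xv false q : ℤ) : ZMod r) ^ j := by
  have hrf := Fact.mk hr
  let E := AlgebraicClosure F
  obtain ⟨p, hp⟩ := CharP.exists F
  have hpp : p.Prime := CharP.char_is_prime F p
  have hM : Cl (xv false q) (evs E (mt Y)) := cl_mt hF Y
  have hroot : ∀ y ∈ evs E (mt Y), y ^ r = 1 := fun y hy => pow_of_evs hYr hy
  obtain ⟨y, hy, hy1⟩ : ∃ y ∈ evs E (mt Y), y ≠ 1 := by
    by_contra hcon
    push Not at hcon
    refine hY1 (eq_one_of_evs (E := E) hpp (m := r) ?_ hYr hcon)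
    intro h
    apply hrF
    have := (Nat.prime_dvd_prime_iff_eq hpp hr).1 h
    rw [← this]; exact CharP.cast_eq_zero F p
  have hy0 := hM.ne_zero hy
  have hper : per (xv false q) y = 3 := per_eq hM hy hr (A := 1) hi (by rw [pow_one]; exact hroot y hy)
    (by rw [pow_one]; exact hy1) (by rw [card_evs_mt]; norm_num)
  have hR := eq_orb hM hy (by rw [card_evs_mt, hper])
  obtain ⟨v, hv, hYv⟩ := exists_vec hy
  have hyk : y ^ k ∈ evs E (mt Y) := by
    have h1 : y ^ k ∈ evs E (mt (Y ^ k)) := mem_evs_of_vec hv (pow_vec E hYv k)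
    rw [← hT, mt_mul, mt_mul, evs_conj E (mt Y) (mt T) (mt T⁻¹) (by rw [← mt_mul, mul_inv_cancel, mt_one])] at h1
    exact h1
  rw [hR] at hyk
  obtain ⟨j, hj, hjy⟩ := Multiset.mem_map.1 hyk
  rw [Multiset.mem_range, hper] at hj
  refine ⟨j, hj, ?_⟩
  have ho : orderOf y = r := orderOf_eq_prime (hroot y hy) hy1
  have h5 : (r : ℤ) ∣ (k : ℤ) - xv false q ^ j := by
    rw [← ho]
    have h6 : (Units.mk0 y hy0) ^ ((k : ℤ) - xv false q ^ j) = 1 := by
      apply Units.ext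
      rw [Units.val_zpow_eq_zpow_val, Units.val_mk0, zpow_sub₀ hy0, hjy, zpow_natCast,
        div_self (pow_ne_zero _ hy0), Units.val_one]
    have h7 := orderOf_dvd_iff_zpow_eq_one.2 h6
    rwa [← orderOf_units, Units.val_mk0] at h7
  have h6 := (ZMod.intCast_zmod_eq_zero_iff_dvd _ r).2 h5
  push_cast at h6
  exact sub_eq_zero.1 h6

theorem three_dvd_sub {r : ℕ} (hr : r.Prime) (hi : orderOf ((xv false q : ℤ) : ZMod r) = 3) : 3 ∣ r - 1 :=
  order_dvd_pred hr (by norm_num) hi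

theorem center_cube (hF : Fintype.card F = q ^ 2) {z : Cfsg.SU 3 F q} (hz : z ∈ center (Cfsg.SU 3 F q)) : z ^ 3 = 1 := by
  obtain ⟨c, hcn, hcq, rfl⟩ := (LieClassical.SUBasic.mem_center_SU_iff hF le_rfl _).1 hz
  apply Subtype.ext
  apply Subtype.ext
  rw [Subgroup.coe_pow, Matrix.SpecialLinearGroup.coe_pow, LieClassical.SUBasic.coe_suScalar q c hcn hcq, Subgroup.coe_one,
    Matrix.SpecialLinearGroup.coe_one, Matrix.diagonal_pow]
  ext i j
  rcases eq_or_ne i j with rfl | hij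
  · rw [Matrix.diagonal_apply_eq, Matrix.one_apply_eq, Pi.pow_apply, hcn]
  · rw [Matrix.diagonal_apply_ne _ hij, Matrix.one_apply_ne hij]

/-- conjugate powers in `PSU₃(q)` -/
theorem conj_exp_psu (hF : Fintype.card F = q ^ 2) {r : ℕ} (hr : r.Prime)
    (hi : orderOf ((xv false q : ℤ) : ZMod r) = 3) (hrF : (r : F) ≠ 0) {x g : PSU 3 F q} (hx : orderOf x = r)
    {k : ℕ} (hg : g * x * g⁻¹ = x ^ k) : ∃ j < 3, ((k : ℕ) : ZMod r) = ((xv false q : ℤ) : ZMod r) ^ j := by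
  have h3r := three_dvd_sub hr hi
  have hr2 := hr.two_le
  obtain ⟨X, rfl⟩ := pr_surjective x
  obtain ⟨T, rfl⟩ := pr_surjective g
  obtain ⟨z, hz⟩ : ∃ z : SU 3 F q, z = T * X * T⁻¹ * (X ^ k)⁻¹ := ⟨_, rfl⟩
  have hzc : z ∈ center (SU 3 F q) := by
    rw [← pr_eq_one_iff, hz, map_mul, map_mul, map_mul, map_inv, map_inv, map_pow, hg, mul_inv_cancel]
  have hz3 := center_cube hF hzc
  have hzX : T * X * T⁻¹ = z * X ^ k := by rw [hz, inv_mul_cancel_right]
  have hcomm : Commute z (X ^ k) := (mem_center_iff.1 hzc (X ^ k)).symm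
  refine conj_exp hF hr hi hrF (X ^ 3) T ?_ ?_ ?_
  · have h1 : X ^ r ∈ center (SU 3 F q) := by
      rw [← pr_eq_one_iff, map_pow, ← hx, pow_orderOf_eq_one]
    rw [← pow_mul, mul_comm, pow_mul]
    exact center_cube hF h1
  · intro h1
    have h2 : pr 3 F q X ^ 3 = 1 := by rw [← map_pow, h1, map_one]
    have h3 := Nat.le_of_dvd (by norm_num) (orderOf_dvd_of_pow_eq_one h2)
    rw [hx] at h3
    omega
  · have h1 : (T * X * T⁻¹) ^ 3 = T * X ^ 3 * T⁻¹ := conj_pow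
    rw [← h1, hzX, hcomm.mul_pow, hz3, one_mul, ← pow_mul, ← pow_mul, mul_comm]

theorem card_conjPow_le (hF : Fintype.card F = q ^ 2) {r : ℕ} (hr : r.Prime)
    (hi : orderOf ((xv false q : ℤ) : ZMod r) = 3) (hrF : (r : F) ≠ 0) {x : PSU 3 F q} (hx : orderOf x = r) :
    Nat.card (conjPow x) ≤ 3 := by
  have hfin : Finite (PSU 3 F q) := Quotient.finite _
  have : Fact r.Prime := ⟨hr⟩
  have hsub : conjPow x ⊆ (fun j : ℕ => x ^ ((((xv false q : ℤ) : ZMod r) ^ j).val)) '' ((Finset.range 3 : Finset ℕ) : Set ℕ) := by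
    rintro y ⟨hy, g, hg⟩
    rw [← (isOfFinOrder_of_finite x).mem_powers_iff_mem_zpowers] at hy
    obtain ⟨k, hk⟩ := hy
    have hk' : x ^ k = y := hk
    obtain ⟨j, hj, hjk⟩ := conj_exp_psu hF hr hi hrF hx (k := k) (by rw [hk', hg])
    refine ⟨j, by simpa using hj, ?_⟩
    show x ^ ((((xv false q : ℤ) : ZMod r) ^ j).val) = y
    rw [← hk', pow_eq_pow_iff_modEq, hx, ← ZMod.natCast_eq_natCast_iff, ZMod.natCast_zmod_val, hjk]
  rw [Nat.card_coe_set_eq]
  refine (Set.ncard_le_ncard hsub (Set.toFinite _)).trans ((Set.ncard_image_le (Finset.finite_toSet _)).trans ?_)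
  rw [Set.ncard_coe_finset, Finset.card_range]

end conj

end Cfsg.Agent.H410.DerPsu
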