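import Cfsg.Agent.H410.GRowAbs
import Cfsg.Agent.H716.RankOnePrime
import Cfsg.Agent.H71.RoRee
import Cfsg.Agent.H71.FldAut
import Cfsg.Agent.H88.RkRee

/-!
# The rows of the small Ree groups (helper410)

`rrow_ree`, `grow_ree` : for `K ≅ ²G₂(q)`, `RRow 3 K` and `GRow K`.
-/

set_option autoImplicit false

namespace Cfsg.Agent.H410.GRowRee

open Cfsg Subgroup Cfsg.Agent.H410.GRowAbs Cfsg.Agent.H71.RoRee
open Cfsg.Agent.LieRecognition.ReeAbs Cfsg.Agent.LieRecognition.ReeSylowThree Cfsg.Agent.LieRecognition.ReeSplit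
open Cfsg.Agent.FixBN.RankOneRee
open Cfsg.Agent.H255.RankOne (two mem_two)
open Cfsg.Agent.H713 (VZ)
open Cfsg.Agent.H730.Pair

section

variable {K : Type*} [Field K] {G : Type*} [Group G] {m : ℕ} {U : K → K → K → G} {h : Kˣ → G} {n : G}

theorem reg [Fintype K] (hK : Fintype.card K = 3 ^ (2 * m + 1)) (D : Data m U h n) {a : Kˣ} (ha : h a * h a ≠ 1)
    {x : G} (hx : x ∈ uSub D) (hfix : h a * x * (h a)⁻¹ = x) : x = 1 := by
  have : Fact (Nat.Prime 3) := ⟨Nat.prime_three⟩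
  have hchar := charP_three hK
  have hcube : ∀ a : K, a ^ 3 = 1 → a = 1 := by
    intro a ha
    have h1 : (a - 1) ^ 3 = 0 := by rw [sub_pow_char, ha, one_pow, sub_self]
    exact sub_eq_zero.1 (pow_eq_zero_iff (by norm_num) |>.1 h1)
  have hPP : ∀ a : K, a ^ (3 ^ (m + 1) * 3 ^ (m + 1)) = a ^ 3 := by
    intro a
    rw [← pow_add, show m + 1 + (m + 1) = 2 * m + 1 + 1 by ring, pow_succ, pow_mul]
    congr 1
    rw [← hK, FiniteField.pow_card]
  obtain ⟨t, u, v, rfl⟩ := hx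
  rw [h_conj D] at hfix
  obtain ⟨h3, h4, h5⟩ := U_injective D hfix
  have ha2 : (a : K) ^ 2 ≠ 1 := by
    intro h6
    apply ha
    have h7 : a ^ 2 = 1 := Units.ext (by rw [Units.val_pow_eq_pow_val, h6, Units.val_one])
    rw [← D.h_mul, ← pow_two, h7, D.h_one]
  have hne : ∀ e, (a : K) ^ e ≠ 1 → ∀ z : K, (a : K) ^ e * z = z → z = 0 := by
    intro e he z hz
    by_contra hz0
    exact he (mul_right_cancel₀ hz0 (by rw [hz, one_mul]))
  have h6 : (a : K) ^ (3 ^ (m + 1)) ≠ 1 := by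
    intro h7
    have h8 : (a : K) ^ (3 ^ (m + 1) * 3 ^ (m + 1)) = 1 := by rw [pow_mul, h7, one_pow]
    rw [hPP] at h8
    exact ha2 (by rw [hcube _ h8, one_pow])
  have h7 : (a : K) ^ (3 ^ (m + 1) + 3) ≠ 1 := by
    intro h7
    have h8 : ((a : K) ^ (3 ^ (m + 1) + 3)) ^ (3 ^ (m + 1)) = 1 := by rw [h7, one_pow]
    rw [← pow_mul, add_mul, pow_add, hPP] at h8
    have h9 : ((a : K) ^ (3 ^ (m + 1) + 3)) ^ 3 = 1 := by rw [h7, one_pow]
    rw [← pow_mul, add_mul, pow_add] at h9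
    have h10 : (a : K) ^ (3 * 3 ^ (m + 1)) = (a : K) ^ (3 ^ (m + 1) * 3) := by rw [mul_comm]
    rw [h10] at h8
    have h11 : (a : K) ^ (3 ^ (m + 1) * 3) ≠ 0 := pow_ne_zero _ a.ne_zero
    have h12 : (a : K) ^ 3 = (a : K) ^ 9 := by
      apply mul_right_cancel₀ h11
      rw [h8, mul_comm ((a : K) ^ 9)]
      exact h9.symm
    have h13 : ((a : K) ^ 2) ^ 3 = 1 := by
      have h14 : (a : K) ^ 3 ≠ 0 := pow_ne_zero _ a.ne_zero
      apply mul_left_cancel₀ h14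
      rw [← pow_mul, ← pow_add, mul_one]
      exact h12.symm
    exact ha2 (hcube _ h13)
  have h8 : (a : K) ^ (2 * 3 ^ (m + 1) + 3) ≠ 1 := by
    intro h7
    have h8 : ((a : K) ^ (2 * 3 ^ (m + 1) + 3)) ^ (2 * 3 ^ (m + 1)) = 1 := by rw [h7, one_pow]
    have h9 : ((a : K) ^ (2 * 3 ^ (m + 1) + 3)) ^ 3 = 1 := by rw [h7, one_pow]
    have e1 : (2 * 3 ^ (m + 1) + 3) * (2 * 3 ^ (m + 1)) =
        3 ^ (m + 1) * 3 ^ (m + 1) * 4 + 3 * (2 * 3 ^ (m + 1)) := by ring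
    rw [← pow_mul, e1, pow_add, pow_mul _ _ 4, hPP, ← pow_mul] at h8
    have e2 : (2 * 3 ^ (m + 1) + 3) * 3 = 3 * (2 * 3 ^ (m + 1)) + 9 := by ring
    rw [← pow_mul, e2, pow_add] at h9
    have h11 : (a : K) ^ (3 * (2 * 3 ^ (m + 1))) ≠ 0 := pow_ne_zero _ a.ne_zero
    have h12 : (a : K) ^ (3 * 4) = (a : K) ^ 9 := by
      apply mul_right_cancel₀ h11
      rw [h8, mul_comm ((a : K) ^ 9)]
      exact h9.symm
    have h13 : (a : K) ^ 3 = 1 := by
      have h14 : (a : K) ^ 9 ≠ 0 := pow_ne_zero _ a.ne_zero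
      apply mul_left_cancel₀ h14
      rw [← pow_add, mul_one]
      exact h12
    exact ha2 (by rw [hcube _ h13, one_pow])
  rw [hne _ h6 _ h3, hne _ h7 _ h4, hne _ h8 _ h5, D.U_zero]

theorem tor [Fintype K] (hK : Fintype.card K = 3 ^ (2 * m + 1)) (D : Data m U h n) :
    Tor (bSub D) (uSub D) n where
  data := data D
  ab := by
    rintro a ⟨ha, ha'⟩ b ⟨hb, hb'⟩
    obtain ⟨k, rfl⟩ := torus D ha ha'
    obtain ⟨l, rfl⟩ := torus D hb hb'
    rw [← D.h_mul, ← D.h_mul, mul_comm]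
  inv := by
    rintro a ⟨ha, ha'⟩
    obtain ⟨k, rfl⟩ := torus D ha ha'
    rw [conj_h D, D.h_inv]
  reg := by
    rintro t ⟨ht, htw⟩ ht1 u hu hfix
    obtain ⟨k, rfl⟩ := torus D ht htw
    exact reg hK D ht1 hu (by rw [hfix, mul_inv_cancel_right])

end

section

variable {K : Type} [Field K] [Fintype K] {m : ℕ}

theorem rows_ree (hm : 1 ≤ m) (hK : Fintype.card K = 3 ^ (2 * m + 1)) :
    RRow 3 ↥(Cfsg.Lie.twistedG2 K (3 ^ m)) ∧ GRow ↥(Cfsg.Lie.twistedG2 K (3 ^ m)) := by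
  have : Fact (Nat.Prime 3) := ⟨Nat.prime_three⟩
  obtain ⟨θ, c⟩ := Cfsg.Agent.ChevalleyStructure.Ree.Normal.exists_ctx hK
  obtain ⟨D, hD⟩ : ∃ D, D = Cfsg.Agent.ChevalleyStructure.Ree.Data.data c := ⟨_, rfl⟩
  have hfin : Finite ↥(Cfsg.Lie.twistedG2 K (3 ^ m)) := finite D
  have hq : 27 ≤ Fintype.card K := by
    rw [hK]
    calc 27 = 3 ^ 3 := by norm_num
      _ ≤ 3 ^ (2 * m + 1) := Nat.pow_le_pow_right (by norm_num) (by omega)
  obtain ⟨l, hl, hlG, hlq, hlF, hfx⟩ :=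
    H716.RankOnePrime.ree_prime hm hK (MulEquiv.refl ↥(Cfsg.Lie.twistedG2 K (3 ^ m)))
  have : Fact l.Prime := ⟨hl⟩
  obtain ⟨x, hx⟩ := exists_prime_orderOf_dvd_card' l hlG
  obtain ⟨k₀, hk₀⟩ := IsCyclic.exists_generator (α := Kˣ)
  have hk₀o : orderOf k₀ = Fintype.card K - 1 := by
    rw [orderOf_eq_card_of_forall_mem_zpowers hk₀, Nat.card_units, Nat.card_eq_fintype_card]
  let h := Cfsg.Agent.ChevalleyStructure.Ree.Data.T c
  let φ : Kˣ →* ↥(Cfsg.Lie.twistedG2 K (3 ^ m)) := { toFun := h, map_one' := D.h_one, map_mul' := D.h_mul }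
  have hφ : Function.Injective φ := by
    intro a b hab
    have h1 : h a = h b := hab
    have h2 : Cfsg.Agent.ChevalleyStructure.Ree.Data.U K (3 ^ m) 0 0 0 * h a =
        Cfsg.Agent.ChevalleyStructure.Ree.Data.U K (3 ^ m) 0 0 0 * h b := by rw [h1]
    exact (D.inj₁ _ _ _ _ _ _ _ _ h2).2.2.2
  have hy : h k₀ ∈ two (bSub D) (Cfsg.Agent.ChevalleyStructure.Ree.Data.N c) := ⟨h_mem_bSub D k₀, h_two D k₀⟩
  have hU : uSub D ≠ ⊥ := by
    intro hb
    have h1 : Nat.card (uSub D) = 1 := by rw [hb]; exact Subgroup.card_bot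
    rw [card_uSub] at h1
    have h2 : 1 < Fintype.card K := Fintype.one_lt_card
    have h3 := Nat.one_lt_pow (n := 3) (by norm_num) h2
    omega
  have hl3 : l ≠ 3 := by
    rintro rfl
    apply hlF
    rw [hK]
    exact dvd_pow_self 3 (by omega)
  have hT : Nat.card (two (bSub D) (Cfsg.Agent.ChevalleyStructure.Ree.Data.N c)) = Fintype.card K - 1 := by
    have h1 : two (bSub D) (Cfsg.Agent.ChevalleyStructure.Ree.Data.N c) = hSub D := by
      rw [← H88.RkRee.tor_eq]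
      ext t
      rw [mem_two, H88.mem_tor]
    rw [h1, card_hSub]
  have hUc : Nat.card (uSub D) = Fintype.card K ^ 3 := card_uSub D
  have hr := rows (r := 3) (tor hK D) D.n_n hU (H71.RoRee.ro hm hK D).syl (by
      rw [hT, hUc]
      exact (Nat.sub_le _ _).trans (Nat.le_self_pow (by norm_num) _)) hy (by
      rw [← D.h_mul, ← pow_two]
      intro h5
      have h1 : k₀ ^ 2 = 1 := hφ (h5.trans D.h_one.symm)
      have h2 := orderOf_dvd_of_pow_eq_one h1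
      rw [hk₀o] at h2
      have := Nat.le_of_dvd (by norm_num) h2
      omega) (l := l) (by
      rw [H255.RankTools.card_borel (tor hK D).data, hT, hUc]
      intro h
      rcases hl.dvd_mul.1 h with h | h
      · exact hlF (hl.dvd_of_dvd_pow h)
      · exact hlq h) (x := x) (by rw [hx]) (H716.RankOneChar.vz_ree hm hK hl3 hlq (by rw [hx]))
  refine ⟨hr.1, hr.2 fun _ => ⟨?_, gen_of_prime (by rw [hx]) hfx⟩⟩
  have R := H967.CopSz.row_ree hm hK
  refine Gen.of_hom (H967.CopMat.fieldAut R.stab) (ConjIn.of_row R) φ ?_ (c := 1) one_pos ?_ ?_ hk₀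
  · intro τ u
    exact (H71.FldAut.reeFld c).onH τ u
  · intro u hu
    rw [pow_one]
    exact hφ (hu.trans (map_one φ).symm)
  · intro p hp h1
    exact absurd h1 (by have := hp.two_le; omega)

end

theorem rrow_ree {K : Type*} [Group K] (h : Cfsg.Lie.IsoRee K) : RRow 3 K := by
  obtain ⟨F, i1, i2, m, hm, hF, ⟨e⟩⟩ := h
  exact (rows_ree hm hF).1.mulEquiv e.symm

theorem grow_ree {K : Type*} [Group K] (h : Cfsg.Lie.IsoRee K) : GRow K := by
  obtain ⟨F, i1, i2, m, hm, hF, ⟨e⟩⟩ := h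
  exact (rows_ree hm hF).2.mulEquiv e.symm

end Cfsg.Agent.H410.GRowRee
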