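import Cfsg.Agent.H410.TwoTransRGD
import Cfsg.Agent.Nodes.NormalForm

/-!
# Parabolic subgroups of root group data and automorphisms (helper410)

`R : RGD cs h r T n X` in `Y`, generating. `U = RGD.Sup X (RGD.Pos cs h)`, `B = RGD.B cs h T X`.

* `normalizer_U` : `N(U) = B`;
* `PJ R J` : the parabolic subgroup, the union of the cells over `W_J`; `eq_PJ` : an overgroup of `B` is `PJ (JH K)`;
* `cell_one_of_aut` : an automorphism which preserves `U` preserves the union of the cells over the simple reflections;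
* `single_of_key` : if every double coset of `H ⊇ B` except `H` meets a cell over a simple reflection, then `JH H = {s}ᶜ`
  and `CoxTwo.TwoT cs s`.
-/

set_option autoImplicit false
set_option linter.unusedSectionVars false

namespace Cfsg.Agent.H410.ParRGD

open CoxeterSystem Cfsg.Agent.ChevalleyStructure.CoxeterGeom Cfsg.Agent.Tits.Roots Cfsg.Agent.Tits.Core
  Cfsg.Agent.Tits.Exchange Cfsg.Agent.Nodes.Comb Cfsg.Agent.Nodes.Reps Cfsg.Agent.Nodes.BNOf Cfsg.Agent.Nodes.Bruhat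
  Cfsg.Agent.Nodes.RGDLib Cfsg.Agent.H410.TwoTransRGD

variable {I W Y : Type*} [Fintype I] [DecidableEq I] [Group W] [Group Y] {M : CoxeterMatrix I}
  {cs : CoxeterSystem M W} {A : I → I → ℤ} {h : IsCartan M A} {r : ℕ} {T : Subgroup Y} {n : I → Y}
  {X : (I → ℤ) → Subgroup Y}

theorem mem_WJ_empty {w : W} : w ∈ WJ cs ∅ ↔ w = 1 := by
  unfold WJ
  rw [Set.image_empty, Subgroup.closure_empty, Subgroup.mem_bot]

theorem mem_WJ_singleton {i : I} {w : W} (hw : w ∈ WJ cs {i}) : w = 1 ∨ w = cs.simple i := by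
  unfold WJ at hw
  rw [Set.image_singleton] at hw
  induction hw using Subgroup.closure_induction with
  | mem x hx => exact Or.inr hx
  | one => exact Or.inl rfl
  | mul x y _ _ hx hy =>
    rcases hx with rfl | rfl <;> rcases hy with rfl | rfl
    · left; simp
    · right; simp
    · right; simp
    · left; simp
  | inv x _ hx =>
    rcases hx with rfl | rfl
    · left; simp
    · right; simp

variable (R : RGD cs h r T n X)

include R

theorem exists_cell [Finite W] (hG : RGD.Sup X {x | IsRoot cs h x} = ⊤) (g : Y) : ∃ w, Cell R.nsys cs h X w g :=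
  (mem_GG R).1 (by rw [GG_eq_top_of_gen R hG]; exact Subgroup.mem_top g)

/-- `N(U) = B`. -/
theorem normalizer_U [Finite W] (hG : RGD.Sup X {x | IsRoot cs h x} = ⊤) :
    Subgroup.normalizer (RGD.Sup X (RGD.Pos cs h) : Set Y) = RGD.B cs h T X := by
  apply le_antisymm ?_ R.B_le_normalizer_U
  set K := Subgroup.normalizer (RGD.Sup X (RGD.Pos cs h) : Set Y) with hK
  have hU : RGD.Sup X (RGD.Pos cs h) ≤ K := Subgroup.le_normalizer
  have hJ : JH X K = ∅ := by
    rw [Set.eq_empty_iff_forall_notMem]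
    intro i hi
    obtain ⟨k, hk, hk'⟩ := TwoTransRGD.exists_rp_of_mem R hU hi
    apply R.not_neg_le_B i
    have h1 := R.conj_rp hk' (isRoot_sr cs h i)
    rw [rep_simple_sr] at h1
    rw [← h1]
    intro x hx
    rw [mem_cj] at hx
    have h2 : k⁻¹ * x * k ∈ RGD.Sup X (RGD.Pos cs h) := RGD.le_Sup (S := RGD.Pos cs h) ⟨isRoot_sr cs h i, sr_nonneg i⟩ hx
    have h3 := (Subgroup.mem_normalizer_iff.1 hk _).1 h2
    have h4 : k * (k⁻¹ * x * k) * k⁻¹ = x := by group
    rw [h4] at h3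
    exact RGD.U_le_B h3
  intro x hx
  obtain ⟨w, hw⟩ := exists_cell R hG x
  have h1 := TwoTransRGD.cell_mem R hU hw hx
  rw [hJ, mem_WJ_empty] at h1
  subst h1
  exact hw.mem_of_one

/-- The parabolic subgroup of type `J`. -/
def PJ [Finite W] (J : Set I) : Subgroup Y where
  carrier := {x | ∃ w ∈ WJ cs J, Cell R.nsys cs h X w x}
  mul_mem' := by
    rintro a b ⟨v, hv, ha⟩ ⟨w, hw, hb⟩
    obtain ⟨v', hv', hc⟩ := TwoTransRGD.mul_cell R hv ha hb
    exact ⟨v' * w, mul_mem hv' hw, hc⟩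
  one_mem' := ⟨1, one_mem _, cell_one_of_mem (one_mem _)⟩
  inv_mem' := by
    rintro a ⟨v, hv, ha⟩
    exact ⟨v⁻¹, inv_mem hv, ha.inv⟩

theorem mem_PJ [Finite W] {J : Set I} {x : Y} : x ∈ PJ R J ↔ ∃ w ∈ WJ cs J, Cell R.nsys cs h X w x := Iff.rfl

theorem mem_PJ_of_cell [Finite W] {J : Set I} {w : W} {x : Y} (hx : Cell R.nsys cs h X w x) :
    x ∈ PJ R J ↔ w ∈ WJ cs J :=
  ⟨fun ⟨_, hv, hv'⟩ => Cell.unique R hv' hx ▸ hv, fun hw => ⟨w, hw, hx⟩⟩

theorem B_le_PJ [Finite W] (J : Set I) : RGD.B cs h T X ≤ PJ R J := fun _ hx => ⟨1, one_mem _, cell_one_of_mem hx⟩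

theorem U_le_PJ [Finite W] (J : Set I) : RGD.Sup X (RGD.Pos cs h) ≤ PJ R J := RGD.U_le_B.trans (B_le_PJ R J)

theorem neg_le_PJ [Finite W] {J : Set I} {i : I} (hi : i ∈ J) : X (-sr i) ≤ PJ R J := by
  intro u hu
  by_cases hu1 : u = 1
  · rw [hu1]; exact one_mem _
  obtain ⟨a, ha, t, ht, b, hb, e⟩ := R.rk1 i u hu hu1
  have hX : X (sr i) ≤ RGD.B cs h T X := RGD.X_le_B (isRoot_sr cs h i) (sr_nonneg i)
  refine ⟨_, simple_mem_WJ cs hi, a * t, mul_mem (hX ha) (RGD.T_le_B ht), n i, rp_simple cs R.nsys i, b, hX hb, e⟩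

/-- The overgroups of `B` are determined by their type. -/
theorem le_of_JH [Finite W] (hG : RGD.Sup X {x | IsRoot cs h x} = ⊤) {K K' : Subgroup Y} (hB : RGD.B cs h T X ≤ K)
    (hU : RGD.Sup X (RGD.Pos cs h) ≤ K') (hJ : JH X K' ⊆ JH X K) : K' ≤ K := by
  intro x hx
  obtain ⟨w, hw⟩ := exists_cell R hG x
  have h1 := WJ_mono cs hJ (TwoTransRGD.cell_mem R hU hw hx)
  obtain ⟨k, hk, hk'⟩ := TwoTransRGD.exists_rp_of_mem_WJ R (RGD.U_le_B.trans hB) h1
  obtain ⟨b₁, hb₁, g, hg, b₂, hb₂, rfl⟩ := hw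
  have h2 : k⁻¹ * g ∈ T := hk'.unique hg
  have h3 : g = k * (k⁻¹ * g) := by group
  rw [h3]
  exact mul_mem (mul_mem (hB hb₁) (mul_mem hk (hB (RGD.T_le_B h2)))) (hB hb₂)

theorem eq_of_JH [Finite W] (hG : RGD.Sup X {x | IsRoot cs h x} = ⊤) {K K' : Subgroup Y} (hB : RGD.B cs h T X ≤ K)
    (hB' : RGD.B cs h T X ≤ K') (hJ : JH X K' = JH X K) : K' = K :=
  le_antisymm (le_of_JH R hG hB (RGD.U_le_B.trans hB') hJ.le) (le_of_JH R hG hB' (RGD.U_le_B.trans hB) hJ.ge)

theorem JH_B [Finite W] : JH X (RGD.B cs h T X) = ∅ := by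
  rw [Set.eq_empty_iff_forall_notMem]
  intro i hi
  exact R.not_neg_le_B i hi

theorem mem_JH_of_simple [Finite W] {K : Subgroup Y} (hU : RGD.Sup X (RGD.Pos cs h) ≤ K) {i : I}
    (hi : cs.simple i ∈ WJ cs (JH X K)) : i ∈ JH X K := by
  obtain ⟨k, hk, hk'⟩ := TwoTransRGD.exists_rp_of_mem_WJ R hU hi
  refine TwoTransRGD.neg_le_of_rp R hU hk' hk ?_
  rw [cs.inv_simple, rep_simple_sr]
  intro h1
  have h2 := h1 i
  rw [Pi.neg_apply, sr_self] at h2
  exact absurd h2 (by show ¬ ((0 : ℤ) ≤ -1); decide)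

theorem eq_B_of_JH [Finite W] (hG : RGD.Sup X {x | IsRoot cs h x} = ⊤) {K : Subgroup Y} (hB : RGD.B cs h T X ≤ K)
    (hJ : JH X K = ∅) : K = RGD.B cs h T X :=
  eq_of_JH R hG le_rfl hB (by rw [hJ, JH_B R])

/-- An automorphism which preserves `U` permutes the elements in cells over simple reflections. -/
theorem cell_one_of_aut [Finite W] (hG : RGD.Sup X {x | IsRoot cs h x} = ⊤) (σ : Y ≃* Y)
    (hσ : ∀ x, x ∈ RGD.Sup X (RGD.Pos cs h) ↔ σ x ∈ RGD.Sup X (RGD.Pos cs h)) {s : I} {z : Y}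
    (hz : Cell R.nsys cs h X (cs.simple s) z) : ∃ s', Cell R.nsys cs h X (cs.simple s') (σ z) ∧
      ∀ L : Subgroup Y, RGD.Sup X (RGD.Pos cs h) ≤ L → (∀ x, x ∈ L ↔ σ x ∈ L) → s' ∈ JH X L → s ∈ JH X L := by
  -- `σ B = B`
  have hB : ∀ x, x ∈ RGD.B cs h T X ↔ σ x ∈ RGD.B cs h T X := by
    intro x
    rw [← normalizer_U R hG, Subgroup.mem_normalizer_iff, Subgroup.mem_normalizer_iff]
    constructor
    · intro h1 y
      obtain ⟨y, rfl⟩ := σ.surjective y
      rw [← hσ, h1, hσ (x * y * x⁻¹), map_mul, map_mul, map_inv]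
    · intro h1 y
      rw [hσ, h1, hσ (x * y * x⁻¹), map_mul, map_mul, map_inv]
  set K := (PJ R {s}).map σ.toMonoidHom with hK
  have hmemK : ∀ x, σ x ∈ K ↔ x ∈ PJ R {s} := by
    intro x
    constructor
    · rintro ⟨y, hy, e⟩
      rwa [← σ.injective e]
    · intro hx
      exact ⟨x, hx, rfl⟩
  have hBK : RGD.B cs h T X ≤ K := by
    intro x hx
    obtain ⟨x, rfl⟩ := σ.surjective x
    exact (hmemK x).2 (B_le_PJ R _ ((hB x).2 hx))
  have hne1 : cs.simple s ≠ 1 := by
    intro h1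
    have := cs.length_simple s
    rw [h1, cs.length_one] at this
    exact absurd this (by decide)
  have hzP : z ∈ PJ R {s} := ⟨_, simple_mem_WJ cs rfl, hz⟩
  have hzB : z ∉ RGD.B cs h T X := fun h1 => hne1 (Cell.unique R hz (cell_one_of_mem h1))
  have hKB : K ≠ RGD.B cs h T X := by
    intro h1
    apply hzB
    rw [hB, ← h1]
    exact (hmemK z).2 hzP
  have hne : JH X K ≠ ∅ := fun h1 => hKB (eq_B_of_JH R hG hBK h1)
  obtain ⟨s', hs'⟩ := Set.nonempty_iff_ne_empty.2 hne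
  -- `K' = σ⁻¹ (PJ {s'})`
  set K' := (PJ R {s'}).comap σ.toMonoidHom with hK'
  have hBK' : RGD.B cs h T X ≤ K' := fun x hx => B_le_PJ R _ ((hB x).1 hx)
  have hle : PJ R {s'} ≤ K := by
    refine le_of_JH R hG hBK (U_le_PJ R _) ?_
    intro j hj
    have h1 : j ∈ ({s'} : Set I) := by
      obtain ⟨k, hk, hk'⟩ := TwoTransRGD.exists_rp_of_mem R (U_le_PJ R {s'}) hj
      have h2 := (mem_PJ_of_cell R (cell_of_rp hk')).1 hk
      rcases mem_WJ_singleton h2 with h3 | h3
      · have := cs.length_simple j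
        rw [h3, cs.length_one] at this
        exact absurd this (by decide)
      · by_contra hne
        exact RGD.simple_ne (cs := cs) (h := h) hne h3
    have h2 : j = s' := h1
    rw [h2]
    exact hs'
  have hK'P : K' ≤ PJ R {s} := by
    intro x hx
    exact (hmemK x).1 (hle hx)
  have hK'B : K' ≠ RGD.B cs h T X := by
    intro h1
    obtain ⟨k, hk⟩ := exists_rp cs R.nsys (cs.simple s')
    obtain ⟨y, rfl⟩ := σ.surjective k
    have h2 : y ∈ K' := by
      show σ y ∈ PJ R {s'}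
      exact ⟨_, simple_mem_WJ cs rfl, cell_of_rp hk⟩
    rw [h1, hB] at h2
    have h3 := R.eq_one_of_mem_B hk h2
    have := cs.length_simple s'
    rw [h3, cs.length_one] at this
    exact absurd this (by decide)
  have hne' : JH X K' ≠ ∅ := fun h1 => hK'B (eq_B_of_JH R hG hBK' h1)
  obtain ⟨j, hj⟩ := Set.nonempty_iff_ne_empty.2 hne'
  have hjs : j = s := by
    have h1 : j ∈ JH X (PJ R {s}) := le_trans hj hK'P
    obtain ⟨k, hk, hk'⟩ := TwoTransRGD.exists_rp_of_mem R (U_le_PJ R {s}) h1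
    have h2 := (mem_PJ_of_cell R (cell_of_rp hk')).1 hk
    rcases mem_WJ_singleton h2 with h3 | h3
    · have := cs.length_simple j
      rw [h3, cs.length_one] at this
      exact absurd this (by decide)
    · by_contra hne
      exact RGD.simple_ne (cs := cs) (h := h) hne h3
  subst hjs
  have hPK' : PJ R {j} ≤ K' := by
    refine le_of_JH R hG hBK' (U_le_PJ R _) ?_
    intro i hi
    obtain ⟨k, hk, hk'⟩ := TwoTransRGD.exists_rp_of_mem R (U_le_PJ R {j}) hi
    have h2 := (mem_PJ_of_cell R (cell_of_rp hk')).1 hk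
    rcases mem_WJ_singleton h2 with h3 | h3
    · have := cs.length_simple i
      rw [h3, cs.length_one] at this
      exact absurd this (by decide)
    · have : i = j := by
        by_contra hne
        exact RGD.simple_ne (cs := cs) (h := h) hne h3
      rw [this]
      exact hj
  have h4 : σ z ∈ PJ R {s'} := hPK' hzP
  obtain ⟨w, hw, hc⟩ := h4
  rcases mem_WJ_singleton hw with rfl | rfl
  · exact absurd ((hB z).2 hc.mem_of_one) hzB
  refine ⟨s', hc, fun L hUL hL hs'L => ?_⟩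
  by_contra hjL
  have h5 : L ⊓ PJ R {j} ≤ RGD.B cs h T X := by
    refine le_of_JH R hG le_rfl (le_inf hUL (U_le_PJ R _)) ?_
    intro i hi
    exfalso
    have hi' : X (-sr i) ≤ L ⊓ PJ R {j} := hi
    have h6 : i ∈ JH X (PJ R {j}) := hi'.trans inf_le_right
    obtain ⟨k, hk, hk'⟩ := TwoTransRGD.exists_rp_of_mem R (U_le_PJ R {j}) h6
    have h2 := (mem_PJ_of_cell R (cell_of_rp hk')).1 hk
    rcases mem_WJ_singleton h2 with h3 | h3
    · have := cs.length_simple i
      rw [h3, cs.length_one] at this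
      exact absurd this (by decide)
    · have : i = j := by
        by_contra hne
        exact RGD.simple_ne (cs := cs) (h := h) hne h3
      rw [this] at hi'
      exact hjL (hi'.trans inf_le_left)
  apply R.not_neg_le_B s'
  intro y hy
  obtain ⟨y, rfl⟩ := σ.surjective y
  rw [← hB]
  exact h5 ⟨(hL y).2 (hs'L hy), hK'P (neg_le_PJ R (J := {s'}) rfl hy)⟩

/-- **From "every non-trivial double coset meets a cell over a simple reflection" to one node.** -/
theorem single_of_key [Finite W] (hG : RGD.Sup X {x | IsRoot cs h x} = ⊤) {H : Subgroup Y}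
    (hB : RGD.B cs h T X ≤ H) (hH : H ≠ ⊤)
    (key : ∀ x, x ∉ H → ∃ s z, Cell R.nsys cs h X (cs.simple s) z ∧ ∃ a ∈ H, ∃ b ∈ H, z = a * x * b) :
    ∃ s, JH X H = {s}ᶜ ∧ CoxTwo.TwoT cs s := by
  have := Fintype.ofFinite W
  have hU := RGD.U_le_B.trans hB
  -- the statement in `W`
  have hW : ∀ w, w ∉ WJ cs (JH X H) → ∃ s, s ∉ JH X H ∧ ∃ a ∈ WJ cs (JH X H), ∃ b ∈ WJ cs (JH X H),
      w = a * cs.simple s * b := by
    intro w hw
    obtain ⟨g, hg⟩ := exists_rp cs R.nsys w
    obtain ⟨s, z, hz, a, ha, b, hb, e⟩ := key g (fun h1 => hw (TwoTransRGD.mem_WJ_of_rp R hU hg h1))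
    obtain ⟨u, hu⟩ := exists_cell R hG a
    obtain ⟨v, hv⟩ := exists_cell R hG b
    have huJ := TwoTransRGD.cell_mem R hU hu ha
    have hvJ := TwoTransRGD.cell_mem R hU hv hb
    obtain ⟨u', hu', hc⟩ := TwoTransRGD.mul_cell R huJ hu (cell_of_rp hg)
    obtain ⟨v', hv', hc'⟩ := TwoTransRGD.mul_cell R (inv_mem hvJ) hv.inv hc.inv
    have hc2 := hc'.inv
    have e' : (b⁻¹ * (a * g)⁻¹)⁻¹ = z := by rw [e]; group
    rw [e'] at hc2
    have h1 := Cell.unique R hz hc2
    have h2 : w = u'⁻¹ * cs.simple s * v' := by rw [h1]; group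
    refine ⟨s, fun hs => hw ?_, u'⁻¹, inv_mem hu', v', hv', h2⟩
    rw [h2]
    exact mul_mem (mul_mem (inv_mem hu') (simple_mem_WJ cs hs)) hv'
  obtain ⟨s, hs⟩ := exists_not_mem R hG hU hH
  have hsub : ∀ {t : I}, t ∉ JH X H → WJ cs (JH X H) ≤ WJ cs {t}ᶜ := fun {t} ht => WJ_mono cs fun j hj hjt =>
    ht (by have : j = t := hjt; rwa [this] at hj)
  have hfix : ∀ {t : I}, t ∉ JH X H → ∀ {a}, a ∈ WJ cs (JH X H) → rep cs h a (CoxTwo.lam cs h t) = CoxTwo.lam cs h t :=
    fun {t} ht {a} ha => CoxTwo.lam_fix cs h (hsub ht ha)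
  have hne : ∀ t : I, rep cs h (cs.simple t) (CoxTwo.lam cs h t) ≠ CoxTwo.lam cs h t := by
    intro t h1
    rw [rep_simple_eq] at h1
    have h2 := congrFun h1 t
    rw [Pi.sub_apply, Pi.smul_apply, sr_self, smul_eq_mul, mul_one] at h2
    have := CoxTwo.pairing_lam_self cs h t
    omega
  have hother : ∀ {t t' : I}, t' ≠ t → rep cs h (cs.simple t') (CoxTwo.lam cs h t) = CoxTwo.lam cs h t := fun {t t'} hne =>
    CoxTwo.lam_fix cs h (simple_mem_WJ cs hne)
  have huniq : ∀ t, t ∉ JH X H → t = s := by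
    intro t ht
    by_contra hts
    -- `w = s t`
    have hwn : cs.simple s * cs.simple t ∉ WJ cs (JH X H) := by
      intro h1
      have h2 := hfix ht h1
      rw [rep_mul_apply] at h2
      have h3 : rep cs h (cs.simple t) (CoxTwo.lam cs h t) = rep cs h (cs.simple s) (CoxTwo.lam cs h t) := by
        have := congrArg (rep cs h (cs.simple s)) h2
        rw [← rep_mul_apply, cs.simple_mul_simple_self, map_one, Module.End.one_apply] at this
        exact this
      rw [hother (fun e => hts e.symm)] at h3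
      exact hne t h3
    obtain ⟨u, hu, a, ha, b, hb, e⟩ := hW _ hwn
    by_cases hus : u = s
    · -- `w` fixes `lam t`
      have h1 : rep cs h (cs.simple s * cs.simple t) (CoxTwo.lam cs h t) = CoxTwo.lam cs h t := by
        rw [e, rep_mul_apply, rep_mul_apply, hfix ht hb, hother (by rw [hus]; exact fun e => hts e.symm), hfix ht ha]
      rw [rep_mul_apply] at h1
      have h3 : rep cs h (cs.simple t) (CoxTwo.lam cs h t) = rep cs h (cs.simple s) (CoxTwo.lam cs h t) := by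
        have := congrArg (rep cs h (cs.simple s)) h1
        rw [← rep_mul_apply, cs.simple_mul_simple_self, map_one, Module.End.one_apply] at this
        exact this
      rw [hother (fun e => hts e.symm)] at h3
      exact hne t h3
    · have h1 : rep cs h (cs.simple s * cs.simple t) (CoxTwo.lam cs h s) = CoxTwo.lam cs h s := by
        rw [e, rep_mul_apply, rep_mul_apply, hfix hs hb, hother hus, hfix hs ha]
      rw [rep_mul_apply, hother hts] at h1
      exact hne s h1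
  have hJ : JH X H = {s}ᶜ := by
    ext t
    constructor
    · intro ht hts
      have : t = s := hts
      exact hs (this ▸ ht)
    · intro ht
      by_contra hn
      exact ht (huniq t hn)
  refine ⟨s, hJ, ?_⟩
  intro v w hv hw
  rw [← hJ] at hv hw ⊢
  obtain ⟨s₁, hs₁, a, ha, b, hb, e⟩ := hW v hv
  obtain ⟨s₂, hs₂, a', ha', b', hb', e'⟩ := hW w hw
  obtain rfl := huniq _ hs₁
  obtain rfl := huniq _ hs₂
  refine ⟨a' * a⁻¹, mul_mem ha' (inv_mem ha), b⁻¹ * b', mul_mem (inv_mem hb) hb', ?_⟩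
  rw [e, e']
  group

end Cfsg.Agent.H410.ParRGD
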