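import Cfsg.Agent.H410.DerPsuA
import Cfsg.Agent.H947.El.PsuC
import Cfsg.Agent.H907.MxRow4
import Cfsg.Agent.H907.Schur
import Cfsg.Agent.H934.OutB
import Cfsg.Agent.S0815
import Cfsg.Agent.S0283

/-!
# S3500, the row `PSU₃(q)` (helper410)

`row_psu3` : for `q ≥ 3`, `q ≠ 3, 4, 5, 8`, `Row (PSU₃(q))`.
-/

set_option autoImplicit false

namespace Cfsg.Agent.H410.DerPsu

open Subgroup Cfsg Cfsg.Geo Cfsg.Agent.H439.Der Cfsg.Agent.H918 Module
open Cfsg.Agent.ClassicalGeometry.PSUAutBasic (pr pr_surjective pr_eq_one_iff exists_scalar_of_mem_center)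
open Cfsg.Agent.H403.NumTop (xv)

section torus

variable {F : Type} [Field F] [Fintype F] {q : ℕ}

theorem irr_zpowers {r : ℕ} (hr : r.Prime) (ho : orderOf ((Nat.card F : ℕ) : ZMod r) = 3) {x : GL (Fin 3) F}
    (hx : x ^ r = 1) (hx1 : x ≠ 1) : ActsIrreducibly (matrixSet (zpowers x)) := by
  have : Fact r.Prime := ⟨hr⟩
  have hX : (x : Matrix (Fin 3) (Fin 3) F) ^ r = 1 := by rw [← Units.val_pow_eq_pow_val, hx, Units.val_one]
  have hX1 : (x : Matrix (Fin 3) (Fin 3) F) ≠ 1 := fun h => hx1 (Units.ext h)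
  intro W hW
  have hWx : ∀ v ∈ W, (x : Matrix (Fin 3) (Fin 3) F).mulVec v ∈ W := by
    intro v hv
    have h1 := hW (x : Matrix (Fin 3) (Fin 3) F) ⟨x, mem_zpowers x, rfl⟩
    exact h1 ⟨v, hv, by rw [Matrix.toLin'_apply]⟩
  have h2 : orderOf ((Nat.card F : ℕ) : ZMod r) ∣ finrank F W := by
    refine Cfsg.Agent.H150.dvd_finrank_of_fpf_submodule hr (Matrix.toLin' (x : Matrix (Fin 3) (Fin 3) F)) ?_ W ?_ ?_
    · rw [← Matrix.toLin'_pow, hX, Matrix.toLin'_one]; rfl
    · intro w hw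
      rw [Matrix.toLin'_apply]
      exact hWx w hw
    · intro v _ hv
      rw [Matrix.toLin'_apply] at hv
      exact H947.Sq.fpf_mat ho hX hX1 v hv
  rw [ho] at h2
  by_contra hcon
  push Not at hcon
  have h3 : finrank F W ≠ 0 := by
    rw [Ne, Submodule.finrank_eq_zero]; exact hcon.1
  have h4 : finrank F W < 3 := by
    have := Submodule.finrank_lt hcon.2
    rwa [Module.finrank_fin_fun] at this
  omega

/-- the algebra generated by unitary matrices is closed under adjoints -/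
theorem adj_closed (hF : Fintype.card F = q ^ 2) {N : Subgroup (GL (Fin 3) F)} (hN : N ≤ Cfsg.GU 3 F q) :
    IsAdjointClosedFor (hermForm 3 F q) (Algebra.adjoin F (matrixSet N)) := by
  have key : ∀ k ∈ Algebra.adjoin F (matrixSet N), H907.ct q k ∈ Algebra.adjoin F (matrixSet N) := by
    intro k hk
    induction hk using Algebra.adjoin_induction with
    | mem x hx =>
      obtain ⟨n, hn, rfl⟩ := hx
      have h1 := (H907.mem_GU_iff_ct hF).1 (hN hn)
      have h2 : H907.ct q (n : Matrix (Fin 3) (Fin 3) F) = ((n⁻¹ : GL (Fin 3) F) : Matrix (Fin 3) (Fin 3) F) := by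
        have h3 : (n : Matrix (Fin 3) (Fin 3) F) * ((n⁻¹ : GL (Fin 3) F) : Matrix (Fin 3) (Fin 3) F) = 1 := by
          rw [← Units.val_mul, mul_inv_cancel, Units.val_one]
        calc H907.ct q (n : Matrix (Fin 3) (Fin 3) F) = H907.ct q (n : Matrix (Fin 3) (Fin 3) F) *
              ((n : Matrix (Fin 3) (Fin 3) F) * ((n⁻¹ : GL (Fin 3) F) : Matrix (Fin 3) (Fin 3) F)) := by
              rw [h3, mul_one]
          _ = _ := by rw [← mul_assoc, h1, one_mul]
      show H907.ct q (n : Matrix (Fin 3) (Fin 3) F) ∈ _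
      rw [h2]
      exact Algebra.subset_adjoin ⟨n⁻¹, N.inv_mem hn, rfl⟩
    | algebraMap c =>
      rw [Algebra.algebraMap_eq_smul_one, H907.ct_smul_one hF]
      exact Subalgebra.smul_mem _ (one_mem _) _
    | add a b _ _ ha hb => rw [H907.ct_add hF]; exact add_mem ha hb
    | mul a b _ _ ha hb => rw [H907.ct_mul hF]; exact mul_mem hb ha
  intro k hk
  exact ⟨H907.ct q k, key k hk, fun u v => H907.herm_ct hF k u v⟩

/-- **the torus of order `q² - q + 1`** -/
theorem exists_torus (hF : Fintype.card F = q ^ 2) {r : ℕ} (hr : r.Prime)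
    (ho : orderOf ((Nat.card F : ℕ) : ZMod r) = 3) (hd : r ∣ Nat.card (SU 3 F q)) :
    ∃ y : SU 3 F q, orderOf y = q ^ 2 - q + 1 := by
  have : Fact r.Prime := ⟨hr⟩
  obtain ⟨Y, hY⟩ := exists_prime_orderOf_dvd_card' (G := SU 3 F q) r hd
  have hYo : orderOf (suHom 3 F q Y) = r := by rw [orderOf_injective _ suHom_injective, hY]
  have hx : (suHom 3 F q Y) ^ r = 1 := by rw [← hYo, pow_orderOf_eq_one]
  have hx1 : suHom 3 F q Y ≠ 1 := by
    intro h
    rw [h, orderOf_one] at hYo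
    exact hr.one_lt.ne hYo
  have hirr := irr_zpowers hr ho hx hx1
  have hK := H907.isField_adjoin (r := 3) Nat.prime_three (by rw [Fintype.card_fin]) hirr (by
    rintro _ ⟨a, rfl⟩ _ ⟨b, rfl⟩
    exact (Commute.refl _).zpow_zpow a b)
  have hN : zpowers (suHom 3 F q Y) ≤ Cfsg.GU 3 F q := by
    rw [zpowers_le]
    exact (suHom_mem Y).1
  obtain ⟨y, -, hy, hyo⟩ := H907.Mx.exists_big hK hF (adj_closed hF hN)
  obtain ⟨A, rfl⟩ := exists_suHom hy
  exact ⟨A, by rw [← hyo, orderOf_injective _ suHom_injective]⟩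

end torus

section nsc

variable {F : Type} [Field F] [Fintype F] {q : ℕ}

theorem not_comm (hF : Fintype.card F = q ^ 2) (hq : 3 ≤ q) [IsSimpleGroup (PSU 3 F q)] :
    ¬ IsMulCommutative (PSU 3 F q) := by
  intro hc
  have hfin : Finite (PSU 3 F q) := Quotient.finite _
  let _ : CommGroup (PSU 3 F q) := { (inferInstance : Group (PSU 3 F q)) with mul_comm := hc.is_comm.comm }
  have hp : (Nat.card (PSU 3 F q)).Prime := IsSimpleGroup.prime_card
  obtain ⟨w, hw, hw1, hw3⟩ := exists_w hq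
  obtain ⟨z, hz, -⟩ := exists_z hF hw hw1 hw3
  obtain ⟨r, hr, hrq⟩ := Nat.exists_prime_and_dvd (n := q) (by omega)
  obtain ⟨a, ha⟩ := exists_block hF hr (Dvd.dvd.mul_right hrq _)
  have h1 := (Nat.prime_dvd_prime_iff_eq hw hp).1 (hz ▸ orderOf_dvd_natCard z)
  have h2 := (Nat.prime_dvd_prime_iff_eq hr hp).1 (ha ▸ orderOf_dvd_natCard _)
  rw [← h2] at h1
  rw [h1] at hw1
  exact hr.one_lt.ne' (Nat.dvd_one.1 ((Nat.dvd_add_right hrq).1 hw1))

theorem two_mul_le : ∀ f : ℕ, 1 ≤ f → 2 * f ≤ 2 ^ f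
  | 1, _ => by norm_num
  | n + 2, _ => by
    have := two_mul_le (n + 1) (by omega)
    rw [pow_succ]
    omega

/-- arithmetic, `d = 1` -/
theorem arith_one {p f : ℕ} (hp : 2 ≤ p) (hf : 1 ≤ f) (hqf : q = p ^ f) (hq : 3 ≤ q) (hex : q ∉ ({3, 4, 5, 8} : Finset ℕ)) :
    6 * f < q ^ 2 - q := by
  have h1 := two_mul_le f hf
  have h2 : 2 ^ f ≤ q := by rw [hqf]; exact Nat.pow_le_pow_left hp f
  simp only [Finset.mem_insert, Finset.mem_singleton, not_or] at hex
  have h5 : 5 ≤ q := by omega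
  have h6 : q * 5 ≤ q ^ 2 := by rw [pow_two]; exact Nat.mul_le_mul_left q h5
  omega

/-- arithmetic, `d = 3` -/
theorem arith_three {p f : ℕ} (hp : 2 ≤ p) (hf : 1 ≤ f) (hqf : q = p ^ f) (hq : 3 ≤ q) (h3 : 3 ∣ q + 1)
    (hex : q ∉ ({3, 4, 5, 8} : Finset ℕ)) : 54 * f + 3 < q ^ 2 - q + 1 := by
  have h1 := two_mul_le f hf
  have h2 : 2 ^ f ≤ q := by rw [hqf]; exact Nat.pow_le_pow_left hp f
  simp only [Finset.mem_insert, Finset.mem_singleton, not_or] at hex
  have hsq : ∀ a : ℕ, q ≠ a ^ 2 := by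
    intro a ha
    rw [ha] at h3
    have h4 : (a ^ 2 + 1) % 3 = 0 := Nat.mod_eq_zero_of_dvd h3
    have h5 : a % 3 < 3 := Nat.mod_lt _ (by norm_num)
    rw [Nat.add_mod, Nat.pow_mod] at h4
    interval_cases a % 3 <;> omega
  have big : 32 ≤ q → 54 * f + 3 < q ^ 2 - q + 1 := by
    intro h32
    have h6 : q * 32 ≤ q ^ 2 := by rw [pow_two]; exact Nat.mul_le_mul_left q h32
    omega
  by_cases h32 : 32 ≤ q
  · exact big h32
  · have hf4 : f ≤ 4 := by
      by_contra hcon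
      have : 2 ^ 5 ≤ 2 ^ f := Nat.pow_le_pow_right (by norm_num) (by omega)
      omega
    have hf24 : f ≠ 2 ∧ f ≠ 4 := by
      constructor
      · rintro rfl; exact hsq p hqf
      · rintro rfl; exact hsq (p ^ 2) (by rw [hqf, ← pow_mul])
    have hf13 : f = 1 ∨ f = 3 := by omega
    rcases hf13 with rfl | rfl
    · have h8 : 8 ≤ q := by omega
      have h6 : q * 8 ≤ q ^ 2 := by rw [pow_two]; exact Nat.mul_le_mul_left q h8
      have h11 : 11 ≤ q := by omega
      have h7 : q * 11 ≤ q ^ 2 := by rw [pow_two]; exact Nat.mul_le_mul_left q h11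
      omega
    · have hp3 : 3 ≤ p := by
        by_contra hlt
        have : p = 2 := by omega
        rw [this] at hqf
        omega
      have : 3 ^ 3 ≤ p ^ 3 := Nat.pow_le_pow_left hp3 3
      rw [← hqf] at this
      have h6 : q * 27 ≤ q ^ 2 := by rw [pow_two]; exact Nat.mul_le_mul_left q (by omega)
      omega

theorem cube_fac (hq : 1 ≤ q) : q ^ 3 + 1 = (q ^ 2 - q + 1) * (q + 1) := by
  rw [H907.Mx.dd_eq q hq]
  obtain ⟨k, rfl⟩ : ∃ k, q = k + 1 := ⟨q - 1, by omega⟩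
  rw [Nat.add_sub_cancel]; ring

/-- the orders of `-q` and `q²` -/
theorem orders {v : ℕ} (hv : v.Prime) (hq : 3 ≤ q) (hd : v ∣ q ^ 2 - q + 1) (hn : ¬ v ∣ q * (q ^ 2 - 1)) :
    orderOf ((xv false q : ℤ) : ZMod v) = 3 ∧ orderOf (((q ^ 2 : ℕ)) : ZMod v) = 3 := by
  have : Fact v.Prime := ⟨hv⟩
  have hx : ((xv false q : ℤ) : ZMod v) = -(q : ZMod v) := by simp [xv]
  have h3 : (q : ZMod v) ^ 3 = -1 := by
    have h1 : v ∣ q ^ 3 + 1 := by rw [cube_fac (by omega)]; exact Dvd.dvd.mul_right hd _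
    rw [← ZMod.natCast_eq_zero_iff] at h1
    push_cast at h1
    exact eq_neg_of_add_eq_zero_left h1
  have h2 : (q : ZMod v) ^ 2 ≠ 1 := by
    intro h
    apply hn
    apply Dvd.dvd.mul_left
    rw [← ZMod.natCast_eq_zero_iff, Nat.cast_sub (Nat.one_le_pow _ _ (by omega)), Nat.cast_pow, h, Nat.cast_one, sub_self]
  have hp3 : Fact (Nat.Prime 3) := ⟨Nat.prime_three⟩
  constructor
  · rw [hx]
    refine orderOf_eq_prime ?_ ?_
    · rw [neg_pow, h3]; ring
    · intro h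
      apply h2
      rw [← neg_sq, h, one_pow]
  · refine orderOf_eq_prime ?_ ?_
    · rw [Nat.cast_pow, ← pow_mul, mul_comm, pow_mul, h3]; ring
    · rw [Nat.cast_pow]; exact h2

/-- **the primes dividing `q² - q + 1`** -/
theorem not_SC_large (hF : Fintype.card F = q ^ 2) (hq : 3 ≤ q) (hex : q ∉ ({3, 4, 5, 8} : Finset ℕ)) {v : ℕ}
    (hv : v.Prime) (hd : v ∣ q ^ 2 - q + 1) (hn : ¬ v ∣ q * (q ^ 2 - 1)) : ¬ SC (PSU 3 F q) v := by
  have hfin : Finite (PSU 3 F q) := Quotient.finite _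
  have hvf : Fact v.Prime := ⟨hv⟩
  have hsim : IsSimpleGroup (PSU 3 F q) := S0283.result hF 3 le_rfl (by rintro ⟨-, h⟩; omega)
  obtain ⟨hi, ho⟩ := orders hv hq hd hn
  have ho' : orderOf ((Nat.card F : ℕ) : ZMod v) = 3 := by rw [Nat.card_eq_fintype_card, hF]; exact ho
  have h3v : 3 ∣ v - 1 := three_dvd_sub hv hi
  have hv2 := hv.two_le
  have hv4 : 4 ≤ v := by omega
  have hvq : ¬ v ∣ q := fun h => hn (Dvd.dvd.mul_right h _)
  have hvq1 : ¬ v ∣ q + 1 := by
    intro h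
    apply hn
    rw [H372.FxU.sq_sub hF]
    exact Dvd.dvd.mul_left (Dvd.dvd.mul_left h _) _
  have hvF : (v : F) ≠ 0 := H372.FxU.cast_ne_zero hv hF hvq
  have hdS : v ∣ Nat.card (SU 3 F q) := by
    rw [H372.FxU.card_three hF, cube_fac (by omega)]
    exact Dvd.dvd.mul_left (Dvd.dvd.mul_left (Dvd.dvd.mul_right hd _) _) _
  obtain ⟨y, hy⟩ := exists_torus hF hv ho' hdS
  obtain ⟨N, hN⟩ : ∃ N, N = q ^ 2 - q + 1 := ⟨_, rfl⟩
  rw [← hN] at hy hd
  -- the order of the image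
  obtain ⟨o, hoo⟩ : ∃ o, o = orderOf (pr 3 F q y) := ⟨_, rfl⟩
  have h1 : N ∣ 3 * o := by
    rw [← hy, orderOf_dvd_iff_pow_eq_one, mul_comm, pow_mul]
    apply center_cube hF
    rw [← pr_eq_one_iff, map_pow, hoo, pow_orderOf_eq_one]
  have hvo : v ∣ o := by
    refine ((hv.dvd_mul).1 (hd.trans h1)).resolve_left fun h => ?_
    have := (Nat.prime_dvd_prime_iff_eq hv Nat.prime_three).1 h
    omega
  by_cases hov : o = v
  swap
  · exact not_SC_of_orderOf hv (y := pr 3 F q y) (hoo ▸ hvo) (fun h => hov (by rw [hoo, h]))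
  intro hSC
  have hb := hSC.sub_one_le hv (x := pr 3 F q y) (by rw [← hoo, hov])
  have hc := card_conjPow_le hF hv hi hvF (x := pr 3 F q y) (by rw [← hoo, hov])
  -- outer automorphisms
  obtain ⟨p, f, hp, hf, hqf⟩ : ∃ p f : ℕ, p.Prime ∧ 1 ≤ f ∧ q = p ^ f := by
    obtain ⟨p, n, r, h, -⟩ := H947.El.exists_PN hF hq
    exact ⟨p, n, h.pp, h.n0, h.qp⟩
  have hpf : Fact p.Prime := ⟨hp⟩
  have hout : Nat.card (Cfsg.Out (Cfsg.PSU 3 F q)) = Nat.gcd 3 (q + 1) * (2 * f) :=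
    Cfsg.Agent.H934.OutB.card_out_of_aut (not_comm hF hq)
      (Cfsg.Agent.S0815.result p f hf hqf hF 3 le_rfl (by rintro ⟨-, h⟩; omega))
  rw [hout] at hb
  have hb' : v - 1 ≤ Nat.gcd 3 (q + 1) * (2 * f) * 3 := hb.trans (Nat.mul_le_mul_left _ hc)
  rw [hov] at h1
  obtain ⟨t, ht⟩ := hd
  have ht3 : t ∣ 3 := by
    rw [ht, mul_comm 3 v] at h1
    exact Nat.dvd_of_mul_dvd_mul_left hv.pos h1
  have hadd := H907.Mx.dd_add (q := q) (by omega)
  rw [← hN] at hadd
  rcases (Nat.dvd_prime Nat.prime_three).1 ht3 with rfl | rfl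
  · -- `N = v`
    rw [mul_one] at ht
    have hg : Nat.gcd 3 (q + 1) = 1 := by
      rcases (Nat.dvd_prime Nat.prime_three).1 (Nat.gcd_dvd_left 3 (q + 1)) with h | h
      · exact h
      · exfalso
        have h5 : 3 ∣ q + 1 := by rw [← h]; exact Nat.gcd_dvd_right _ _
        have h6 : 3 ∣ N := by rw [hadd]; exact dvd_add (Dvd.dvd.mul_right h5 _) dvd_rfl
        rw [ht] at h6
        have := (Nat.prime_dvd_prime_iff_eq Nat.prime_three hv).1 h6
        omega
    rw [hg] at hb'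
    have h7 := arith_one hp.two_le hf hqf hq hex
    omega
  · -- `N = 3 v`
    have h5 : 3 ∣ q + 1 := by
      have h6 : 3 ∣ N := by rw [ht]; exact Dvd.intro_left _ rfl
      rw [hadd] at h6
      have h7 : 3 ∣ (q + 1) * (q - 2) := (Nat.dvd_add_left dvd_rfl).1 h6
      rcases Nat.prime_three.dvd_mul.1 h7 with h8 | h8
      · exact h8
      · have : q + 1 = (q - 2) + 3 := by omega
        rw [this]
        exact dvd_add h8 dvd_rfl
    have hg : Nat.gcd 3 (q + 1) = 3 := Nat.gcd_eq_left h5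
    rw [hg] at hb'
    have h7 := arith_three hp.two_le hf hqf hq h5 hex
    omega

/-- **`NSC` for `PSU₃(q)`** -/
theorem nsc_psu3 (hF : Fintype.card F = q ^ 2) (hq : 3 ≤ q) (hex : q ∉ ({3, 4, 5, 8} : Finset ℕ)) :
    NSC (PSU 3 F q) := by
  intro v hv hd
  by_cases h : v ∣ q * (q ^ 2 - 1)
  · exact not_SC_small hF hq hv h
  · refine not_SC_large hF hq hex hv ?_ h
    have h1 : v ∣ Nat.card (SU 3 F q) := by
      rw [← H372.FxU.card_psu hF le_rfl]
      exact Dvd.dvd.mul_right hd _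
    rw [H372.FxU.card_three hF, cube_fac (by omega)] at h1
    rcases hv.dvd_mul.1 h1 with h2 | h2
    · exact absurd (Dvd.dvd.mul_right (hv.dvd_of_dvd_pow h2) _) h
    · rcases hv.dvd_mul.1 h2 with h3 | h3
      · exact absurd (Dvd.dvd.mul_left h3 _) h
      · rcases hv.dvd_mul.1 h3 with h4 | h4
        · exact h4
        · exfalso
          apply h
          rw [H372.FxU.sq_sub hF]
          exact Dvd.dvd.mul_left (Dvd.dvd.mul_left h4 _) _

end nsc

section pgap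

open Cfsg.Agent.H947.El Cfsg.Agent.H947.Sq Cfsg.Agent.H396 Cfsg.Agent.H907.Mx Cfsg.Agent.H938.Sax
open scoped MatrixGroups

variable {F : Type*} [Field F] [Fintype F] {q : ℕ}

/-- every maximal subgroup misses a prime -/
theorem pgap_psu3 (hF : Fintype.card F = q ^ 2) (hq : 3 ≤ q) (hne3 : q ≠ 3) (hne5 : q ≠ 5) {M : Subgroup (PSU 3 F q)}
    (hM : IsCoatom M) : PGap (PSU 3 F q) M := by
  by_contra hD
  have hfin : Finite (PSU 3 F q) := Quotient.finite _
  have hall : ∀ s : ℕ, s.Prime → s ∣ Nat.card (PSU 3 F q) → s ∣ Nat.card M := by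
    intro s hs hd
    by_contra h
    exact hD ⟨s, hs, hd, h⟩
  obtain ⟨p, n, r, h, hchar⟩ := exists_PN hF hq
  obtain ⟨hrT, h2T, -⟩ := psu3_orders hF h
  have hf2 : Fact (Nat.Prime 2) := ⟨Nat.prime_two⟩
  have hfr : Fact r.Prime := ⟨h.pr⟩
  set π := QuotientGroup.mk' (Subgroup.center (Cfsg.SU 3 F q)) with hπ
  have hπs : Function.Surjective π := QuotientGroup.mk'_surjective _
  set ι := suHom 3 F q with hι
  have hιi : Function.Injective ι := suHom_injective
  set H := (M.comap π).map ι with hHd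
  have hH : IsMaximalIn (SUg 3 F q) H := by
    have := isMaximalIn_of_coatom π hπs ι hιi hM
    rwa [range_suHom] at this
  have hcMπ : Nat.card M ∣ Nat.card (M.comap π) := by
    have h1 : (M.comap π).map π = M := Subgroup.map_comap_eq_self_of_surjective hπs M
    have h2 : Nat.card ((M.comap π).map π) ∣ Nat.card (M.comap π) := Subgroup.card_map_dvd _ _
    rwa [h1] at h2
  have hcH : Nat.card (M.comap π) = Nat.card H := (Subgroup.card_map_of_injective hιi).symm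
  have hMH : Nat.card M ∣ Nat.card H := hcH ▸ hcMπ
  have hfinS : Finite (Cfsg.SU 3 F q) := inferInstance
  obtain ⟨x, hx⟩ := exists_prime_orderOf_dvd_card' (G := H) r ((hall r h.pr hrT).trans hMH)
  obtain ⟨t, ht⟩ := exists_prime_orderOf_dvd_card' (G := H) 2 ((hall 2 Nat.prime_two h2T).trans hMH)
  have hxo : orderOf (x : GL (Fin 3) F) = r := by rw [Subgroup.orderOf_coe, hx]
  have hto : orderOf (t : GL (Fin 3) F) = 2 := by rw [Subgroup.orderOf_coe, ht]
  have hres := geom_false hF hq h hH x.2 t.2 (by rw [← hxo]; exact pow_orderOf_eq_one _)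
    (by intro h1; rw [h1, orderOf_one] at hxo; exact h.pr.one_lt.ne hxo)
    (by rw [← pow_two, ← hto]; exact pow_orderOf_eq_one _)
    (by intro h1; rw [h1, orderOf_one] at hto; omega)
  obtain ⟨P, hP, hqp, hcases⟩ := Cfsg.Agent.S5779.result q hF hq H hH hres
  have hge := h.ge
  have hn := h.n0
  have hHS : H ≤ SUg 3 F q := hH.1.le
  have hrH : r ∣ Nat.card H := (hall r h.pr hrT).trans hMH
  rcases hcases with ⟨⟨e⟩, hq5, hq7⟩ | ⟨⟨e⟩, -⟩ | ⟨⟨e⟩, hq5⟩
  · have h1008 : Nat.card H ∣ 1008 := card_dvd_l32 hP hHS ⟨e⟩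
    have hqT : q ∣ Nat.card (PSU 3 F q) := by
      have hcard := Cfsg.Agent.H394.SqPsu3.card_psu3 hF
      have h2 : q ∣ Nat.gcd 3 (q + 1) * Nat.card (PSU 3 F q) := by
        rw [hcard]; exact (dvd_pow_self q (by norm_num)).mul_right _
      refine (hqp.dvd_mul.1 h2).resolve_left fun h3 => ?_
      have h4 := h3.trans (Nat.gcd_dvd_right 3 (q + 1))
      exact hqp.one_lt.ne' (Nat.dvd_one.1 ((Nat.dvd_add_right (dvd_refl q)).1 h4))
    have h1 := ((hall q hqp hqT).trans hMH).trans h1008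
    have h2 : q ∣ 2 ^ 4 * 3 ^ 2 * 7 := by norm_num; exact h1
    rcases hqp.dvd_mul.1 h2 with h3 | h3
    · rcases hqp.dvd_mul.1 h3 with h4 | h4
      · have := Nat.le_of_dvd (by norm_num) (hqp.dvd_of_dvd_pow h4); omega
      · have := Nat.le_of_dvd (by norm_num) (hqp.dvd_of_dvd_pow h4); omega
    · have := (Nat.prime_dvd_prime_iff_eq hqp (by norm_num)).1 h3
      omega
  · have h4320 : Nat.card H ∣ 4320 := card_dvd_a6 hP hHS ⟨e⟩
    have h2 : r ∣ 2 ^ 5 * 3 ^ 3 * 5 := by norm_num; exact hrH.trans h4320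
    rcases h.pr.dvd_mul.1 h2 with h3 | h3
    · rcases h.pr.dvd_mul.1 h3 with h4 | h4
      · have := Nat.le_of_dvd (by norm_num) (h.pr.dvd_of_dvd_pow h4); omega
      · have := Nat.le_of_dvd (by norm_num) (h.pr.dvd_of_dvd_pow h4); omega
    · have := Nat.le_of_dvd (by norm_num) h3; omega
  · exact hne5 hq5

end pgap

/-- **The row `PSU₃(q)` of S3500.** -/
theorem row_psu3 {F : Type} [Field F] [Fintype F] {q : ℕ} (hF : Fintype.card F = q ^ 2) (hq : 3 ≤ q)
    (hex : q ∉ ({3, 4, 5, 8} : Finset ℕ)) : Row (Cfsg.PSU 3 F q) := by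
  have hfin : Finite (PSU 3 F q) := Quotient.finite _
  refine Row.of_pgap (nsc_psu3 hF hq hex) fun M hM => ?_
  simp only [Finset.mem_insert, Finset.mem_singleton, not_or] at hex
  exact pgap_psu3 hF hq hex.1 hex.2.2.1 hM

end Cfsg.Agent.H410.DerPsu
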