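import Cfsg.Agent.H410.RankOne
import Cfsg.Agent.H410.Types
import Cfsg.Agent.HKS.EndOrd
import Cfsg.Agent.Nodes.NormalForm

/-!
# Simple groups of prime degree: root group data with one node, `PSU_3(q)` (helper410)

* `dvd_of_rgd_one` : `R : RGD ...` with one node in a simple group which is transitive on `ℓ ≠ r` points, `ℓ` prime:
  `|U| ∣ ℓ - 1`;
* `Hyp.not_psu_three`.
-/

set_option autoImplicit false
set_option linter.unusedSectionVars false

namespace Cfsg.Agent.H410.PSUThree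

open Cfsg
open CoxeterSystem Cfsg.Agent.ChevalleyStructure.CoxeterGeom Cfsg.Agent.Tits.Roots Cfsg.Agent.Tits.Core
  Cfsg.Agent.Nodes.Comb Cfsg.Agent.Nodes.Reps Cfsg.Agent.Nodes.BNOf Cfsg.Agent.Nodes.Bruhat
  Cfsg.Agent.Nodes.RGDLib Cfsg.Agent.H410.TwoTransRGD Cfsg.Agent.H410.RankOne Cfsg.Agent.H410.Basic
  Cfsg.Agent.Omega.ML.Ex.Typ Cfsg.Agent.H410.Types

section

variable {I W Y : Type*} [Fintype I] [DecidableEq I] [Group W] [Group Y] {M : CoxeterMatrix I}
  {cs : CoxeterSystem M W} {A : I → I → ℤ} {h : IsCartan M A} {r : ℕ} {T : Subgroup Y} {n : I → Y}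
  {X : (I → ℤ) → Subgroup Y}

/-- with one node, `W = {1, s}` -/
theorem eq_simple {i : I} (hi : ∀ j : I, j = i) {w : W} (hw : w ≠ 1) : w = cs.simple i := by
  obtain ⟨j, hj⟩ := cs.exists_leftDescent_of_ne_one hw
  obtain rfl := hi j
  by_cases h1 : cs.simple j * w = 1
  · have := congrArg (cs.simple j * ·) h1
    simpa using this
  · exfalso
    obtain ⟨k, hk⟩ := cs.exists_leftDescent_of_ne_one h1
    obtain rfl := hi k
    have h2 : cs.length (cs.simple k * w) < cs.length w := hj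
    have h3 : cs.length (cs.simple k * (cs.simple k * w)) < cs.length (cs.simple k * w) := hk
    rw [cs.simple_mul_simple_cancel_left] at h3
    omega

variable (R : RGD cs h r T n X)

include R

/-- **Root group data with one node.** -/
theorem dvd_of_rgd_one [Finite W] [hr : Fact r.Prime] {i : I} (hi : ∀ j : I, j = i)
    (hG : RGD.Sup X {x | IsRoot cs h x} = ⊤) {Ω : Type*} [MulAction Y Ω] {ℓ : ℕ} (hyp : Hyp Y Ω ℓ) (hne : r ≠ ℓ) :
    Nat.card ↥(RGD.Sup X (RGD.Pos cs h)) ∣ ℓ - 1 := by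
  have := hyp.fin
  have := hyp.finite
  have := hyp.simple
  have htr := hyp.trans
  obtain ⟨α, hU⟩ := hyp.exists_fix hne (R.isPGroup_Upos)
  have hindex := hyp.index_stabilizer α
  have htop : MulAction.stabilizer Y α ≠ ⊤ := by
    intro h1
    rw [h1, Subgroup.index_top] at hindex
    exact hyp.prime.one_lt.ne hindex
  obtain ⟨s, hs⟩ := exists_not_mem R hG hU htop
  have hJ : JH X (MulAction.stabilizer Y α) = ∅ := by
    rw [Set.eq_empty_iff_forall_notMem]
    intro j hj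
    apply hs
    rw [hi s, ← hi j]
    exact hj
  have hcell : ∀ g : Y, ∃ u, Cell R.nsys cs h X u g := fun g =>
    (mem_GG R).1 (by rw [GG_eq_top_of_gen R hG]; exact Subgroup.mem_top g)
  have hle : MulAction.stabilizer Y α ≤ RGD.B cs h T X := by
    intro g hg
    obtain ⟨w, hw⟩ := hcell g
    have h1 := cell_mem R hU hw hg
    have h2 : w = 1 := by
      rw [hJ] at h1
      unfold WJ at h1
      rwa [Set.image_empty, Subgroup.closure_empty, Subgroup.mem_bot] at h1
    subst h2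
    exact hw.mem_of_one
  have hB : RGD.B cs h T X ≠ ⊤ := fun h1 => R.not_neg_le_B i (by rw [h1]; exact le_top)
  have hBα := hyp.eq_of_le hle hB
  -- `U = X α_i`
  have hPos : RGD.Sup X (RGD.Pos cs h) ≤ X (sr i) := by
    refine RGD.Sup_le ?_
    rintro x ⟨⟨w, j, rfl⟩, h0⟩
    obtain rfl := hi j
    by_cases hw : w = 1
    · rw [hw, map_one, Module.End.one_apply]
    · exfalso
      rw [eq_simple (cs := cs) hi hw, rep_simple_sr] at h0
      have := h0 j
      rw [Pi.neg_apply, sr_self] at this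
      exact absurd this (by show ¬ ((0 : ℤ) ≤ -1); decide)
  have hfix : ∀ u : ↥(RGD.Sup X (RGD.Pos cs h)), u • α = α := fun u => hU u.2
  have hfree : ∀ (u : ↥(RGD.Sup X (RGD.Pos cs h))) (x : Ω), x ≠ α → u • x = x → u = 1 := by
    rintro u x hx hux
    obtain ⟨g, rfl⟩ := MulAction.exists_smul_eq Y α x
    have h1 : g⁻¹ * (u : Y) * g ∈ RGD.B cs h T X := by
      rw [hBα, MulAction.mem_stabilizer_iff, mul_smul, mul_smul, inv_smul_eq_iff]
      exact hux
    have h2 : g ∉ RGD.B cs h T X := by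
      rw [hBα, MulAction.mem_stabilizer_iff]
      exact hx
    obtain ⟨w, hw⟩ := hcell g
    have hw1 : w ≠ 1 := by
      rintro rfl
      exact h2 hw.mem_of_one
    rw [eq_simple (cs := cs) hi hw1] at hw
    obtain ⟨b₁, hb₁, k, hk, b₂, hb₂, e⟩ := hw
    have h3 : b₁⁻¹ * (u : Y) * b₁ ∈ RGD.Sup X (RGD.Pos cs h) := by
      have := (Subgroup.mem_normalizer_iff.1 (R.B_le_normalizer_U (inv_mem hb₁)) u).1 u.2
      rwa [inv_inv] at this
    have h4 : k⁻¹ * (b₁⁻¹ * (u : Y) * b₁) * (k⁻¹)⁻¹ ∈ RGD.B cs h T X := by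
      have h5 : k⁻¹ * (b₁⁻¹ * (u : Y) * b₁) * (k⁻¹)⁻¹ = b₂ * (g⁻¹ * (u : Y) * g) * b₂⁻¹ := by rw [e]; group
      rw [h5]
      exact mul_mem (mul_mem hb₂ h1) (inv_mem hb₂)
    have h5 : Rp cs R.nsys (cs.simple i) k⁻¹ := by
      have := hk.inv
      rwa [cs.inv_simple] at this
    have h6 := eq_one_of_conj_mem_B R (hPos h3) h5 h4
    apply Subtype.ext
    have h7 : (u : Y) = b₁ * (b₁⁻¹ * (u : Y) * b₁) * b₁⁻¹ := by group
    rw [h7, h6]
    simp
  have := card_dvd_sub_one hfix hfree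
  rwa [hyp.card] at this

/-- `U` is a Sylow subgroup -/
theorem exists_sylow [Finite W] [Finite Y] [hr : Fact r.Prime] (hG : RGD.Sup X {x | IsRoot cs h x} = ⊤) :
    ∃ P : Sylow r Y, (P : Subgroup Y) = RGD.Sup X (RGD.Pos cs h) := by
  obtain ⟨P, hP⟩ := (R.isPGroup_Upos).exists_le_sylow
  exact ⟨P, Nodes.NormalForm.eq_U_of_isPGroup R P.2 hP (by rw [GG_eq_top_of_gen R hG]; exact le_top)⟩

end

/-- **`PSU_3(q)`.** -/
theorem _root_.Cfsg.Agent.H410.Basic.Hyp.not_psu_three {T Ω : Type*} [Group T] [MulAction T Ω] {p : ℕ} (hyp : Hyp T Ω p)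
    {F : Type} [Field F] [Fintype F] {q : ℕ} (hF : Fintype.card F = q ^ 2) (e : T ≃* PSU 3 F q) : False := by
  obtain ⟨r, hc⟩ := CharP.exists F
  have : Fact r.Prime := ⟨CharP.char_is_prime F r⟩
  have hfin := hyp.fin
  obtain ⟨m, hm, hR⟩ := typ_PSU (p := r) hF (le_refl 3)
  obtain rfl : m = 1 := by omega
  obtain ⟨A, h, T', n, X, hW, R, hX⟩ := hR.of_equiv e.symm
  obtain ⟨t, rfl⟩ : ∃ t, q = t + 1 := by
    refine ⟨q - 1, ?_⟩
    rcases Nat.eq_zero_or_pos q with rfl | h0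
    · have := Fintype.card_pos (α := F)
      rw [hF] at this
      exact absurd this (by norm_num)
    · omega
  have hcard := HKS.EndOrd.card_psu_three (F := F) hF
  rw [← Nat.card_congr e.toEquiv] at hcard
  have ht : 1 ≤ t := by
    by_contra h0
    have : t = 0 := by omega
    subst this
    have := Fintype.one_lt_card (α := F)
    rw [hF] at this
    exact absurd this (by norm_num)
  -- `t + 1` is a power of `r`
  obtain ⟨a, ha⟩ : ∃ a, t + 1 = r ^ a := by
    obtain ⟨n, -, hn⟩ := FiniteField.card F r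
    rw [hF] at hn
    obtain ⟨a, -, ha⟩ := (Nat.dvd_prime_pow this.out).1 (Dvd.intro _ ((pow_two (t + 1)).symm.trans hn))
    exact ⟨a, ha⟩
  have hrt : r ∣ t + 1 := by
    rw [ha]
    refine dvd_pow_self r ?_
    rintro rfl
    rw [pow_zero] at ha
    omega
  have hr2 := this.out.two_le
  have hnd : ∀ x y : ℕ, (t + 1) * x = y + 1 → ¬ r ∣ y := by
    intro x y hxy h1
    have h2 : r ∣ y + 1 := hxy ▸ (hrt.mul_right x)
    have h3 := (Nat.dvd_add_right h1).1 h2
    exact absurd (Nat.le_of_dvd one_pos h3) (by omega)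
  have hn1 : ¬ r ∣ t := hnd 1 t (by ring)
  have hn2 : ¬ r ∣ t + 2 := by
    intro h1
    have h2 := (Nat.dvd_sub h1 hrt)
    rw [show t + 2 - (t + 1) = 1 by omega] at h2
    exact absurd (Nat.le_of_dvd one_pos h2) (by omega)
  have hn3 : ¬ r ∣ t ^ 2 + t + 1 := by
    intro h1
    have h2 : r ∣ (t + 1) * t := hrt.mul_right t
    rw [show t ^ 2 + t + 1 = (t + 1) * t + 1 by ring] at h1
    have h3 := (Nat.dvd_add_right h2).1 h1
    exact absurd (Nat.le_of_dvd one_pos h3) (by omega)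
  -- `|U| = (t + 1) ^ 3`
  have hfW : Finite (CoxeterMatrix.B 1).Group := hW
  obtain ⟨P, hP⟩ := exists_sylow R hX
  have hPc : Nat.card P = (t + 1) ^ 3 := by
    have h4 := Sylow.card_eq_multiplicity P
    have hpos : Nat.card T ≠ 0 := Nat.card_pos.ne'
    have h5 : (Nat.gcd 3 (t + 2) * Nat.card T).factorization r = (Nat.card T).factorization r := by
      have hg : Nat.gcd 3 (t + 2) ≠ 0 := Nat.gcd_ne_zero_left (by norm_num)
      rw [Nat.factorization_mul hg hpos, Finsupp.coe_add, Pi.add_apply, Nat.factorization_eq_zero_of_not_dvd, zero_add]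
      intro h6
      exact hn2 (h6.trans (Nat.gcd_dvd_right 3 (t + 2)))
    have hrest : ¬ r ∣ t * ((t + 2) ^ 2 * (t ^ 2 + t + 1)) := by
      intro h6
      rcases this.out.dvd_mul.1 h6 with h7 | h7
      · exact hn1 h7
      · rcases this.out.dvd_mul.1 h7 with h8 | h8
        · exact hn2 (this.out.dvd_of_dvd_pow h8)
        · exact hn3 h8
    have hr0 : t * ((t + 2) ^ 2 * (t ^ 2 + t + 1)) ≠ 0 := by
      intro h0
      rw [h0] at hrest
      exact hrest (dvd_zero r)
    have hr1 : (t + 1) ^ 3 ≠ 0 := by positivity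
    have h6 : (Nat.card T).factorization r = a * 3 := by
      rw [← h5, hcard, Nat.factorization_mul hr1 hr0, Finsupp.coe_add,
        Pi.add_apply, Nat.factorization_eq_zero_of_not_dvd hrest, add_zero, ha, ← pow_mul,
        Nat.Prime.factorization_pow this.out, Finsupp.single_eq_same]
    rw [h4, h6, pow_mul, ← ha]
  have hU : Nat.card ↥(RGD.Sup X (RGD.Pos (CoxeterMatrix.B 1).toCoxeterSystem h)) = (t + 1) ^ 3 := by
    rw [← hPc]
    exact Nat.card_congr (Equiv.setCongr (congrArg (fun S : Subgroup T => (S : Set T)) hP.symm))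
  have hsq : r ^ 2 ∣ Nat.card T := by
    have h1 : r ^ 3 ∣ Nat.card T := by
      have h2 : Nat.card P ∣ Nat.card T := Subgroup.card_subgroup_dvd_card _
      rw [hPc] at h2
      exact (pow_dvd_pow_of_dvd hrt 3).trans h2
    exact (pow_dvd_pow r (by norm_num)).trans h1
  have hdvd := dvd_of_rgd_one R (i := (0 : Fin 1)) (fun j => Subsingleton.elim _ _) hX hyp (hyp.ne_of_sq hsq)
  rw [hU] at hdvd
  have hle := Nat.le_of_dvd (by have := hyp.five_le; omega) hdvd
  -- `p` divides the order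
  have h1 : p ∣ (t + 1) ^ 3 * (t * ((t + 2) ^ 2 * (t ^ 2 + t + 1))) := hcard ▸ (hyp.dvd.mul_left _)
  have h5 := hyp.five_le
  have hbig : (t + 1) ^ 3 + 1 ≤ p := by omega
  have hcases : p ≤ t + 1 ∨ p ≤ t ∨ p ≤ t + 2 ∨ p ≤ t ^ 2 + t + 1 := by
    rcases hyp.prime.dvd_mul.1 h1 with h2 | h2
    · exact Or.inl (Nat.le_of_dvd (by omega) (hyp.prime.dvd_of_dvd_pow h2))
    rcases hyp.prime.dvd_mul.1 h2 with h3 | h3
    · exact Or.inr (Or.inl (Nat.le_of_dvd (by omega) h3))
    rcases hyp.prime.dvd_mul.1 h3 with h4 | h4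
    · exact Or.inr (Or.inr (Or.inl (Nat.le_of_dvd (by omega) (hyp.prime.dvd_of_dvd_pow h4))))
    · exact Or.inr (Or.inr (Or.inr (Nat.le_of_dvd (by positivity) h4)))
  have e3 : (t + 1) ^ 3 = t ^ 3 + 3 * t ^ 2 + 3 * t + 1 := by ring
  rw [e3] at hbig
  have h6 : 0 < t ^ 2 := by positivity
  rcases hcases with h7 | h7 | h7 | h7 <;> omega

end Cfsg.Agent.H410.PSUThree
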