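import Cfsg.Agent.H410.ParRGD
import Cfsg.Agent.H410.PSUThree

/-!
# 2-transitive groups with a normal subgroup with root group data (helper410)

`G` 2-transitive on `Ω`, `T ⊴ G` with a generating root group datum `R` of characteristic `r`, `U ≤ T_α ≠ T`:

* `frattini` : `G_α = T_α N_{G_α}(U)`;
* `key` : every non-trivial double coset of `T_α` meets a cell over a simple reflection;
* `B_le` : `B ≤ T_α`;
* `main` : `T_α` is a parabolic subgroup with `JH T_α = {s}ᶜ` and `CoxTwo.TwoT cs s`.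
-/

set_option autoImplicit false
set_option linter.unusedSectionVars false

namespace Cfsg.Agent.H410.ASTits

open CoxeterSystem Cfsg.Agent.ChevalleyStructure.CoxeterGeom Cfsg.Agent.Tits.Roots Cfsg.Agent.Tits.Core
  Cfsg.Agent.Tits.Exchange Cfsg.Agent.Nodes.Comb Cfsg.Agent.Nodes.Reps Cfsg.Agent.Nodes.BNOf Cfsg.Agent.Nodes.Bruhat
  Cfsg.Agent.Nodes.RGDLib Cfsg.Agent.H410.TwoTransRGD Cfsg.Agent.H410.ParRGD
open MulAction
open scoped Pointwise

variable {I W G : Type*} [Fintype I] [DecidableEq I] [Group W] [Group G] {M : CoxeterMatrix I}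
  {cs : CoxeterSystem M W} {A : I → I → ℤ} {h : IsCartan M A} {r : ℕ} {T : Subgroup G} {Tor : Subgroup ↥T}
  {n : I → ↥T} {X : (I → ℤ) → Subgroup ↥T}

variable (R : RGD cs h r Tor n X) {Ω : Type*} [MulAction G Ω] [hn : T.Normal]

include R

/-- **The Frattini argument.** -/
theorem frattini [Finite W] [Finite G] [Fact r.Prime] (hG : RGD.Sup X {x | IsRoot cs h x} = ⊤) {α : Ω}
    (hU : RGD.Sup X (RGD.Pos cs h) ≤ stabilizer ↥T α) {g : G} (hg : g • α = α) :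
    ∃ a : ↥T, a • α = α ∧ ∀ x : ↥T, x ∈ RGD.Sup X (RGD.Pos cs h) ↔
      MulAut.conjNormal ((a : G)⁻¹ * g) x ∈ RGD.Sup X (RGD.Pos cs h) := by
  set U := RGD.Sup X (RGD.Pos cs h) with hUdef
  set H := stabilizer ↥T α with hH
  obtain ⟨P, hP⟩ := PSUThree.exists_sylow R hG
  set σ : MulAut ↥T := MulAut.conjNormal g with hσ
  have hPH : (P : Subgroup ↥T) ≤ H := by rw [hP]; exact hU
  have hσH : ∀ x, x ∈ H → σ x ∈ H := by
    intro x hx
    rw [hH, mem_stabilizer_iff, Subgroup.smul_def] at hx ⊢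
    rw [hσ, MulAut.conjNormal_apply, mul_smul, mul_smul, inv_smul_eq_iff.2 hg.symm, hx, hg]
  have hσP : ((σ • P : Sylow r ↥T) : Subgroup ↥T) ≤ H := by
    intro x hx
    obtain ⟨y, hy, rfl⟩ : ∃ y, y ∈ P ∧ σ • y = x := hx
    exact hσH y (hPH hy)
  obtain ⟨a, ha⟩ := MulAction.exists_smul_eq ↥H (P.subtype hPH) ((σ • P).subtype hσP)
  have key : ∀ x : ↥T, x ∈ U ↔ (a : ↥T) * x * (a : ↥T)⁻¹ ∈ (σ • P : Sylow r ↥T) := by
    intro x
    constructor
    · intro hx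
      have hxP : x ∈ P := by
        show x ∈ (P : Subgroup ↥T)
        rw [hP]; exact hx
      have h1 : (⟨x, hPH hxP⟩ : ↥H) ∈ P.subtype hPH := hxP
      have h2 : a * ⟨x, hPH hxP⟩ * a⁻¹ ∈ a • (P.subtype hPH) := ⟨_, h1, rfl⟩
      rw [ha] at h2
      exact h2
    · intro hx
      have hxH : (a : ↥T) * x * (a : ↥T)⁻¹ ∈ H := hσP hx
      have h1 : (⟨_, hxH⟩ : ↥H) ∈ (σ • P).subtype hσP := hx
      rw [← ha] at h1
      obtain ⟨y, hy, e⟩ := h1
      have e1 : a * y * a⁻¹ = ⟨_, hxH⟩ := e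
      have e2 : (a : ↥T) * (y : ↥T) * (a : ↥T)⁻¹ = (a : ↥T) * x * (a : ↥T)⁻¹ := congrArg Subtype.val e1
      have e3 : (y : ↥T) = x := mul_left_cancel (mul_right_cancel e2)
      rw [← e3, hUdef, ← hP]
      exact hy
  refine ⟨a, a.2, fun x => ?_⟩
  have e : MulAut.conjNormal ((a : G)⁻¹ * g) x = (a : ↥T)⁻¹ * σ x * (a : ↥T) := by
    apply Subtype.ext
    rw [MulAut.conjNormal_apply]
    push_cast
    rw [hσ, MulAut.conjNormal_apply]
    group
  rw [e]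
  set y := (a : ↥T)⁻¹ * σ x * (a : ↥T) with hy
  rw [key y]
  have e2 : (a : ↥T) * y * (a : ↥T)⁻¹ = σ x := by rw [hy]; group
  rw [e2]
  constructor
  · intro hx
    refine ⟨x, ?_, rfl⟩
    show x ∈ (P : Subgroup ↥T)
    rw [hP]; exact hx
  · rintro ⟨z, hz, e3⟩
    have e4 : z = x := σ.injective e3
    rw [hUdef, ← hP, ← e4]
    exact hz

/-- **Every non-trivial double coset of `T_α` meets a cell over a simple reflection.** -/
theorem key [Finite W] [Finite G] [Fact r.Prime] (hG : RGD.Sup X {x | IsRoot cs h x} = ⊤)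
    (h2 : IsMultiplyPretransitive G Ω 2) {α : Ω}
    (hU : RGD.Sup X (RGD.Pos cs h) ≤ stabilizer ↥T α) (hα : stabilizer ↥T α ≠ ⊤) {x : ↥T}
    (hx : x ∉ stabilizer ↥T α) :
    ∃ s, s ∉ JH X (stabilizer ↥T α) ∧ ∃ z, Cell R.nsys cs h X (cs.simple s) z ∧ ∃ a ∈ stabilizer ↥T α,
      ∃ b ∈ stabilizer ↥T α, z = a * x * b := by
  set H := stabilizer ↥T α with hH
  obtain ⟨s₀, hs₀⟩ := exists_not_mem R hG hU hα
  have hm : n s₀ ∉ H := by
    intro h1
    apply hs₀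
    refine TwoTransRGD.neg_le_of_rp R hU (rp_simple cs R.nsys s₀) h1 ?_
    rw [cs.inv_simple, rep_simple_sr]
    intro h1
    have h2 := h1 s₀
    rw [Pi.neg_apply, sr_self] at h2
    exact absurd h2 (by show ¬ ((0 : ℤ) ≤ -1); decide)
  have hne₁ : ((n s₀ : ↥T) : G) • α ≠ α := hm
  have hne₂ : (x : G) • α ≠ α := hx
  obtain ⟨g, hg₁, hg₂⟩ := (is_two_pretransitive_iff (G := G) (α := Ω)).1 h2 hne₁.symm hne₂.symm
  obtain ⟨a, ha, haU⟩ := frattini R hG hU hg₁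
  set k : G := (a : G)⁻¹ * g with hk
  have hkα : k • α = α := by
    rw [hk, mul_smul, hg₁, inv_smul_eq_iff]
    exact ha.symm
  have hkα' : k⁻¹ • α = α := by rw [inv_smul_eq_iff, hkα]
  obtain ⟨s, hs, hs2⟩ := cell_one_of_aut R hG (MulAut.conjNormal k) haU (cell_of_rp (rp_simple cs R.nsys s₀))
  refine ⟨s, fun h3 => hs₀ (hs2 H hU (fun y => ?_) h3), _, hs, a⁻¹, inv_mem ha,
    x⁻¹ * a * MulAut.conjNormal k (n s₀), ?_, by group⟩
  · rw [hH, mem_stabilizer_iff, mem_stabilizer_iff, Subgroup.smul_def, Subgroup.smul_def, MulAut.conjNormal_apply,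
      mul_smul, mul_smul, hkα', smul_eq_iff_eq_inv_smul k, hkα']
  · rw [hH, mem_stabilizer_iff, Subgroup.smul_def]
    push_cast
    rw [MulAut.conjNormal_apply, mul_smul, mul_smul, mul_smul, mul_smul, hkα', inv_smul_eq_iff, ← hg₂]
    have : ((a : G) • k • ((n s₀ : ↥T) : G) • α) = g • ((n s₀ : ↥T) : G) • α := by
      rw [← mul_smul, hk, mul_inv_cancel_left]
    exact this

theorem B_le [Finite W] [Finite G] [Fact r.Prime] (hG : RGD.Sup X {x | IsRoot cs h x} = ⊤)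
    (h2 : IsMultiplyPretransitive G Ω 2) {α : Ω}
    (hU : RGD.Sup X (RGD.Pos cs h) ≤ stabilizer ↥T α) (hα : stabilizer ↥T α ≠ ⊤) :
    RGD.B cs h Tor X ≤ stabilizer ↥T α := by
  intro x hx
  by_contra hxH
  obtain ⟨s, hs, z, hz, a, ha, b, hb, e⟩ := key R hG h2 hU hα hxH
  apply hs
  apply mem_JH_of_simple R hU
  obtain ⟨u, hu⟩ := exists_cell R hG a
  obtain ⟨v, hv⟩ := exists_cell R hG b
  have huJ := TwoTransRGD.cell_mem R hU hu ha
  have hvJ := TwoTransRGD.cell_mem R hU hv hb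
  obtain ⟨u', hu', hc⟩ := TwoTransRGD.mul_cell R huJ (hu.mul_right hx) hv
  rw [← e] at hc
  rw [Cell.unique R hz hc]
  exact mul_mem hu' hvJ

/-- **The stabiliser in a normal subgroup with root group data.** -/
theorem main [Finite W] [Finite G] [Fact r.Prime] (hG : RGD.Sup X {x | IsRoot cs h x} = ⊤)
    (h2 : IsMultiplyPretransitive G Ω 2) {α : Ω}
    (hU : RGD.Sup X (RGD.Pos cs h) ≤ stabilizer ↥T α) (hα : stabilizer ↥T α ≠ ⊤) :
    RGD.B cs h Tor X ≤ stabilizer ↥T α ∧ ∃ s, JH X (stabilizer ↥T α) = {s}ᶜ ∧ CoxTwo.TwoT cs s := by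
  have hB := B_le R hG h2 hU hα
  refine ⟨hB, single_of_key R hG hB hα fun x hx => ?_⟩
  obtain ⟨s, -, z, hz, h3⟩ := key R hG h2 hU hα hx
  exact ⟨s, z, hz, h3⟩

end Cfsg.Agent.H410.ASTits
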