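import Cfsg.Agent.H410.Panel
import Cfsg.Agent.H384.TwoTrans

/-!
# 2-transitive groups with a normal subgroup acting on a building (helper410)

`G` 2-transitive on `Ω`, `T ⊴ G` simple, with a building `Δ` (`FixBN.Sys Δ T r`, `HAct Δ T`), `U c ≤ T_α ≠ T`:

* `frattini` : for `g ∈ G_α` there is `a ∈ T_α` with `θ g c = a c`;
* `word` : every `w : W` is in `W_J` or in `W_J s_i W_J` for some `i`, where `J = tp T_α c`;
* `card_le_ten` : for `|I| ≤ 2` the Weyl group has at most ten elements.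
-/

set_option autoImplicit false
set_option linter.unusedSectionVars false

namespace Cfsg.Agent.H410.BldgAS

open Cfsg Cfsg.Agent.Tits.Core Cfsg.Agent.Tits.Core.Bldg Cfsg.Agent.Tits.Exchange Cfsg.Agent.Tits
open Cfsg.Agent.FixBN Cfsg.Agent.Tits.OfBN Cfsg.Agent.Schreier.BNSch
open Cfsg.Agent.Omega.ML.LieRow Cfsg.Agent.UGT.U2.FOne
open MulAction
open scoped Pointwise

variable {I : Type*} {M : CoxeterMatrix I} {W : Type*} [Group W] {cs : CoxeterSystem M W} {C : Type*}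
  {Δ : Bldg cs C} {G : Type*} [Group G] {T : Subgroup G} [MulAction T C] {r : ℕ} (S : Sys Δ T r)
  [F : OppRes.Cox cs] (A : HAct Δ T) {Ω : Type*} [MulAction G Ω]

include S A

theorem θ_smul [hn : T.Normal] (g : G) (k : T) (x : C) : A.θ g (k • x) = MulAut.conjNormal g k • A.θ g x := by
  rw [← A.θ_K, ← A.θ_K, ← A.θ_mul, ← A.θ_mul, MulAut.conjNormal_apply]
  congr 1
  group

theorem conj_mem_U [hn : T.Normal] (g : G) {k : T} {x : C} (hk : k ∈ S.U x) :
    MulAut.conjNormal g k ∈ S.U (A.θ g x) := by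
  have h1 : IsPGroup r ((S.U x).map (MulAut.conjNormal g : MulAut T).toMonoidHom) := (S.isP x).map _
  refine S.max _ _ h1 ?_ (Subgroup.mem_map_of_mem _ hk)
  rintro _ ⟨v, hv, rfl⟩
  change MulAut.conjNormal g v • A.θ g x = A.θ g x
  rw [← θ_smul S A, S.fix x v hv]

/-- **The Frattini argument.** -/
theorem frattini [hn : T.Normal] [Finite G] [hr : Fact r.Prime] (hth : Δ.Thick) {α : Ω} {c : C}
    (hU : S.U c ≤ stabilizer ↥T α) {g : G} (hg : g • α = α) :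
    ∃ a : ↥T, a • α = α ∧ A.θ g c = a • c := by
  -- `U d`, for every chamber `d`, is a Sylow `r`-subgroup
  have hsyl : ∀ d : C, ∃ P : Sylow r ↥T, (P : Subgroup ↥T) = S.U d := by
    intro d
    obtain ⟨P, hP⟩ := (S.isP d).exists_le_sylow
    obtain ⟨e, he⟩ := S.exists_fix P P.2
    have h1 : (P : Subgroup ↥T) ≤ S.U e := S.max e P P.2 he
    have h2 : d = e := eq_of_fix S hth fun u hu => S.fix e u (h1 (hP hu))
    subst h2
    exact ⟨P, le_antisymm h1 hP⟩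
  set H := stabilizer ↥T α with hH
  have hUg : S.U (A.θ g c) ≤ H := by
    intro u hu
    have h1 := conj_mem_U S A g⁻¹ hu
    rw [A.θ_inv_θ] at h1
    have h2 := hU h1
    rw [hH, mem_stabilizer_iff, Subgroup.smul_def, MulAut.conjNormal_apply, inv_inv, mul_smul, mul_smul, hg,
      inv_smul_eq_iff, hg] at h2
    exact h2
  obtain ⟨P, hP⟩ := hsyl c
  obtain ⟨Q, hQ⟩ := hsyl (A.θ g c)
  have hPH : (P : Subgroup ↥T) ≤ H := by rw [hP]; exact hU
  have hQH : (Q : Subgroup ↥T) ≤ H := by rw [hQ]; exact hUg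
  obtain ⟨a, ha⟩ := MulAction.exists_smul_eq ↥H (P.subtype hPH) (Q.subtype hQH)
  refine ⟨a, a.2, (eq_of_fix S hth fun u hu => ?_).symm⟩
  -- `u ∈ U (a c)` is in `a P a⁻¹ = Q`
  have h1 : (a : ↥T)⁻¹ * u * (a : ↥T) ∈ S.U c := by
    have h2 : (a : ↥T) * ((a : ↥T)⁻¹ * u * (a : ↥T)) * (a : ↥T)⁻¹ ∈ S.U ((a : ↥T) • c) := by
      have e : (a : ↥T) * ((a : ↥T)⁻¹ * u * (a : ↥T)) * (a : ↥T)⁻¹ = u := by group
      rw [e]; exact hu
    exact (S.conj_mem_U_iff).1 h2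
  have h2 : (a : ↥T)⁻¹ * u * (a : ↥T) ∈ P := by
    show _ ∈ (P : Subgroup ↥T)
    rw [hP]; exact h1
  have h3 : a * ⟨_, hPH h2⟩ * a⁻¹ ∈ a • (P.subtype hPH) := ⟨_, h2, rfl⟩
  rw [ha] at h3
  have h4 : (a : ↥T) * ((a : ↥T)⁻¹ * u * (a : ↥T)) * (a : ↥T)⁻¹ ∈ (Q : Subgroup ↥T) := h3
  have e : (a : ↥T) * ((a : ↥T)⁻¹ * u * (a : ↥T)) * (a : ↥T)⁻¹ = u := by group
  rw [e, hQ] at h4
  exact S.fix _ u h4

/-- **Words.** -/
theorem word [hn : T.Normal] [hs : IsSimpleGroup T] [Nonempty I] [Finite G] [hr : Fact r.Prime] (hth : Δ.Thick)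
    (h2 : IsMultiplyPretransitive G Ω 2) {α : Ω} {c : C} (hU : S.U c ≤ stabilizer ↥T α)
    (hα : stabilizer ↥T α ≠ ⊤) (w : W) :
    w ∈ WJ cs (tp Δ (stabilizer ↥T α) c) ∨ ∃ (i : I) (a b : W), a ∈ WJ cs (tp Δ (stabilizer ↥T α) c) ∧
      b ∈ WJ cs (tp Δ (stabilizer ↥T α) c) ∧ w = a * cs.simple i * b := by
  set H := stabilizer ↥T α with hH
  set J := tp Δ H c with hJ
  have hJ1 : J ≠ Set.univ := fun h1 => hα (eq_top_of_tp S hth hU h1)
  obtain ⟨j, hj⟩ := (Set.ne_univ_iff_exists_notMem J).1 hJ1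
  obtain ⟨y, hy⟩ := Δ.exists_δ c w
  obtain ⟨x, rfl⟩ := exists_smul_top S hth c y
  subst hy
  by_cases hx : x ∈ H
  · exact Or.inl (delta_mem_tp S hth hU x hx)
  right
  obtain ⟨z, hz⟩ := Δ.exists_δ c (cs.simple j)
  obtain ⟨x₀, rfl⟩ := exists_smul_top S hth c z
  have hx₀ : x₀ ∉ H := fun h3 => hj ⟨x₀, h3, hz⟩
  have hne₁ : (x₀ : G) • α ≠ α := hx₀
  have hne₂ : (x : G) • α ≠ α := hx
  obtain ⟨g, hg₁, hg₂⟩ := (is_two_pretransitive_iff (G := G) (α := Ω)).1 h2 hne₁.symm hne₂.symm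
  obtain ⟨a, ha, hac⟩ := frattini S A hth hU hg₁
  -- `b`
  set b : ↥T := (MulAut.conjNormal g x₀)⁻¹ * x with hb
  have hbH : b ∈ H := by
    have hg₁' : g⁻¹ • α = α := by rw [inv_smul_eq_iff, hg₁]
    rw [hH, mem_stabilizer_iff, Subgroup.smul_def, hb]
    push_cast
    rw [MulAut.conjNormal_apply, mul_smul, inv_smul_eq_iff, mul_smul, mul_smul, hg₁', hg₂]
  have hxb : x = MulAut.conjNormal g x₀ * b := by rw [hb]; group
  -- the path
  have p1 : Δ.δ c (A.θ g c) ∈ WJ cs J := by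
    rw [hac]
    exact delta_mem_tp S hth hU a ha
  have p2 : Δ.δ (A.θ g c) (A.θ g (x₀ • c)) = cs.simple (A.σ g j) := by
    rw [A.δ_θ, hz, A.φ_simple]
  have p3 : Δ.δ (A.θ g (x₀ • c)) (x • c) ∈ WJ cs J := by
    rw [θ_smul S A, hxb, mul_smul, S.iso, hac]
    have h5 := delta_mem_tp S hth hU (a⁻¹ * b) (mul_mem (inv_mem ha) hbH)
    rw [mul_smul, ← S.iso a c, smul_inv_smul] at h5
    exact h5
  obtain ⟨t, ht, h6⟩ := Δ.exists_mul_of_mem c p3
  obtain ⟨t', ht', h7⟩ := Δ.exists_mul_of_mem_left (A.θ g (x₀ • c)) p1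
  refine ⟨A.σ g j, t', t, ht', ht, ?_⟩
  rw [h6, h7, p2]

omit [MulAction ↥T C] S A F in
/-- `W_{j}` -/
theorem mem_WJ_singleton {j : I} {w : W} (hw : w ∈ WJ cs {j}) : w = 1 ∨ w = cs.simple j := by
  unfold WJ at hw
  rw [Set.image_singleton, Subgroup.mem_closure_singleton] at hw
  obtain ⟨n, rfl⟩ := hw
  rcases Int.even_or_odd n with h | h
  · left
    obtain ⟨k, rfl⟩ := h
    rw [zpow_add, ← (Commute.refl (cs.simple j)).mul_zpow, cs.simple_mul_simple_self, one_zpow]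
  · right
    obtain ⟨k, rfl⟩ := h
    rw [zpow_add, zpow_one, two_mul, zpow_add, ← (Commute.refl (cs.simple j)).mul_zpow, cs.simple_mul_simple_self,
      one_zpow, one_mul]

/-- **Rank two: at most ten elements.** -/
theorem card_le_ten [hn : T.Normal] [hs : IsSimpleGroup T] [Nonempty I] [Finite G] [hr : Fact r.Prime]
    (hth : Δ.Thick) (h2 : IsMultiplyPretransitive G Ω 2) {α : Ω} {c : C} (hU : S.U c ≤ stabilizer ↥T α)
    (hα : stabilizer ↥T α ≠ ⊤) {i₁ i₂ : I} (hI : ∀ i : I, i = i₁ ∨ i = i₂) : Nat.card W ≤ 10 := by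
  classical
  have hw := word S A hth h2 hU hα
  have hJ1 : tp Δ (stabilizer ↥T α) c ≠ Set.univ := fun h1 => hα (eq_top_of_tp S hth hU h1)
  set J := tp Δ (stabilizer ↥T α) c with hJ
  obtain ⟨j, hj⟩ : ∃ j : I, J ⊆ {j} := by
    obtain ⟨i, hi⟩ := (Set.ne_univ_iff_exists_notMem J).1 hJ1
    rcases hI i with rfl | rfl
    · refine ⟨i₂, fun k hk => ?_⟩
      rcases hI k with rfl | rfl
      · exact absurd hk hi
      · exact Set.mem_singleton _
    · refine ⟨i₁, fun k hk => ?_⟩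
      rcases hI k with rfl | rfl
      · exact Set.mem_singleton _
      · exact absurd hk hi
  have hWJ : ∀ w ∈ WJ cs J, w = 1 ∨ w = cs.simple j := by
    intro w hw
    apply mem_WJ_singleton
    exact Subgroup.closure_mono (Set.image_mono hj) hw
  let f : Bool → W := fun b => if b then 1 else cs.simple j
  let s : Bool → W := fun b => if b then cs.simple i₁ else cs.simple i₂
  have hf : ∀ w ∈ WJ cs J, ∃ b, f b = w := by
    intro w hw
    rcases hWJ w hw with h | h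
    · exact ⟨true, h.symm⟩
    · exact ⟨false, h.symm⟩
  have hs' : ∀ i, ∃ b, s b = cs.simple i := by
    intro i
    rcases hI i with rfl | rfl
    · exact ⟨true, rfl⟩
    · exact ⟨false, rfl⟩
  let φ : Bool ⊕ (Bool × Bool × Bool) → W := Sum.elim f (fun b => f b.1 * s b.2.1 * f b.2.2)
  have hφ : Function.Surjective φ := by
    intro w
    rcases hw w with h | ⟨i, a, b, ha, hb, rfl⟩
    · obtain ⟨x, hx⟩ := hf w h
      exact ⟨Sum.inl x, hx⟩
    · obtain ⟨x, hx⟩ := hf a ha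
      obtain ⟨y, hy⟩ := hf b hb
      obtain ⟨z, hz⟩ := hs' i
      refine ⟨Sum.inr (x, z, y), ?_⟩
      show f x * s z * f y = _
      rw [hx, hy, hz]
  have hle := Nat.card_le_card_of_surjective φ hφ
  have hB : Nat.card Bool = 2 := by rw [Nat.card_eq_fintype_card, Fintype.card_bool]
  rw [Nat.card_sum, Nat.card_prod, Nat.card_prod, hB] at hle
  omega

end Cfsg.Agent.H410.BldgAS
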