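import Cfsg.Agent.Lib.SylowNormalInf

/-!
# Elements of prime order in a coset of a normal subgroup with cyclic Sylow subgroups (helper410)

`N ⊴ Γ` finite, `Γ = N ⟨σ⟩`, `σ ^ p = x ^ p = 1`, `x ∈ N σ`, the `p`-subgroups of `N` are cyclic, `p` odd, and a Sylow
`p`-subgroup of `N` centralised by `σ` is trivial. Then `x` is conjugate to `σ` under `N`.
-/

set_option autoImplicit false

namespace Cfsg.Agent.H410.CycConj

open Subgroup

/-- `∑ (1 + p u) ^ i = p + p² v` -/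
theorem sum_pow_eq {p : ℕ} (hp : p.Prime) (hp2 : p ≠ 2) {s : ℤ} (hs : (p : ℤ) ∣ s - 1) :
    (p : ℤ) ^ 2 ∣ (∑ i ∈ Finset.range p, s ^ i) - p := by
  obtain ⟨u, hu⟩ := hs
  have hs' : s = 1 + p * u := by linarith
  have key : ∀ i : ℕ, (p : ℤ) ^ 2 ∣ s ^ i - (1 + i * (p * u)) := by
    intro i
    induction i with
    | zero => simp
    | succ i ih =>
      obtain ⟨v, hv⟩ := ih
      refine ⟨v * s + i * u * u, ?_⟩
      have h1 : s ^ i = 1 + i * (p * u) + (p : ℤ) ^ 2 * v := by linarith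
      rw [pow_succ, h1, hs']
      push_cast
      ring
  have h2 : (p : ℤ) ^ 2 ∣ (∑ i ∈ Finset.range p, s ^ i) - ∑ i ∈ Finset.range p, (1 + (i : ℤ) * (p * u)) := by
    rw [← Finset.sum_sub_distrib]
    exact Finset.dvd_sum fun i _ => key i
  have h3 : ∑ i ∈ Finset.range p, (1 + (i : ℤ) * (p * u)) = p + (∑ i ∈ Finset.range p, (i : ℤ)) * (p * u) := by
    rw [Finset.sum_add_distrib, Finset.sum_mul]
    simp
  have h4 : (p : ℤ) ∣ ∑ i ∈ Finset.range p, (i : ℤ) := by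
    have h5 := Finset.sum_range_id_mul_two p
    have h6 : (∑ i ∈ Finset.range p, (i : ℤ)) * 2 = p * (p - 1 : ℕ) := by
      rw [← Nat.cast_sum]
      exact_mod_cast h5
    have h7 : IsCoprime (p : ℤ) 2 := by
      rw [Int.isCoprime_iff_gcd_eq_one]
      exact (Nat.coprime_primes hp Nat.prime_two).2 hp2
    exact h7.dvd_of_dvd_mul_right (h6 ▸ Dvd.intro _ rfl)
  obtain ⟨w, hw⟩ := h4
  have h8 : (p : ℤ) ^ 2 ∣ ∑ i ∈ Finset.range p, (1 + (i : ℤ) * (p * u)) - p := by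
    refine ⟨w * u, ?_⟩
    rw [h3, hw]
    ring
  have := dvd_add h2 h8
  rwa [sub_add_sub_cancel] at this

variable {Γ : Type*} [Group Γ]

/-- iterated conjugation -/
theorem conj_pow_zpow {g σ : Γ} {s : ℤ} (hs : σ * g * σ⁻¹ = g ^ s) (n : ℕ) (k : ℤ) :
    σ ^ n * g ^ k * (σ ^ n)⁻¹ = g ^ (k * s ^ n) := by
  have h1 : ∀ k : ℤ, σ * g ^ k * σ⁻¹ = g ^ (k * s) := by
    intro k
    have : σ * g ^ k * σ⁻¹ = (σ * g * σ⁻¹) ^ k := by rw [conj_zpow]
    rw [this, hs, ← zpow_mul, mul_comm]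
  induction n with
  | zero => simp
  | succ n ih =>
    have e : σ ^ (n + 1) * g ^ k * (σ ^ (n + 1))⁻¹ = σ * (σ ^ n * g ^ k * (σ ^ n)⁻¹) * σ⁻¹ := by
      rw [pow_succ']; group
    rw [e, ih, h1, mul_assoc, pow_succ]

/-- `(g ^ k σ) ^ n` -/
theorem mul_pow_eq {g σ : Γ} {s : ℤ} (hs : σ * g * σ⁻¹ = g ^ s) (k : ℤ) (n : ℕ) :
    (g ^ k * σ) ^ n = g ^ (k * ∑ i ∈ Finset.range n, s ^ i) * σ ^ n := by
  induction n with
  | zero => simp
  | succ n ih =>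
    rw [pow_succ, ih, Finset.sum_range_succ, mul_add, zpow_add]
    have h1 := conj_pow_zpow hs n k
    have h2 : σ ^ n * g ^ k = g ^ (k * s ^ n) * σ ^ n := by rw [← h1]; group
    rw [mul_assoc, ← mul_assoc (σ ^ n), h2, pow_succ]
    group

/-- **Cyclic groups.** -/
theorem exists_conj_zpow {p : ℕ} (hp : p.Prime) (hp2 : p ≠ 2) {g σ : Γ} {s k : ℤ} {a : ℕ}
    (hg : orderOf g = p ^ a) (ha : a ≠ 0) (hσ : σ ^ p = 1) (hs : σ * g * σ⁻¹ = g ^ s) (hne : σ * g ≠ g * σ)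
    (hc : (g ^ k * σ) ^ p = 1) : ∃ j : ℤ, g ^ k * σ = g ^ j * σ * (g ^ j)⁻¹ := by
  have := Fact.mk hp
  have hg' : ∀ z : ℤ, g ^ z = 1 ↔ (p : ℤ) ^ a ∣ z := by
    intro z
    rw [← orderOf_dvd_iff_zpow_eq_one, hg]
    push_cast
    rfl
  -- `p ∣ s - 1`
  have h1 : (p : ℤ) ^ a ∣ s ^ p - 1 := by
    rw [← hg', zpow_sub, zpow_one]
    have := conj_pow_zpow hs p 1
    rw [hσ] at this
    simp only [one_mul, zpow_one, inv_one, mul_one] at this
    rw [← this, mul_inv_cancel]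
  have h2 : (p : ℤ) ∣ s - 1 := by
    have h3 : (p : ℤ) ∣ s ^ p - 1 := (dvd_pow_self _ ha).trans h1
    have h4 : ((s ^ p - 1 : ℤ) : ZMod p) = 0 := (ZMod.intCast_zmod_eq_zero_iff_dvd _ _).2 h3
    rw [← ZMod.intCast_zmod_eq_zero_iff_dvd]
    push_cast at h4 ⊢
    rwa [ZMod.pow_card] at h4
  -- the norm
  obtain ⟨v, hv⟩ := sum_pow_eq hp hp2 h2
  rw [mul_pow_eq hs, hσ, mul_one, hg'] at hc
  have h3 : ∑ i ∈ Finset.range p, s ^ i = p * (1 + p * v) := by linear_combination hv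
  rw [h3] at hc
  obtain ⟨b, rfl⟩ : ∃ b, a = b + 1 := ⟨a - 1, by omega⟩
  have h4 : (p : ℤ) ^ b ∣ k := by
    have h5 : (p : ℤ) * p ^ b ∣ p * (k * (1 + p * v)) := by
      have e : (p : ℤ) * (k * (1 + p * v)) = k * (p * (1 + p * v)) := by ring
      rw [e, ← pow_succ']; exact hc
    have hp0 : (p : ℤ) ≠ 0 := by exact_mod_cast hp.ne_zero
    have h6 := (mul_dvd_mul_iff_left hp0).1 h5
    have h7 : IsCoprime ((p : ℤ) ^ b) (1 + p * v) := by
      apply IsCoprime.pow_left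
      exact ⟨-v, 1, by ring⟩
    exact h7.dvd_of_dvd_mul_right h6
  -- `p ^ (b + 1)` does not divide `1 - s`
  have h5 : ¬ (p : ℤ) ^ (b + 1) ∣ 1 - s := by
    intro h6
    apply hne
    have h7 : g ^ (1 - s) = 1 := (hg' _).2 h6
    rw [zpow_sub, zpow_one, mul_inv_eq_one] at h7
    rw [← h7] at hs
    exact mul_inv_eq_iff_eq_mul.1 hs
  -- Bezout
  have h6 : ((Int.gcd (1 - s) ((p : ℤ) ^ (b + 1)) : ℕ) : ℤ) ∣ k := by
    have h7 : Int.gcd (1 - s) ((p : ℤ) ^ (b + 1)) ∣ p ^ (b + 1) := by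
      have := Int.gcd_dvd_right (1 - s) ((p : ℤ) ^ (b + 1))
      exact_mod_cast this
    obtain ⟨c, hc1, hc2⟩ := (Nat.dvd_prime_pow hp).1 h7
    have h8 : c ≠ b + 1 := by
      rintro rfl
      apply h5
      have := Int.gcd_dvd_left (1 - s) ((p : ℤ) ^ (b + 1))
      rw [hc2] at this
      exact_mod_cast this
    rw [hc2]
    push_cast
    exact (pow_dvd_pow _ (by omega : c ≤ b)).trans h4
  obtain ⟨j, l, hjl⟩ : ∃ j l : ℤ, k = (1 - s) * j + (p : ℤ) ^ (b + 1) * l := by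
    obtain ⟨c, hc⟩ := h6
    refine ⟨Int.gcdA (1 - s) ((p : ℤ) ^ (b + 1)) * c, Int.gcdB (1 - s) ((p : ℤ) ^ (b + 1)) * c, ?_⟩
    rw [hc, Int.gcd_eq_gcd_ab]
    ring
  refine ⟨j, ?_⟩
  have h7 : g ^ j * σ * (g ^ j)⁻¹ = g ^ (j - j * s) * σ := by
    have h8 : σ * g ^ (-j) * σ⁻¹ = g ^ (-j * s) := by
      have := conj_pow_zpow hs 1 (-j)
      simpa using this
    have h9 : σ * g ^ (-j) = g ^ (-j * s) * σ := by rw [← h8]; group
    rw [← zpow_neg, mul_assoc, h9, ← mul_assoc, ← zpow_add]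
    congr 2
    ring
  rw [h7]
  congr 1
  have h8 : g ^ (k - (j - j * s)) = 1 := by
    rw [hg', hjl]
    exact ⟨l, by ring⟩
  rw [zpow_sub, mul_inv_eq_one] at h8
  exact h8

/-- **Conjugacy in a coset.** -/
theorem conj_of_gen [Finite Γ] {p : ℕ} [hp : Fact p.Prime] (hp2 : p ≠ 2) (N : Subgroup Γ) [hN : N.Normal] {σ x : Γ}
    (hgen : ∀ γ : Γ, ∃ n ∈ N, ∃ i : ℤ, γ = n * σ ^ i) (hσ : σ ^ p = 1) (hx : x ^ p = 1) (hxσ : x * σ⁻¹ ∈ N)
    (hcyc : ∀ P : Subgroup Γ, P ≤ N → IsPGroup p P → IsCyclic P)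
    (hfix : ∀ P : Subgroup Γ, P ≤ N → IsPGroup p P → ¬ p ∣ P.relIndex N → (∀ g ∈ P, σ * g = g * σ) → P = ⊥) :
    ∃ n ∈ N, x = n * σ * n⁻¹ := by
  have hpz : ∀ y : Γ, y ^ p = 1 → IsPGroup p (zpowers y) := by
    intro y hy
    rintro ⟨_, i, rfl⟩
    refine ⟨1, Subtype.ext ?_⟩
    show (y ^ i) ^ p ^ 1 = 1
    rw [pow_one, ← zpow_natCast, ← zpow_mul, mul_comm, zpow_mul, zpow_natCast, hy, one_zpow]
  obtain ⟨Q, hQ⟩ := (hpz σ hσ).exists_le_sylow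
  obtain ⟨Q', hQ'⟩ := (hpz x hx).exists_le_sylow
  obtain ⟨γ, hγ⟩ := MulAction.exists_smul_eq Γ Q' Q
  set x' := γ * x * γ⁻¹ with hx'
  have hσQ : σ ∈ Q := hQ (mem_zpowers σ)
  have hx'Q : x' ∈ Q := by
    rw [← hγ]
    exact ⟨x, hQ' (mem_zpowers x), rfl⟩
  have hx'p : x' ^ p = 1 := by
    rw [hx', conj_pow, hx, mul_one, mul_inv_cancel]
  obtain ⟨n₀, hn₀, i, hγi⟩ := hgen γ
  have hc : x' * σ⁻¹ ∈ N := by
    have e1 : (QuotientGroup.mk x : Γ ⧸ N) = QuotientGroup.mk σ := by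
      have h1 : (QuotientGroup.mk (x * σ⁻¹) : Γ ⧸ N) = 1 := (QuotientGroup.eq_one_iff _).2 hxσ
      rw [QuotientGroup.mk_mul, QuotientGroup.mk_inv, mul_inv_eq_one] at h1
      exact h1
    have e2 : (QuotientGroup.mk γ : Γ ⧸ N) = (QuotientGroup.mk σ) ^ i := by
      rw [hγi, QuotientGroup.mk_mul, (QuotientGroup.eq_one_iff _).2 hn₀, one_mul, QuotientGroup.mk_zpow]
    rw [← QuotientGroup.eq_one_iff, QuotientGroup.mk_mul, hx', QuotientGroup.mk_mul, QuotientGroup.mk_mul,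
      QuotientGroup.mk_inv, QuotientGroup.mk_inv, e1, e2]
    group
  -- it is enough to treat `x'`
  have key : (∃ m ∈ N, x' = m * σ * m⁻¹) → ∃ n ∈ N, x = n * σ * n⁻¹ := by
    rintro ⟨m, hm, e⟩
    refine ⟨(σ ^ i)⁻¹ * (n₀⁻¹ * m) * (σ ^ i), ?_, ?_⟩
    · have := hN.conj_mem _ (mul_mem (inv_mem hn₀) hm) (σ ^ i)⁻¹
      rwa [inv_inv] at this
    · have e1 : x = γ⁻¹ * x' * γ := by rw [hx']; group
      rw [e1, e, hγi]
      group
  apply key
  set P : Subgroup Γ := Q ⊓ N with hP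
  have hPp : IsPGroup p P := Q.2.to_le inf_le_left
  have hPN : P ≤ N := inf_le_right
  have hidx : ¬ p ∣ P.relIndex N := by
    have h1 := Lib.SylowNormalInf.not_dvd_relIndex Q N
    rw [hP, inf_relIndex_right]
    exact h1
  have hcP : x' * σ⁻¹ ∈ P := mem_inf.2 ⟨(Q : Subgroup Γ).mul_mem hx'Q ((Q : Subgroup Γ).inv_mem hσQ), hc⟩
  by_cases hPb : P = ⊥
  · refine ⟨1, one_mem _, ?_⟩
    rw [hPb, mem_bot, mul_inv_eq_one] at hcP
    rw [hcP]
    group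
  obtain ⟨⟨g, hgP⟩, hgen'⟩ := (hcyc P hPN hPp).exists_generator
  have hgen'' : ∀ y ∈ P, ∃ k : ℤ, g ^ k = y := by
    intro y hy
    obtain ⟨k, hk⟩ := mem_zpowers_iff.1 (hgen' ⟨y, hy⟩)
    exact ⟨k, congrArg Subtype.val hk⟩
  obtain ⟨k, hk⟩ := hgen'' _ hcP
  have hgP' := mem_inf.1 hgP
  have hsP : σ * g * σ⁻¹ ∈ P := mem_inf.2
    ⟨(Q : Subgroup Γ).mul_mem ((Q : Subgroup Γ).mul_mem hσQ hgP'.1) ((Q : Subgroup Γ).inv_mem hσQ), hN.conj_mem _ hgP'.2 _⟩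
  obtain ⟨s, hs⟩ := hgen'' _ hsP
  obtain ⟨a, ha⟩ := (IsPGroup.iff_orderOf.1 hPp) ⟨g, hgP⟩
  rw [Subgroup.orderOf_mk] at ha
  have ha0 : a ≠ 0 := by
    rintro rfl
    rw [pow_zero, orderOf_eq_one_iff] at ha
    apply hPb
    rw [eq_bot_iff]
    intro y hy
    obtain ⟨l, hl⟩ := hgen'' y hy
    rw [← hl, ha, one_zpow]
    exact one_mem _
  have hne : σ * g ≠ g * σ := by
    intro h1
    apply hPb
    refine hfix P hPN hPp hidx fun y hy => ?_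
    obtain ⟨l, rfl⟩ := hgen'' y hy
    exact (Commute.zpow_right (show Commute σ g from h1) l)
  have hx'' : x' = g ^ k * σ := by rw [hk]; group
  obtain ⟨j, hj⟩ := exists_conj_zpow hp.out hp2 ha ha0 hσ hs.symm hne (by rw [← hx'']; exact hx'p)
  exact ⟨g ^ j, N.zpow_mem hgP'.2 j, by rw [hx'', hj]⟩

/-- **Automorphisms of prime order in a coset of the inner automorphisms.** -/
theorem aut_conj {K : Type*} [Group K] [Finite K] (hZ : center K = ⊥) {p : ℕ} [hp : Fact p.Prime] (hp2 : p ≠ 2)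
    {σ x : MulAut K} (hσ : σ ^ p = 1) (hx : x ^ p = 1) {g : K} (hxg : x = MulAut.conj g * σ)
    (hcyc : ∀ P : Subgroup K, IsPGroup p P → IsCyclic P)
    (hfix : p ∣ Nat.card K → ¬ ∃ P : Sylow p K, ∀ y ∈ P, σ y = y) :
    ∃ h : K, x = MulAut.conj h * σ * (MulAut.conj h)⁻¹ := by
  have hinj : Function.Injective (MulAut.conj : K →* MulAut K) := by
    rw [injective_iff_map_eq_one]
    intro a ha
    have h1 : a ∈ center K := by
      rw [mem_center_iff]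
      intro b
      have h2 : a * b * a⁻¹ = b := DFunLike.congr_fun ha b
      exact (mul_inv_eq_iff_eq_mul.1 h2).symm
    rwa [hZ, mem_bot] at h1
  have hconj : ∀ (τ : MulAut K) (k : K), τ * MulAut.conj k * τ⁻¹ = MulAut.conj (τ k) := by
    intro τ k
    ext y
    simp [MulAut.conj_apply]
  set In : Subgroup (MulAut K) := (MulAut.conj : K →* MulAut K).range with hIn
  have hInN : In.Normal := by
    refine ⟨?_⟩
    rintro _ ⟨k, rfl⟩ τ
    exact ⟨τ k, (hconj τ k).symm⟩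
  set S₀ : Subgroup (MulAut K) := In ⊔ zpowers σ with hS₀
  have hInS : In ≤ S₀ := le_sup_left
  have hσS : σ ∈ S₀ := (le_sup_right : zpowers σ ≤ S₀) (mem_zpowers σ)
  have hxS : x ∈ S₀ := by
    rw [hxg]
    exact mul_mem (hInS ⟨g, rfl⟩) hσS
  set N : Subgroup ↥S₀ := In.subgroupOf S₀ with hN
  let ι : K →* ↥S₀ := (MulAut.conj : K →* MulAut K).codRestrict S₀ fun k => hInS ⟨k, rfl⟩
  have hι : Function.Injective ι := fun a b h => hinj (congrArg Subtype.val h)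
  have hrange : ι.range = N := by
    ext y
    constructor
    · rintro ⟨k, rfl⟩
      exact ⟨k, rfl⟩
    · rintro ⟨k, hk⟩
      exact ⟨k, Subtype.ext hk⟩
  have hmap : ∀ P : Subgroup ↥S₀, P ≤ N → (P.comap ι).map ι = P := fun P hP =>
    map_comap_eq_self (hrange ▸ hP)
  have hpg : ∀ P : Subgroup ↥S₀, IsPGroup p P → IsPGroup p (P.comap ι) := fun P hP =>
    hP.comap_of_injective ι hι
  have q1 : ∀ γ : ↥S₀, ∃ n ∈ N, ∃ i : ℤ, γ = n * (⟨σ, hσS⟩ : ↥S₀) ^ i := by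
    rintro ⟨γ, hγ⟩
    rw [hS₀, mem_sup_of_normal_left] at hγ
    obtain ⟨y, hy, z, ⟨i, rfl⟩, rfl⟩ := hγ
    exact ⟨⟨y, hInS hy⟩, hy, i, Subtype.ext rfl⟩
  have q2 : (⟨x, hxS⟩ : ↥S₀) * (⟨σ, hσS⟩ : ↥S₀)⁻¹ ∈ N := by
    show x * σ⁻¹ ∈ In
    rw [hxg, mul_inv_cancel_right]
    exact ⟨g, rfl⟩
  have q3 : ∀ P : Subgroup ↥S₀, P ≤ N → IsPGroup p P → IsCyclic P := by
    intro P hP hPp
    have h1 := hcyc _ (hpg P hPp)
    rw [← hmap P hP]
    exact isCyclic_of_surjective ((P.comap ι).equivMapOfInjective ι hι) ((P.comap ι).equivMapOfInjective ι hι).surjective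
  have q4 : ∀ P : Subgroup ↥S₀, P ≤ N → IsPGroup p P → ¬ p ∣ P.relIndex N →
      (∀ g ∈ P, (⟨σ, hσS⟩ : ↥S₀) * g = g * (⟨σ, hσS⟩ : ↥S₀)) → P = ⊥ := by
    intro P hP hPp hidx hcom
    have h1 : ¬ p ∣ (P.comap ι).index := by rwa [index_comap, hrange]
    have h2 := hpg P hPp
    have hfx : ∀ y ∈ P.comap ι, σ y = y := by
      intro y hy
      have h3 := hcom _ hy
      have h4 : σ * MulAut.conj y = MulAut.conj y * σ := congrArg Subtype.val h3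
      apply hinj
      rw [← hconj, h4, mul_inv_cancel_right]
    have h5 : P.comap ι = ⊥ := by
      by_cases hpK : p ∣ Nat.card K
      · exfalso
        exact hfix hpK ⟨h2.toSylow h1, fun y hy => hfx y hy⟩
      · obtain ⟨a, ha⟩ := IsPGroup.iff_card.1 h2
        have h6 : Nat.card (P.comap ι) ∣ Nat.card K := card_subgroup_dvd_card _
        rcases Nat.eq_zero_or_pos a with rfl | h7
        · rw [pow_zero] at ha
          exact card_eq_one.1 ha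
        · exfalso
          apply hpK
          rw [ha] at h6
          exact (dvd_pow_self p (by omega)).trans h6
    rw [← hmap P hP, h5, Subgroup.map_bot]
  obtain ⟨n, hn, he⟩ := conj_of_gen (Γ := ↥S₀) (p := p) hp2 N (σ := ⟨σ, hσS⟩) (x := ⟨x, hxS⟩) q1 (Subtype.ext hσ)
    (Subtype.ext hx) q2 q3 q4
  rw [← hrange] at hn
  obtain ⟨k, rfl⟩ := hn
  exact ⟨k, congrArg Subtype.val he⟩

end Cfsg.Agent.H410.CycConj
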