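import Cfsg.Agent.H730.PairRow
import Cfsg.Agent.H710.Cuspidal
import Cfsg.Agent.H255.RankTools

/-!
# Class sizes and `VZ` elements in groups of rank one (helper410)

For rank one data `(B, U, w)` with an abelian torus `T = B ∩ w B w⁻¹` inverted by `w` (`Tor`):

* `cent_eq` : the centralizer of a regular element of `T` of order at least three is `T`;
* `index_eq` : the class size is `|U| (|U| + 1)`;
* `vz_torus` : such elements are `VZ` (cuspidal characters);
* `main` : for a regular `y ∈ T` with `y² ≠ 1` and an element `x` of order divisible by a prime not dividing `|B|`, and a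
  prime `p` dividing the order of the group, the class size of `x` or that of `y` is divisible by `p` and by the
  characteristic.
-/

set_option autoImplicit false

namespace Cfsg.Agent.H410.GRowAbs

open Subgroup Cfsg.Agent.LieRecognition.RankOneAbstract Cfsg.Agent.H255.RankTools
open Cfsg.Agent.H255.RankOne (two mem_two)
open Cfsg.Agent.H713 (VZ VZ.mulEquiv)
open Cfsg Cfsg.Agent.Characters.Core
open scoped Pointwise

variable {G : Type*} [Group G] {B U : Subgroup G} {w : G}

/-- `x` acts without fixed points on `U` -/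
def Fpf (U : Subgroup G) (x : G) : Prop := ∀ u ∈ U, x * u = u * x → u = 1

/-- the torus is abelian and inverted by `w` -/
structure Tor (B U : Subgroup G) (w : G) : Prop where
  data : Data B U w
  ab : ∀ a ∈ two B w, ∀ b ∈ two B w, a * b = b * a
  inv : ∀ a ∈ two B w, w⁻¹ * a * w = a⁻¹
  reg : ∀ a ∈ two B w, a * a ≠ 1 → Fpf U a

namespace Tor

variable (R : Tor B U w)

include R

/-- a regular element of the torus is only in two conjugates of `B` -/
theorem mem_or {y : G} (hy : y ∈ two B w) (hf : Fpf U y) {c : G} (hc : c⁻¹ * y * c ∈ B) :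
    c ∈ B ∨ ∃ b ∈ B, c = w * b := by
  by_cases h1 : c ∈ B
  · exact Or.inl h1
  right
  obtain ⟨s, hs, hb⟩ := R.data.bruhat c h1
  refine ⟨(s * w)⁻¹ * c, hb, ?_⟩
  have h2 : w⁻¹ * (s⁻¹ * y * s) * w ∈ B := by
    have e : w⁻¹ * (s⁻¹ * y * s) * w = ((s * w)⁻¹ * c) * (c⁻¹ * y * c) * ((s * w)⁻¹ * c)⁻¹ := by group
    rw [e]
    exact mul_mem (mul_mem hb hc) (inv_mem hb)
  have h3 : w⁻¹ * (s⁻¹ * (y * s * y⁻¹)) * w ∈ B := by
    have e : w⁻¹ * (s⁻¹ * (y * s * y⁻¹)) * w = (w⁻¹ * (s⁻¹ * y * s) * w) * (w⁻¹ * y * w)⁻¹ := by group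
    rw [e]
    exact mul_mem h2 (inv_mem hy.2)
  have h4 := R.data.inter _ (mul_mem (inv_mem hs) (R.data.norm y hy.1 s hs)) h3
  have h5 : s = 1 := by
    apply hf s hs
    have : s = y * s * y⁻¹ := inv_mul_eq_one.1 h4
    calc y * s = (y * s * y⁻¹) * y := by group
      _ = s * y := by rw [← this]
  rw [h5]
  group

theorem mem_sq {y : G} (hy : y ∈ two B w) (h : y * y ∈ U) : y * y = 1 := by
  refine R.data.inter _ h ?_
  have e : w⁻¹ * (y * y) * w = (w⁻¹ * y * w) * (w⁻¹ * y * w) := by group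
  rw [e, R.inv y hy]
  exact mul_mem (inv_mem hy.1) (inv_mem hy.1)

theorem cent_le {y : G} (hy : y ∈ two B w) (hy2 : y * y ≠ 1) : centralizer {y} ≤ two B w := by
  have hf := R.reg y hy hy2
  intro c hc
  rw [mem_centralizer_singleton_iff] at hc
  have hc1 : c⁻¹ * y * c = y := by rw [mul_assoc, ← hc]; group
  rcases R.mem_or hy hf (c := c) (by rw [hc1]; exact hy.1) with h | ⟨b, hb, rfl⟩
  · obtain ⟨u, hu, t, ht, rfl⟩ := H710.Cuspidal.exists_decomp R.data (T := two B w) (fun g => Iff.rfl) h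
    have h1 : u = 1 := by
      apply hf u hu
      have h2 := R.ab y hy t ht
      have h3 : (u * y) * t = (y * u) * t := by
        calc (u * y) * t = u * (y * t) := mul_assoc _ _ _
          _ = u * (t * y) := by rw [h2]
          _ = u * t * y := (mul_assoc _ _ _).symm
          _ = y * (u * t) := hc
          _ = _ := (mul_assoc _ _ _).symm
      exact (mul_right_cancel h3).symm
    rw [h1, one_mul]
    exact ht
  · exfalso
    obtain ⟨u, hu, h1⟩ := H710.Cuspidal.comm_mod R.data (T := two B w) (fun g => Iff.rfl) R.ab b hb y hy.1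
    -- `b y = y b u` and `y⁻¹ b = b y`
    have h2 : y⁻¹ * b = b * y := by
      have h3 : b⁻¹ * (w⁻¹ * y * w) * b = y := by
        rw [← hc1]
        nth_rewrite 1 [hc1]
        group
      rw [R.inv y hy] at h3
      calc y⁻¹ * b = b * (b⁻¹ * y⁻¹ * b) := by group
        _ = b * y := by rw [h3]
    rw [h1] at h2
    apply hy2
    apply R.mem_sq hy
    have h3 : y * y = b * u⁻¹ * b⁻¹ := by
      have h4 : b = y * y * b * u := by
        calc b = y * (y⁻¹ * b) := by group
          _ = y * (y * b * u) := by rw [h2]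
          _ = _ := by group
      calc y * y = (y * y * b * u) * u⁻¹ * b⁻¹ := by group
        _ = b * u⁻¹ * b⁻¹ := by rw [← h4]
    rw [h3]
    exact R.data.norm b hb _ (inv_mem hu)

theorem cent_eq {y : G} (hy : y ∈ two B w) (hy2 : y * y ≠ 1) : centralizer {y} = two B w := by
  refine le_antisymm (R.cent_le hy hy2) fun t ht => ?_
  rw [mem_centralizer_singleton_iff]
  exact R.ab t ht y hy

theorem card_group [Finite G] : Nat.card G = Nat.card (two B w) * (Nat.card U * (Nat.card U + 1)) := by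
  rw [← B.card_mul_index, R.data.index, card_borel R.data]
  ring

theorem index_eq [Finite G] {y : G} (hy : y ∈ two B w) (hy2 : y * y ≠ 1) :
    (centralizer {y}).index = Nat.card U * (Nat.card U + 1) := by
  have h1 := (centralizer {y}).card_mul_index
  rw [R.card_group] at h1
  have h2 : Nat.card ↥(centralizer {y}) = Nat.card (two B w) := by rw [R.cent_eq hy hy2]
  rw [h2] at h1
  exact Nat.eq_of_mul_eq_mul_left Nat.card_pos h1

end Tor

/-- a subgroup of index prime to `p` contains a Sylow `p`-subgroup -/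
theorem exists_sylow_le [Finite G] {p : ℕ} [hp : Fact p.Prime] {H : Subgroup G} (h : ¬ p ∣ H.index) :
    ∃ P : Sylow p G, (P : Subgroup G) ≤ H := by
  let Q : Sylow p H := default
  have h1 : Nat.card ↥((Q : Subgroup H).map H.subtype) = p ^ (Nat.card G).factorization p := by
    rw [Subgroup.card_map_of_injective H.subtype_injective, Sylow.card_eq_multiplicity, ← H.card_mul_index,
      Nat.factorization_mul Nat.card_pos.ne' H.index_ne_zero_of_finite, Finsupp.add_apply,
      Nat.factorization_eq_zero_of_not_dvd h, add_zero]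
  refine ⟨Sylow.ofCard _ h1, ?_⟩
  rw [Sylow.coe_ofCard]
  exact Subgroup.map_subtype_le _

/-- if no conjugate of `x` commutes with the `p`-element `y`, the class size of `x` is divisible by `p` -/
theorem dvd_index_of_elt [Finite G] {p : ℕ} [hp : Fact p.Prime] {x y : G} (hy : ∃ k, orderOf y = p ^ k)
    (h : ∀ g : G, ¬ Commute y (g⁻¹ * x * g)) : p ∣ (centralizer ({x} : Set G)).index := by
  by_contra hcon
  obtain ⟨P, hP⟩ := exists_sylow_le hcon
  have h1 : IsPGroup p (zpowers y) := by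
    obtain ⟨k, hk⟩ := hy
    exact IsPGroup.of_card (n := k) (by rw [Nat.card_zpowers, hk])
  obtain ⟨Q, hQ⟩ := h1.exists_le_sylow
  obtain ⟨g, hg⟩ := MulAction.exists_smul_eq G Q P
  have h2 : g * y * g⁻¹ ∈ P := by
    rw [← hg]
    exact ⟨y, hQ (mem_zpowers y), rfl⟩
  have h3 := hP h2
  rw [mem_centralizer_singleton_iff] at h3
  apply h g
  show y * (g⁻¹ * x * g) = g⁻¹ * x * g * y
  calc y * (g⁻¹ * x * g) = g⁻¹ * (g * y * g⁻¹ * x) * g := by group
    _ = g⁻¹ * (x * (g * y * g⁻¹)) * g := by rw [h3]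
    _ = _ := by group

section main

theorem not_mem_conj {l : ℕ} (hlB : ¬ l ∣ Nat.card B) {x : G} (hx : l ∣ orderOf x) (g : G) :
    g⁻¹ * x * g ∉ B := by
  intro h
  apply hlB
  refine hx.trans ?_
  have h1 : orderOf (g⁻¹ * x * g) = orderOf x := by
    refine (SemiconjBy.orderOf_eq g (x := g⁻¹ * x * g) (y := x) ?_)
    show g * (g⁻¹ * x * g) = x * g
    group
  rw [← h1, ← Subgroup.orderOf_mk _ h]
  exact orderOf_dvd_natCard _

variable [Finite G] {r : ℕ} [hr : Fact r.Prime]

/-- **Class sizes.** -/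
theorem main (R : Tor B U w) (hUr : IsPGroup r U) (hU : U ≠ ⊥) {y : G} (hy : y ∈ two B w) (hy2 : y * y ≠ 1) {l : ℕ}
    (hlB : ¬ l ∣ Nat.card B) {x : G} (hx : l ∣ orderOf x) {p : ℕ} (hp : p.Prime) (hpG : p ∣ Nat.card G) :
    (r ∣ (centralizer ({y} : Set G)).index ∧ p ∣ (centralizer ({y} : Set G)).index) ∨
      (r ∣ (centralizer ({x} : Set G)).index ∧ p ∣ (centralizer ({x} : Set G)).index) := by
  have hrU : r ∣ Nat.card U := by
    have hn : Nontrivial U := (Subgroup.nontrivial_iff_ne_bot U).2 hU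
    obtain ⟨n, hn, h⟩ := hUr.nontrivial_iff_card.1 hn
    rw [h]
    exact dvd_pow_self r hn.ne'
  by_cases h1 : p ∣ Nat.card U * (Nat.card U + 1)
  · left
    rw [R.index_eq hy hy2]
    exact ⟨Dvd.dvd.mul_right hrU _, h1⟩
  right
  have : Fact p.Prime := ⟨hp⟩
  constructor
  · -- the characteristic
    obtain ⟨⟨u, hu⟩, hu1'⟩ := Subgroup.ne_bot_iff_exists_ne_one.1 hU
    have hu1 : u ≠ 1 := fun h => hu1' (Subtype.ext h)
    refine dvd_index_of_elt (y := u) ?_ fun g hc => ?_
    · obtain ⟨k, hk⟩ := (IsPGroup.iff_orderOf.1 hUr) ⟨u, hu⟩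
      exact ⟨k, by rw [← hk, Subgroup.orderOf_mk]⟩
    · apply not_mem_conj hlB hx g
      refine H710.Cuspidal.mem_of_conj R.data hu hu1 ?_
      have h2 : (g⁻¹ * x * g)⁻¹ * u * (g⁻¹ * x * g) = u := by
        rw [mul_assoc, hc.eq, inv_mul_cancel_left]
      rw [h2]
      exact R.data.le hu
  · have hp2 : p ≠ 2 := by
      rintro rfl
      exact h1 (Nat.even_mul_succ_self _).two_dvd
    have h2 : p ∣ Nat.card (two B w) := by
      rw [R.card_group] at hpG
      exact (hp.dvd_mul.1 hpG).resolve_right h1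
    obtain ⟨t, ht⟩ := exists_prime_orderOf_dvd_card' p h2
    have ht' : orderOf (t : G) = p := by rw [Subgroup.orderOf_coe, ht]
    refine dvd_index_of_elt (y := (t : G)) ⟨1, by rw [pow_one, ht']⟩ fun g hc => ?_
    apply not_mem_conj hlB hx g
    have h3 : (t : G) * t ≠ 1 := by
      intro h
      rw [← pow_two] at h
      have h4 := orderOf_dvd_of_pow_eq_one h
      rw [ht'] at h4
      exact hp2 ((Nat.prime_dvd_prime_iff_eq hp Nat.prime_two).1 h4)
    refine (R.cent_le t.2 h3 ?_ : g⁻¹ * x * g ∈ two B w).1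
    rw [mem_centralizer_singleton_iff]
    exact hc.symm.eq

/-- **The regular elements of the torus are `VZ`.** -/
theorem vz_torus (R : Tor B U w) (hw : w * w = 1) (hU : U ≠ ⊥) {P : Sylow r G} (hP : (P : Subgroup G) = U)
    (hle : Nat.card (two B w) ≤ Nat.card U) {y : G} (hy : y ∈ two B w) (hy2 : y * y ≠ 1) : VZ G y := by
  obtain ⟨χ, hχ⟩ := H710.Cuspidal.exists_cuspidal' R.data hw (T := two B w) (fun g => Iff.rfl) R.ab hy (by
    intro h
    apply hy2
    have h1 := R.inv y hy
    rw [mul_assoc, ← h, inv_mul_cancel_left] at h1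
    nth_rewrite 1 [h1]
    exact inv_mul_cancel _) hle
  have hf := R.reg y hy hy2
  refine ⟨χ, fun α => ?_⟩
  -- `α U` is conjugate to `U`
  obtain ⟨g, hg⟩ := MulAction.exists_smul_eq G P (α • P)
  have hgU : ∀ u, u ∈ U ↔ α⁻¹ (g * u * g⁻¹) ∈ U := by
    intro u
    have h1 : g * u * g⁻¹ ∈ (g • P : Sylow r G) ↔ u ∈ U := by
      rw [← hP]
      constructor
      · rintro ⟨v, hv, h2⟩
        have h3 : g * v * g⁻¹ = g * u * g⁻¹ := h2
        have h4 : v = u := mul_left_cancel (mul_right_cancel h3)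
        exact h4 ▸ hv
      · intro h
        exact ⟨u, h, rfl⟩
    have h2 : g * u * g⁻¹ ∈ (α • P : Sylow r G) ↔ α⁻¹ (g * u * g⁻¹) ∈ U := by
      rw [← hP]
      constructor
      · rintro ⟨v, hv, h2⟩
        have h3 : α v = g * u * g⁻¹ := h2
        rw [← h3, MulAut.inv_apply_self]
        exact hv
      · intro h
        exact ⟨_, h, MulAut.apply_inv_self _ α _⟩
    rw [← h1, hg, h2]
  -- the conjugate of `α y` in `B`
  have hnorm : g⁻¹ * α y * g ∈ B := by
    rw [← R.data.normalizer_eq hU, mem_normalizer_iff]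
    intro u
    rw [hgU u, hgU (g⁻¹ * α y * g * u * (g⁻¹ * α y * g)⁻¹)]
    have e : α⁻¹ (g * (g⁻¹ * α y * g * u * (g⁻¹ * α y * g)⁻¹) * g⁻¹) = y * α⁻¹ (g * u * g⁻¹) * y⁻¹ := by
      have e1 : g * (g⁻¹ * α y * g * u * (g⁻¹ * α y * g)⁻¹) * g⁻¹ = α y * (g * u * g⁻¹) * (α y)⁻¹ := by group
      rw [e1, map_mul, map_mul, map_inv, MulAut.inv_apply_self]
    rw [e]
    constructor
    · intro h
      exact R.data.norm y hy.1 _ h
    · intro h
      have h3 := R.data.norm y⁻¹ (inv_mem hy.1) _ h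
      have e2 : y⁻¹ * (y * α⁻¹ (g * u * g⁻¹) * y⁻¹) * y⁻¹⁻¹ = α⁻¹ (g * u * g⁻¹) := by group
      rwa [e2] at h3
  have h1 := hχ _ hnorm (by
    intro u hu hc
    have h2 : α⁻¹ (g * u * g⁻¹) = 1 := by
      refine hf _ ((hgU u).1 hu) ?_
      have h3 : α y * (g * u * g⁻¹) = (g * u * g⁻¹) * α y := by
        calc α y * (g * u * g⁻¹) = g * (g⁻¹ * α y * g * u) * g⁻¹ := by group
          _ = g * (u * (g⁻¹ * α y * g)) * g⁻¹ := by rw [hc]
          _ = _ := by group
      have h4 := congrArg (α⁻¹ : MulAut G) h3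
      rwa [map_mul _ (α y), map_mul _ _ (α y), MulAut.inv_apply_self] at h4
    have h3 : g * u * g⁻¹ = 1 := by
      have := congrArg α h2
      rwa [MulAut.apply_inv_self, map_one] at this
    have h4 : u = g⁻¹ * (g * u * g⁻¹) * g := by group
    rw [h4, h3]
    group)
  rw [← h1]
  have h2 : ∀ a b : G, (χ : G → ℂ) (b⁻¹ * a * b) = (χ : G → ℂ) a := by
    intro a b
    obtain ⟨n, ρ, hρ, h⟩ := χ.2
    rw [← h]
    have := Representation.char_conj ρ a b⁻¹
    rwa [inv_inv] at this
  exact (h2 _ _).symm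

end main

/-- pairs of primes one of which is `r` (and the pair `r`, `r`) -/
def RRow (r : ℕ) (K : Type*) [Group K] : Prop :=
  ∀ p : ℕ, p.Prime → p ∣ Nat.card K →
    ∃ s : K, VZ K s ∧ r ∣ (centralizer ({s} : Set K)).index ∧ p ∣ (centralizer ({s} : Set K)).index

theorem RRow.mulEquiv {r : ℕ} {K L : Type*} [Group K] [Group L] (e : K ≃* L) (h : RRow r K) : RRow r L := by
  intro p hp hpL
  rw [← Nat.card_congr e.toEquiv] at hpL
  obtain ⟨s, h1, h2, h3⟩ := h p hp hpL
  exact ⟨e s, h1.mulEquiv e, by rwa [H730.index_centralizer_mulEquiv],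
    by rwa [H730.index_centralizer_mulEquiv]⟩

/-- both rows -/
theorem rows [Finite G] {r : ℕ} [hr : Fact r.Prime] (R : Tor B U w) (hw : w * w = 1) (hU : U ≠ ⊥)
    (hP : ∃ P : Sylow r G, (P : Subgroup G) = U) (hle : Nat.card (two B w) ≤ Nat.card U) {y : G} (hy : y ∈ two B w)
    (hy2 : y * y ≠ 1) {l : ℕ} (hlB : ¬ l ∣ Nat.card B) {x : G} (hx : l ∣ orderOf x) (hvx : VZ G x) :
    RRow r G ∧ ((H730.Pair.HasCop G → H730.Pair.Gen G y ∧ H730.Pair.Gen G x) → H730.Pair.GRow G) := by
  obtain ⟨P, hP⟩ := hP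
  have hUr : IsPGroup r U := hP ▸ P.2
  have hvy := vz_torus R hw hU hP hle hy hy2
  constructor
  · intro p hp hpG
    rcases main R hUr hU hy hy2 hlB hx hp hpG with h | h
    · exact ⟨y, hvy, h⟩
    · exact ⟨x, hvx, h⟩
  · intro hg hc p hp hpG
    obtain ⟨hgy, hgx⟩ := hg hc
    rcases main R hUr hU hy hy2 hlB hx hp hpG with h | h
    · exact ⟨y, hvy, hgy, h.2⟩
    · exact ⟨x, hvx, hgx, h.2⟩

/-- an element of order divisible by a prime which does not divide the number of fixed points -/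
theorem gen_of_prime {l : ℕ} {x : G} (hx : l ∣ orderOf x)
    (h : ∀ p : ℕ, p.Prime → ¬ p ∣ Nat.card G → ∀ β : MulAut G, orderOf β = p → ¬ l ∣ Nat.card (H716.CopRow.Fx β)) :
    H730.Pair.Gen G x := by
  intro t ht hd β hβ hbx
  apply h t ht hd β hβ
  refine hx.trans ?_
  rw [← Subgroup.orderOf_mk x (H := H716.CopRow.Fx β) hbx]
  exact orderOf_dvd_natCard _

end Cfsg.Agent.H410.GRowAbs
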