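import Cfsg.Agent.SporadicA.PrimeDegNorm

/-!
# The Sylow normaliser of a group of even permutations of prime degree (helper410)

* `not_full` : a faithful group of even permutations of prime degree `p > 2` does not contain the full normaliser
  (order `p (p - 1)`) of a Sylow `p`-subgroup;
* `half_of_dvd` : `p (p - 1) ∣ 2 |N(P)|` implies `2 |N(P)| = p (p - 1)`.
-/

set_option autoImplicit false

namespace Cfsg.Agent.H410.HalfNorm

open MulAction Subgroup
open Cfsg.Agent.SporadicA.PrimeDegNorm

variable {G Ω : Type*} [Group G] [MulAction G Ω] [FaithfulSMul G Ω] [Fintype Ω] [DecidableEq Ω] {p : ℕ}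

theorem not_full [Finite G] [hp : Fact p.Prime] (hp2 : p ≠ 2) (hΩ : Nat.card Ω = p)
    (heven : ∀ x : G, Equiv.Perm.sign (toPerm x : Equiv.Perm Ω) = 1) (P : Subgroup G) (hP : Nat.card P = p)
    (hN : Nat.card (normalizer (P : Set G)) = p * (p - 1)) : False := by
  have htr : IsPretransitive P Ω := isPretransitive_of_card hΩ P hP
  obtain ⟨β⟩ : Nonempty Ω := (Nat.card_pos_iff.1 (by rw [hΩ]; exact hp.out.pos)).1
  have hcyc : IsCyclic P := isCyclic_of_prime_card hP
  have hcomm : ∀ a ∈ (P : Subgroup G), ∀ b ∈ (P : Subgroup G), a * b = b * a := by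
    intro a ha b hb
    have := (IsCyclic.commGroup (α := P)).mul_comm ⟨a, ha⟩ ⟨b, hb⟩
    exact congrArg Subtype.val this
  set N := normalizer (P : Set G) with hNdef
  -- the point stabiliser in `N`
  set K : Subgroup N := stabilizer N β with hK
  have hNt : IsPretransitive N Ω := by
    constructor
    intro x y
    obtain ⟨g, hg⟩ := MulAction.exists_smul_eq P x y
    exact ⟨⟨g, le_normalizer g.2⟩, hg⟩
  have hKcard : Nat.card K = p - 1 := by
    have h1 := MulAction.index_stabilizer_of_transitive N β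
    have h2 := Subgroup.card_mul_index K
    rw [hK, h1, hΩ, hN, mul_comm p] at h2
    exact Nat.eq_of_mul_eq_mul_right hp.out.pos h2
  -- an element of `K` which centralises `P` is trivial
  have hcent : ∀ k : N, k ∈ K → (∀ x ∈ P, (k : G) * x = x * k) → k = 1 := by
    intro k hk hx
    apply Subtype.ext
    refine FaithfulSMul.eq_of_smul_eq_smul (α := Ω) fun y => ?_
    obtain ⟨x, rfl⟩ := MulAction.exists_smul_eq P β y
    have h1 : (k : G) • β = β := hk
    show (k : G) • (x : G) • β = ((1 : N) : G) • (x : G) • β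
    rw [OneMemClass.coe_one, one_smul, ← mul_smul, hx x x.2, mul_smul, h1]
  -- semiregularity
  have hfree : ∀ k : N, k ∈ K → ∀ y : Ω, y ≠ β → (k : G) • y = y → k = 1 := by
    intro k hk y hy hky
    have h1 : (k : G) • β = β := hk
    obtain ⟨x, rfl⟩ := MulAction.exists_smul_eq P β y
    have hx1 : (x : G) ≠ 1 := by
      intro h2
      apply hy
      show (x : G) • β = β
      rw [h2, one_smul]
    have hconj : (k : G) * x * (k : G)⁻¹ ∈ P := (mem_normalizer_iff.1 k.2 x).1 x.2
    have h2 : ((k : G) * x * (k : G)⁻¹) • β = (x : G) • β := by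
      have h3 : (k : G)⁻¹ • β = β := by rw [inv_smul_eq_iff, h1]
      rw [mul_smul, mul_smul, h3]
      exact hky
    -- regularity of `P`
    have h3 : (k : G) * x * (k : G)⁻¹ = x := by
      have h4 : ((x : G)⁻¹ * ((k : G) * x * (k : G)⁻¹)) = 1 := by
        refine FaithfulSMul.eq_of_smul_eq_smul (α := Ω) fun z => ?_
        obtain ⟨w, rfl⟩ := MulAction.exists_smul_eq P β z
        show ((x : G)⁻¹ * ((k : G) * x * (k : G)⁻¹)) • (w : G) • β = (1 : G) • (w : G) • β
        rw [one_smul, ← mul_smul, hcomm _ (mul_mem (inv_mem x.2) hconj) w w.2, mul_smul, mul_smul, h2, inv_smul_smul]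
      exact (inv_mul_eq_one.1 h4).symm
    apply hcent k hk
    -- `P = ⟨x⟩`
    have hgen : zpowers x = (⊤ : Subgroup P) :=
      zpowers_eq_top_of_prime_card hP (fun h5 => hx1 (by rw [h5]; rfl))
    intro w hw
    have h5 : (⟨w, hw⟩ : P) ∈ zpowers x := hgen ▸ Subgroup.mem_top _
    obtain ⟨i, hi⟩ := mem_zpowers_iff.1 h5
    have h6 : w = (x : G) ^ i := (congrArg Subtype.val hi).symm
    have h7 : Commute (k : G) (x : G) := by
      rw [mul_inv_eq_iff_eq_mul] at h3
      exact h3
    rw [h6]
    exact h7.zpow_right i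
  -- `K` is cyclic
  have hKc : IsCyclic K := by
    have h1 : IsCyclic (MulAut P) := by
      have h2 : Nat.card P = p := hP
      have h3 : IsCyclic (ZMod (Nat.card P))ˣ := by rw [h2]; infer_instance
      exact isCyclic_of_injective (IsCyclic.mulAutMulEquiv P).toMonoidHom (IsCyclic.mulAutMulEquiv P).injective
    let f : N →* MulAut P := P.normalizerMonoidHom
    refine isCyclic_of_injective (f.comp K.subtype) ?_
    rw [injective_iff_map_eq_one]
    intro k hk
    apply Subtype.ext
    refine hcent k k.2 fun x hx => ?_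
    have h2 := congrArg (fun g : MulAut P => ((g ⟨x, hx⟩ : P) : G)) hk
    have h3 : ((k : N) : G) * x * ((k : N) : G)⁻¹ = x := h2
    rwa [mul_inv_eq_iff_eq_mul] at h3
  obtain ⟨c, hc⟩ := hKc.exists_generator
  -- `c` is a cycle
  have horb : ∀ y z : Ω, y ≠ β → z ≠ β → ∃ k : K, ((k : N) : G) • y = z := by
    intro y z hy hz
    let F : K → {w : Ω // w ≠ β} := fun k => ⟨((k : N) : G) • y, fun h1 => hy (by
      have h2 : ((k : N) : G) • β = β := k.2
      exact smul_left_cancel _ (h1.trans h2.symm))⟩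
    have hF : Function.Injective F := by
      intro k k' h1
      have h2 : ((k : N) : G) • y = ((k' : N) : G) • y := congrArg Subtype.val h1
      have h3 : (k'⁻¹ * k : K) = 1 := by
        apply Subtype.ext
        refine hfree (k'⁻¹ * k : K) (k'⁻¹ * k : K).2 y hy ?_
        have h4 : (((k'⁻¹ * k : K) : N) : G) = ((k' : N) : G)⁻¹ * ((k : N) : G) := rfl
        rw [h4, mul_smul, h2, inv_smul_smul]
      exact (inv_mul_eq_one.1 h3).symm
    have hcard : Nat.card K = Nat.card {w : Ω // w ≠ β} := by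
      rw [hKcard, Nat.card_eq_fintype_card, Fintype.card_subtype_compl, Fintype.card_subtype_eq,
        ← Nat.card_eq_fintype_card, hΩ]
    have hbij := (Nat.bijective_iff_injective_and_card F).2 ⟨hF, hcard⟩
    obtain ⟨k, hk⟩ := hbij.2 ⟨z, hz⟩
    exact ⟨k, congrArg Subtype.val hk⟩
  set σ : Equiv.Perm Ω := toPerm ((c : N) : G) with hσ
  have hpow : ∀ i : ℤ, (σ ^ i : Equiv.Perm Ω) = toPerm (((c ^ i : K) : N) : G) := by
    intro i
    have h1 : σ = toPermHom G Ω ((c : N) : G) := rfl
    rw [h1, ← map_zpow]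
    rfl
  have hlt : 2 < p := lt_of_le_of_ne hp.out.two_le (Ne.symm hp2)
  have hsupp : ∀ y : Ω, σ y ≠ y ↔ y ≠ β := by
    intro y
    constructor
    · rintro h1 rfl
      exact h1 c.2
    · intro hy h1
      have h2 : (c : N) = 1 := hfree c c.2 y hy h1
      have h3 : Nat.card K ≤ 1 := by
        rw [Finite.card_le_one_iff_subsingleton]
        constructor
        intro a b
        have h4 : c = 1 := Subtype.ext h2
        obtain ⟨i, rfl⟩ := mem_zpowers_iff.1 (hc a)
        obtain ⟨j, rfl⟩ := mem_zpowers_iff.1 (hc b)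
        rw [h4, one_zpow, one_zpow]
      rw [hKcard] at h3
      omega
  obtain ⟨y₀, hy₀⟩ : ∃ y : Ω, y ≠ β := by
    have : Nontrivial Ω := Finite.one_lt_card_iff_nontrivial.1 (by rw [hΩ]; omega)
    exact exists_ne β
  have hcycle : σ.IsCycle := by
    refine ⟨y₀, (hsupp y₀).2 hy₀, fun z hz => ?_⟩
    obtain ⟨k, hk⟩ := horb y₀ z hy₀ ((hsupp z).1 hz)
    obtain ⟨i, rfl⟩ := mem_zpowers_iff.1 (hc k)
    refine ⟨i, ?_⟩
    rw [hpow]
    exact hk
  have hsign := hcycle.sign
  have hs : σ.support.card = p - 1 := by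
    have h1 : σ.support = Finset.univ.erase β := by
      ext y
      rw [Equiv.Perm.mem_support, hsupp, Finset.mem_erase]
      simp
    rw [h1, Finset.card_erase_of_mem (Finset.mem_univ _), Finset.card_univ, ← Nat.card_eq_fintype_card, hΩ]
  rw [heven, hs] at hsign
  have hev : Even (p - 1) := by
    obtain ⟨k, hk⟩ := hp.out.odd_of_ne_two hp2
    exact ⟨k, by omega⟩
  rw [hev.neg_one_pow] at hsign
  exact absurd hsign (by decide)

theorem half_of_dvd [Finite G] [hp : Fact p.Prime] (hp2 : p ≠ 2) (hΩ : Nat.card Ω = p)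
    (heven : ∀ x : G, Equiv.Perm.sign (toPerm x : Equiv.Perm Ω) = 1) (P : Subgroup G) (hP : Nat.card P = p)
    (hd : p * (p - 1) ∣ 2 * Nat.card (normalizer (P : Set G))) :
    2 * Nat.card (normalizer (P : Set G)) = p * (p - 1) := by
  have h1 := card_normalizer_dvd hΩ P hP
  have h2 := not_full hp2 hΩ heven P hP
  have hpos : 0 < Nat.card (normalizer (P : Set G)) := Nat.card_pos
  obtain ⟨a, ha⟩ := h1
  obtain ⟨b, hb⟩ := hd
  set x := Nat.card (normalizer (P : Set G)) with hx
  have h3 : a * b = 2 := by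
    have h4 : 2 * x = x * (a * b) := by rw [hb, ha]; ring
    have h5 : x * 2 = x * (a * b) := by rw [← h4]; ring
    exact (Nat.eq_of_mul_eq_mul_left hpos h5).symm
  have hb2 : b ∣ 2 := ⟨a, by rw [← h3]; ring⟩
  rcases (Nat.dvd_prime Nat.prime_two).1 hb2 with h6 | h6
  · rw [hb, h6, mul_one]
  · exfalso
    apply h2
    rw [h6] at hb
    have : 2 * x = 2 * (p * (p - 1)) := by rw [hb]; ring
    exact Nat.eq_of_mul_eq_mul_left two_pos this

end Cfsg.Agent.H410.HalfNorm
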