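import Cfsg.Agent.H410.PSLStab
import Cfsg.Agent.H410.Basic
import Cfsg.Agent.Lib.Cores

/-!
# The unipotent radical of a point stabiliser in `PSL_n(F)` (helper410)

* `exists_radical` : `T ≅ PSL_n(F)` acting as on the projective space: a point stabiliser has a non-trivial normal
  `r`-subgroup, `r = char F`;
* `not_three` : `T ⊴ G`, `G_α` primitive on the remaining points: `n = 2`.
-/

set_option autoImplicit false
set_option linter.unusedSectionVars false

namespace Cfsg.Agent.H410.PointRadical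

open Matrix MulAction
open Cfsg.Agent.H410.PSLStab Cfsg.Agent.H410.Basic
open Cfsg.Agent.TitsThree.KSideA (tv tv_of_ne)
open scoped LinearAlgebra.Projectivization

section SL

variable {ι F : Type*} [Field F] [DecidableEq ι] [Fintype ι]

/-- The unipotent radical of the stabiliser of the coordinate point `c`. -/
def rad (F : Type*) [Field F] (c : ι) : Subgroup (SpecialLinearGroup ι F) where
  carrier := {g | g • (Pi.single c 1 : ι → F) = Pi.single c 1 ∧
    ∀ v : ι → F, ∃ x : F, g • v = v + x • (Pi.single c 1 : ι → F)}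
  mul_mem' := by
    rintro g h ⟨hg, hg'⟩ ⟨hh, hh'⟩
    refine ⟨by rw [mul_smul, hh, hg], fun v => ?_⟩
    obtain ⟨x, hx⟩ := hh' v
    obtain ⟨y, hy⟩ := hg' v
    refine ⟨y + x, ?_⟩
    rw [mul_smul, hx, smul_add, hy, smul_comm g x, hg, add_smul, add_assoc]
  one_mem' := ⟨one_smul _ _, fun v => ⟨0, by rw [one_smul, zero_smul, add_zero]⟩⟩
  inv_mem' := by
    rintro g ⟨hg, hg'⟩
    have h1 : g⁻¹ • (Pi.single c 1 : ι → F) = Pi.single c 1 := by rw [inv_smul_eq_iff, hg]
    refine ⟨h1, fun v => ?_⟩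
    obtain ⟨x, hx⟩ := hg' v
    refine ⟨-x, ?_⟩
    rw [inv_smul_eq_iff, smul_add, hx, smul_comm g (-x), hg, neg_smul, add_neg_cancel_right]

theorem conj_rad {c : ι} {g h : SpecialLinearGroup ι F} (hg : g ∈ rad F c)
    (hh : h ∈ stabilizer (SpecialLinearGroup ι F) (pt F c)) : h * g * h⁻¹ ∈ rad F c := by
  have hh' : ∀ k ∈ stabilizer (SpecialLinearGroup ι F) (pt F c), ∃ l : F,
      k • (Pi.single c 1 : ι → F) = l • (Pi.single c 1 : ι → F) := by
    intro k hk
    rw [mem_stabilizer_iff, pt, Projectivization.smul_mk, Projectivization.mk_eq_mk_iff'] at hk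
    obtain ⟨l, hl⟩ := hk
    exact ⟨l, hl.symm⟩
  obtain ⟨l, hl⟩ := hh' h hh
  obtain ⟨l', hl'⟩ := hh' h⁻¹ (inv_mem hh)
  obtain ⟨hg1, hg2⟩ := hg
  have hll : (l' * l) • (Pi.single c 1 : ι → F) = Pi.single c 1 := by
    have h1 : h • h⁻¹ • (Pi.single c 1 : ι → F) = Pi.single c 1 := smul_inv_smul _ _
    rw [hl', smul_comm h l', hl, smul_smul] at h1
    exact h1
  refine ⟨?_, fun v => ?_⟩
  · rw [mul_smul, mul_smul, hl', smul_comm g l', hg1, smul_comm h l', hl, smul_smul, hll]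
  · obtain ⟨x, hx⟩ := hg2 (h⁻¹ • v)
    refine ⟨x * l, ?_⟩
    rw [mul_smul, mul_smul, hx, smul_add, smul_inv_smul, smul_comm h x, hl, smul_smul]

theorem pow_rad {r : ℕ} [CharP F r] {c : ι} {g : SpecialLinearGroup ι F} (hg : g ∈ rad F c) : g ^ r = 1 := by
  obtain ⟨hg1, hg2⟩ := hg
  have key : ∀ (k : ℕ) (v : ι → F) (x : F), g • v = v + x • (Pi.single c 1 : ι → F) →
      g ^ k • v = v + ((k : F) * x) • (Pi.single c 1 : ι → F) := by
    intro k
    induction k with
    | zero => intro v x _; simp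
    | succ k ih =>
      intro v x hx
      rw [pow_succ', mul_smul, ih v x hx, smul_add, hx, smul_comm g, hg1, Nat.cast_succ, add_mul, one_mul, add_smul]
      abel
  apply Cfsg.Agent.LieClassical.SLGen.smul_ext
  intro v
  obtain ⟨x, hx⟩ := hg2 v
  rw [key r v x hx, CharP.cast_eq_zero, zero_mul, zero_smul, add_zero, one_smul]

theorem tv_mem_rad {c b : ι} (hcb : c ≠ b) (t : F) : tv c b t ∈ rad F c := by
  rw [tv_of_ne hcb]
  constructor
  · ext l
    rw [LieClassical.SLGen.transvection_smul]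
    by_cases hl : l = c
    · subst hl; simp [hcb.symm]
    · simp [hl, hcb.symm]
  · intro v
    refine ⟨t * v b, ?_⟩
    ext l
    rw [LieClassical.SLGen.transvection_smul]

theorem tv_move {c b : ι} (hcb : c ≠ b) : tv c b (1 : F) • pt F b ≠ pt F b := by
  intro h1
  have h2 : tv c b (1 : F) ∈ stabilizer (SpecialLinearGroup ι F) (pt F b) := h1
  rw [mem_stab_pt] at h2
  have h3 := h2 c hcb
  rw [Nodes.RGDTypeA.tv_val hcb] at h3
  simp [Matrix.one_apply_ne hcb] at h3

end SL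

/-- **The radical of a point stabiliser.** -/
theorem exists_radical {T Ω F : Type*} [Group T] [MulAction T Ω] [Field F] {d r : ℕ} [CharP F r] (hd : 2 ≤ d)
    (hr : r.Prime) (e : T ≃* ProjectiveSpecialLinearGroup (Fin d) F)
    (Φ : Ω ≃ ℙ F (Fin d → F)) (hΦ : ∀ (t : T) (ω : Ω), Φ (t • ω) = e t • Φ ω) :
    ∃ (α : Ω) (K : Subgroup T), K ≤ stabilizer T α ∧ (∀ t ∈ stabilizer T α, ∀ k ∈ K, t * k * t⁻¹ ∈ K) ∧
      IsPGroup r K ∧ K ≠ ⊥ := by
  obtain ⟨m, rfl⟩ : ∃ m, d = m + 2 := ⟨d - 2, by omega⟩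
  set c : Fin (m + 2) := 0 with hc
  set b : Fin (m + 2) := 1 with hb
  have hcb : c ≠ b := by rw [hc, hb]; simp
  let q : SpecialLinearGroup (Fin (m + 2)) F →* ProjectiveSpecialLinearGroup (Fin (m + 2)) F :=
    QuotientGroup.mk' _
  have hq : ∀ (g : SpecialLinearGroup (Fin (m + 2)) F) (x : ℙ F (Fin (m + 2) → F)), q g • x = g • x :=
    fun g x => rfl
  have hΦ' : ∀ (t : T) (ω : Ω), t • ω = ω ↔ e t • Φ ω = Φ ω := by
    intro t ω
    rw [← hΦ, Φ.apply_eq_iff_eq]
  refine ⟨Φ.symm (pt F c), ((rad F c).map q).comap e.toMonoidHom, ?_, ?_, ?_, ?_⟩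
  · intro t ht
    obtain ⟨g, hg, hgt⟩ := Subgroup.mem_map.1 (Subgroup.mem_comap.1 ht)
    have hgt' : q g = e t := hgt
    rw [mem_stabilizer_iff, hΦ', Φ.apply_symm_apply, ← hgt', hq, ← mem_stabilizer_iff, mem_stab_pt]
    intro a ha
    rw [Nodes.RGDTypeA.apply_eq_smul, hg.1, Pi.single_eq_of_ne ha]
  · intro t ht k hk
    obtain ⟨g, hg, hgt⟩ := Subgroup.mem_map.1 (Subgroup.mem_comap.1 hk)
    have hgt' : q g = e k := hgt
    obtain ⟨u, hu⟩ := QuotientGroup.mk'_surjective _ (e t)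
    have hu' : q u = e t := hu
    rw [mem_stabilizer_iff, hΦ', Φ.apply_symm_apply, ← hu', hq] at ht
    refine ⟨u * g * u⁻¹, conj_rad hg ht, ?_⟩
    show q (u * g * u⁻¹) = e (t * k * t⁻¹)
    rw [map_mul, map_mul, map_inv, map_mul, map_mul, map_inv, hgt', hu']
  · rintro ⟨t, ht⟩
    obtain ⟨g, hg, hgt⟩ := Subgroup.mem_map.1 (Subgroup.mem_comap.1 ht)
    have hgt' : q g = e t := hgt
    refine ⟨1, Subtype.ext ?_⟩
    apply e.injective
    show e (t ^ r ^ 1) = e 1
    rw [pow_one, map_pow, ← hgt', ← map_pow, pow_rad hg, map_one, map_one]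
  · intro h1
    have h2 : e.symm (q (tv c b (1 : F))) ∈ ((rad F c).map q).comap e.toMonoidHom := by
      refine ⟨tv c b 1, tv_mem_rad hcb 1, ?_⟩
      exact (e.apply_symm_apply _).symm
    rw [h1, Subgroup.mem_bot, MulEquiv.symm_apply_eq, map_one] at h2
    have h3 := hq (tv c b (1 : F)) (pt F b)
    rw [h2, one_smul] at h3
    exact tv_move hcb h3.symm

/-- **`G_α` primitive on the remaining points: `d = 2`.** -/
theorem not_three {G Ω F : Type*} [Group G] [Finite G] [MulAction G Ω] [FaithfulSMul G Ω] [Finite Ω] {T : Subgroup G}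
    [hT : T.Normal] [Field F] [Fintype F] {d p : ℕ} (hd : 3 ≤ d)
    (e : ↥T ≃* ProjectiveSpecialLinearGroup (Fin d) F)
    (Φ : Ω ≃ ℙ F (Fin d → F)) (hΦ : ∀ (t : ↥T) (ω : Ω), Φ (t • ω) = e t • Φ ω)
    (hp : Fintype.card F ^ d - 1 = p * (Fintype.card F - 1)) (hΩ : Nat.card Ω = p)
    (hprim : ∀ α : Ω, IsPreprimitive ↥(stabilizer G α) ↥(SubMulAction.ofStabilizer G α)) : False := by
  obtain ⟨r, hc⟩ := CharP.exists F
  have hr : r.Prime := CharP.char_is_prime F r
  have := Fact.mk hr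
  obtain ⟨α, K, hKα, hKn, hKr, hK1⟩ := exists_radical (by omega) hr e Φ hΦ
  -- the normal subgroup `T_α` of `G_α` and its largest normal `r`-subgroup
  set S : Subgroup ↥(stabilizer G α) := T.subgroupOf (stabilizer G α) with hS
  let f : ↥S →* ↥T :=
    { toFun := fun s => ⟨((s : ↥(stabilizer G α)) : G), s.2⟩
      map_one' := rfl
      map_mul' := fun _ _ => rfl }
  have hf : Function.Injective f := fun a b hab => Subtype.ext (Subtype.ext (congrArg (fun t : ↥T => (t : G)) hab))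
  set K' : Subgroup ↥S := K.comap f with hK'
  have hK'n : K'.Normal := by
    constructor
    intro k hk s
    have h1 : f s ∈ stabilizer ↥T α := (s : ↥(stabilizer G α)).2
    have h2 := hKn (f s) h1 (f k) hk
    rw [← map_inv, ← map_mul, ← map_mul] at h2
    exact h2
  have hK'r : IsPGroup r ↥K' := hKr.comap_of_injective f hf
  have hK'1 : K' ≠ ⊥ := by
    intro h1
    apply hK1
    rw [Subgroup.eq_bot_iff_forall]
    intro k hk
    have h2 : (k : G) ∈ stabilizer G α := hKα hk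
    have h3 : (⟨⟨(k : G), h2⟩, k.2⟩ : ↥S) ∈ K' := hk
    rw [h1, Subgroup.mem_bot] at h3
    apply Subtype.ext
    exact congrArg (fun s : ↥S => ((s : ↥(stabilizer G α)) : G)) h3
  set C := Cfsg.pCore r ↥S with hC
  have hKC : K' ≤ C := Lib.Cores.le_pCore hK'n hK'r
  have hC1 : C ≠ ⊥ := fun h1 => hK'1 (le_bot_iff.1 (h1 ▸ hKC))
  have hCchar : C.Characteristic := Lib.Cores.pCore_characteristic r
  have hSn : S.Normal := inferInstance
  set D : Subgroup ↥(stabilizer G α) := C.map S.subtype with hD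
  have hDn : D.Normal := ConjAct.normal_of_characteristic_of_normal
  have hDr : IsPGroup r ↥D := (Lib.Cores.pCore_isPGroup r).map _
  obtain ⟨c, hcC, hc1⟩ : ∃ c ∈ C, c ≠ 1 := by
    by_contra hcon
    push Not at hcon
    exact hC1 ((Subgroup.eq_bot_iff_forall _).2 hcon)
  have hprimα := hprim α
  have hDt : IsPretransitive ↥D ↥(SubMulAction.ofStabilizer G α) := by
    refine IsQuasiPreprimitive.isPretransitive_of_normal ?_
    intro h1
    apply hc1
    apply Subtype.ext
    apply Subtype.ext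
    refine FaithfulSMul.eq_of_smul_eq_smul (α := Ω) fun x => ?_
    by_cases hx : x = α
    · rw [hx]
      have h2 : ((c : ↥(stabilizer G α)) : G) • α = α := (c : ↥(stabilizer G α)).2
      rw [h2]
      exact (one_smul _ _).symm
    · have hx' : x ∈ SubMulAction.ofStabilizer G α := hx
      have h2 : (⟨x, hx'⟩ : ↥(SubMulAction.ofStabilizer G α)) ∈ fixedPoints ↥D ↥(SubMulAction.ofStabilizer G α) :=
        h1 ▸ Set.mem_univ _
      have h3 := h2 ⟨(c : ↥(stabilizer G α)), ⟨c, hcC, rfl⟩⟩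
      have h4 := congrArg Subtype.val h3
      have h5 : ((c : ↥(stabilizer G α)) : G) • x = x := h4
      rw [h5]
      exact (one_smul _ _).symm
  -- the number of the remaining points is a power of `r`
  have hcardΩ : Nat.card ↥(SubMulAction.ofStabilizer G α) = p - 1 := by
    have := SubMulAction.nat_card_ofStabilizer_eq G α
    rw [this, hΩ]
  have hq : 2 ≤ Fintype.card F := Fintype.one_lt_card
  obtain ⟨a, -, ha⟩ := FiniteField.card F r
  set q := Fintype.card F with hqdef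
  have hgeom : ∀ n : ℕ, (∑ i ∈ Finset.range n, q ^ i) * (q - 1) = q ^ n - 1 := by
    intro n
    have := Nat.geomSum_eq hq n
    rw [this]
    exact Nat.div_mul_cancel (by simpa using Nat.sub_dvd_pow_sub_pow q 1 n)
  have hps : p = ∑ i ∈ Finset.range d, q ^ i := by
    have h1 := hgeom d
    rw [hp] at h1
    exact (Nat.eq_of_mul_eq_mul_right (by omega) h1).symm
  obtain ⟨n, rfl⟩ : ∃ n, d = n + 3 := ⟨d - 3, by omega⟩
  obtain ⟨s, hs⟩ : ∃ s, s = ∑ i ∈ Finset.range (n + 1), q ^ i := ⟨_, rfl⟩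
  have hs0 : 0 < s := by
    rw [hs, Finset.sum_range_succ']
    positivity
  have hsucc : ∀ k : ℕ, ∑ i ∈ Finset.range (k + 1), q ^ i = 1 + q * ∑ i ∈ Finset.range k, q ^ i := by
    intro k
    rw [Finset.sum_range_succ', pow_zero, add_comm]
    congr 1
    rw [Finset.mul_sum]
    exact Finset.sum_congr rfl fun i _ => by rw [pow_succ]; ring
  have hp' : p = 1 + q * (1 + q * s) := by rw [hps, hsucc, hsucc, ← hs]
  have hne : Nonempty ↥(SubMulAction.ofStabilizer G α) := by
    rw [← Finite.card_pos_iff, hcardΩ, hp']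
    have : 0 < q * (1 + q * s) := by positivity
    omega
  obtain ⟨x⟩ := hne
  obtain ⟨k, hk⟩ := hDr.card_orbit x
  rw [MulAction.orbit_eq_univ, Nat.card_congr (Equiv.Set.univ _), hcardΩ, hp', Nat.add_sub_cancel_left] at hk
  have h1 : 1 + q * s ∣ r ^ k := ⟨q, by rw [← hk]; ring⟩
  obtain ⟨j, -, hj⟩ := (Nat.dvd_prime_pow hr).1 h1
  have hrq : r ∣ q := by
    rw [ha]
    exact dvd_pow_self r a.pos.ne'
  have hj0 : j ≠ 0 := by
    rintro rfl
    rw [pow_zero] at hj
    have : 0 < q * s := by positivity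
    omega
  have h2 : r ∣ 1 + q * s := by rw [hj]; exact dvd_pow_self r hj0
  have h3 : r ∣ 1 := (Nat.dvd_add_left (hrq.mul_right s)).1 h2
  exact hr.one_lt.ne' (Nat.dvd_one.1 h3)

end Cfsg.Agent.H410.PointRadical
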