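import Cfsg.Agent.H410.ASLie
import Cfsg.Agent.H410.PSUThree
import Cfsg.Agent.H410.TwFFour
import Cfsg.Agent.H660.SporPrimeIndex
import Cfsg.Agent.S0255
import Cfsg.Agent.S0494
import Cfsg.Agent.S0806
import Cfsg.Agent.LieClassical.FieldTransfer
import Cfsg.Agent.ClassicalGeometry.PSL2Basic

/-!
# Simple groups with a subgroup of prime index (helper410)

* `main` : a known simple group `T`, transitive on a set `Ω` of prime size `p`: `Row T Ω p`;
* `prime_index` : a known simple non-abelian group with a subgroup of prime index `p` is `A_p`, `PSL_d(F)` with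
  `(|F| ^ d - 1) / (|F| - 1) = p`, `PSL_2(11)` or `M11` (`p = 11`) or `M23` (`p = 23`).
-/

set_option autoImplicit false
set_option linter.unusedSectionVars false

namespace Cfsg.Agent.H410.PrimeIndex

open Cfsg MulAction
open Cfsg.Agent.H410.Basic Cfsg.Agent.H410.RankOne Cfsg.Agent.H410.Types Cfsg.Agent.H384.TwoTrans
open scoped LinearAlgebra.Projectivization

/-- The rows of the theorem on simple groups of prime degree. -/
inductive Row (T Ω : Type*) [Group T] [MulAction T Ω] (p : ℕ) : Prop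
  | alt (e : Nonempty (T ≃* ↥(alternatingGroup (Fin p)))) : Row T Ω p
  | psl (F : Type) [Field F] [Fintype F] (d : ℕ) (hd : 2 ≤ d)
      (e : T ≃* Matrix.ProjectiveSpecialLinearGroup (Fin d) F)
      (Φ : Ω ≃ ℙ F (Fin d → F)) (hΦ : ∀ (t : T) (ω : Ω), Φ (t • ω) = e t • Φ ω)
      (hp : Fintype.card F ^ d - 1 = p * (Fintype.card F - 1)) : Row T Ω p
  | psl11 (hp : p = 11) (e : Nonempty (T ≃* Matrix.ProjectiveSpecialLinearGroup (Fin 2) (ZMod 11))) : Row T Ω p
  | m11 (hp : p = 11) (h : Spor.IsoM11 T) : Row T Ω p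
  | m23 (hp : p = 23) (h : Spor.IsoM23 T) : Row T Ω p

variable {T Ω : Type*} [Group T] [MulAction T Ω] {p : ℕ}

theorem toAS (hyp : Hyp T Ω p) : AS T Ω (⊤ : Subgroup T) where
  finG := hyp.fin
  finΩ := hyp.finite
  faithful := hyp.faithful
  two := hyp.two_trans
  normal := inferInstance
  simple := by
    have := hyp.simple
    exact (Subgroup.topEquiv (G := T)).isSimpleGroup
  nonab := by
    intro h1
    obtain ⟨a, b, hab⟩ := hyp.nc
    exact hab (congrArg Subtype.val (isMulCommutative_iff.1 h1 ⟨a, Subgroup.mem_top a⟩ ⟨b, Subgroup.mem_top b⟩))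
  cent := by
    have := hyp.simple
    rw [Subgroup.coe_top, Subgroup.centralizer_univ]
    rcases (inferInstance : (Subgroup.center T).Normal).eq_bot_or_eq_top with h1 | h1
    · exact h1
    · exfalso
      obtain ⟨a, b, hab⟩ := hyp.nc
      exact hab (Subgroup.mem_center_iff.1 (h1 ▸ Subgroup.mem_top b) a)

/-- `A_n`, transitive on `p` points: `n = p`. -/
theorem alt_eq (hyp : Hyp T Ω p) {n : ℕ} (hn : 5 ≤ n) (e : T ≃* ↥(alternatingGroup (Fin n))) : n = p := by
  have hn1 : Nontrivial (Fin n) := Fin.nontrivial_iff_two_le.2 (by omega)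
  have hc : 2 * Nat.card T = n.factorial := by
    rw [Nat.card_congr e.toEquiv, two_mul_nat_card_alternatingGroup, Nat.card_perm, Nat.card_eq_fintype_card,
      Fintype.card_fin]
  apply le_antisymm
  · by_contra hlt
    have h1 := hyp.card_dvd
    rw [hc] at h1
    have h2 := Nat.le_of_dvd (Nat.factorial_pos _) h1
    have h3 := (Nat.factorial_lt hyp.prime.pos).2 (not_le.1 hlt)
    omega
  · have h1 : p ∣ n.factorial := hc ▸ (hyp.dvd.mul_left 2)
    exact (hyp.prime.dvd_factorial).1 h1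

/-- the characteristic is not `p` -/
theorem psl_row (hyp : Hyp T Ω p) {F : Type} [Field F] [Fintype F] {d r : ℕ} (hd : 2 ≤ d) [CharP F r] (hr : r.Prime)
    (hrp : r ≠ p) (e : T ≃* Matrix.ProjectiveSpecialLinearGroup (Fin d) F) : Row T Ω p := by
  obtain ⟨m, rfl⟩ : ∃ m, d = m + 1 + 1 := ⟨d - 2, by omega⟩
  have := Fact.mk hr
  have hdvd : ¬ r ∣ Nat.card Ω := by
    rw [hyp.card, Nat.prime_dvd_prime_iff_eq hr hyp.prime]
    exact hrp
  have h1 := ASLie.psl_card (toAS hyp) ((Subgroup.topEquiv (G := T)).trans e) hdvd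
  obtain ⟨e', Φ, hΦ⟩ := ASLie.psl_equiv (toAS hyp) ((Subgroup.topEquiv (G := T)).trans e) hdvd
  refine .psl F (m + 1 + 1) (by omega) ((Subgroup.topEquiv (G := T)).symm.trans e') Φ (fun t ω => ?_) ?_
  · exact hΦ ((Subgroup.topEquiv (G := T)).symm t) ω
  · rw [hyp.card, Nat.card_eq_fintype_card] at h1
    exact h1.symm

theorem psl_case (hyp : Hyp T Ω p) (h : IsPSL T) : Row T Ω p := by
  obtain ⟨F, _, _, d, hd, hd2, ⟨e⟩⟩ := h
  obtain ⟨r, hc⟩ := CharP.exists F
  have hr : r.Prime := CharP.char_is_prime F r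
  have := Fact.mk hr
  by_cases hrp : r ≠ p
  · exact psl_row hyp hd hr hrp e
  push Not at hrp
  subst hrp
  have hfin := hyp.fin
  -- `d = 2`
  have hd' : d = 2 := by
    by_contra hne
    obtain ⟨m, rfl⟩ : ∃ m, d = m + 2 + 1 := ⟨d - 3, by omega⟩
    obtain ⟨A, h, T', n, X, hW, R, hX⟩ :=
      (Omega.ML.Ex.Typ.typ_PSL (F := F) (m + 2) (p := r)).of_equiv e.symm
    exact hyp.not_sq_dvd (sq_dvd_of_rgd R (i := (0 : Fin (m + 2))) (j := 1) (by simp))
  subst hd'
  have h5 := hyp.five_le
  -- `|F| = r`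
  obtain ⟨a, -, ha⟩ := FiniteField.card F r
  have hodd : Odd (Fintype.card F) := by
    rw [ha]
    exact (hr.odd_of_ne_two (by omega)).pow
  have hcard := ClassicalGeometry.PSL2Basic.card_PSL2_odd (F := F) hodd
  rw [← Nat.card_congr e.toEquiv] at hcard
  have ha1 : (a : ℕ) = 1 := by
    by_contra hne
    have h2 : r ^ 2 ∣ Nat.card T * 2 := by
      rw [hcard, ha]
      exact (pow_dvd_pow r (by have := a.pos; omega)).mul_right _
    have h3 : Nat.Coprime (r ^ 2) 2 := Nat.Coprime.pow_left 2 ((Nat.coprime_primes hr Nat.prime_two).2 (by omega))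
    exact hyp.not_sq_dvd (h3.dvd_of_dvd_mul_right h2)
  have hF : Fintype.card F = r := by rw [ha, ha1, pow_one]
  rw [hF] at hcard
  by_cases hq : r ∉ ({2, 3, 5, 7, 9, 11} : Finset ℕ)
  · exfalso
    have h1 := (S0806.result hF hq).1
    have hfinΩ := hyp.finite
    obtain ⟨α⟩ : Nonempty Ω := (Nat.card_pos_iff.1 (by rw [hyp.card]; exact hr.pos)).1
    have h2 := hyp.index_stabilizer α
    have h3 : ((stabilizer T α).map e.toMonoidHom).index = r := by
      rw [← h2]
      exact Subgroup.index_map_equiv (stabilizer T α) e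
    have h4 : (stabilizer T α).map e.toMonoidHom ≠ ⊤ := by
      intro h4
      rw [h4, Subgroup.index_top] at h3
      omega
    have h6 := h1 _ h4
    omega
  · have hcases : r = 5 ∨ r = 7 ∨ r = 11 := by
      simp only [Finset.mem_insert, Finset.mem_singleton, not_not] at hq
      rcases hq with h | h | h | h | h | h
      · omega
      · omega
      · exact Or.inl h
      · exact Or.inr (Or.inl h)
      · rw [h] at hr; exact absurd hr (by norm_num)
      · exact Or.inr (Or.inr h)
    have := hyp.simple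
    rcases hcases with rfl | rfl | rfl
    · exact .alt (S0494.result (G := T) (by omega))
    · have h2 : Fintype.card (ZMod 2) = 2 := ZMod.card 2
      obtain ⟨e₂⟩ := S0255.result hF h2
      have : Fact (Nat.Prime 2) := ⟨Nat.prime_two⟩
      exact psl_row (r := 2) hyp (by norm_num) Nat.prime_two (by norm_num) (e.trans e₂)
    · have : Fact (Nat.Prime 11) := ⟨by norm_num⟩
      have h11 : Fintype.card F = Fintype.card (ZMod 11) := by rw [hF, ZMod.card]
      exact .psl11 rfl ⟨e.trans (LieClassical.FieldTransfer.pslCongr (FiniteField.ringEquivOfCardEq h11))⟩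

/-- **Known simple groups, transitive of prime degree.** -/
theorem main (hyp : Hyp T Ω p) (hK : IsKnownSimple' T) : Row T Ω p := by
  have hfin := hyp.fin
  have := hyp.finite
  have hsimple := hyp.simple
  obtain ⟨a, b, hab⟩ := hyp.nc
  have hna : ¬ IsMulCommutative T := fun h => hab (isMulCommutative_iff.1 h a b)
  rcases split_known hK with h | h | h | h | h | h | h | h | h | h
  · exfalso
    have := Fact.mk (show (Nat.card T).Prime from h)
    have hc : IsCyclic T := isCyclic_of_prime_card (p := Nat.card T) rfl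
    exact hna hc.isMulCommutative
  · obtain ⟨n, hn, ⟨e⟩⟩ := h
    obtain rfl := alt_eq hyp hn e
    exact .alt ⟨e⟩
  · exact psl_case hyp h
  · obtain ⟨r, hr, hB⟩ := h
    exact (hB.false_of_prime hr hyp.two_trans hyp.prime hyp.card hyp.not_sq_dvd).elim
  · obtain ⟨F, _, _, q, hF, -, ⟨e⟩⟩ := h
    exact (hyp.not_psu_three hF e).elim
  · exact (hyp.not_sz h).elim
  · exact (hyp.not_ree h).elim
  · exact (hyp.not_twF4 h).elim
  · exact (hyp.not_tits h).elim
  · obtain ⟨α⟩ : Nonempty Ω := (Nat.card_pos_iff.1 (by rw [hyp.card]; exact hyp.prime.pos)).1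
    rcases H660.SporPrimeIndex.sporadic_prime_index hna h (stabilizer T α) p hyp.prime (hyp.index_stabilizer α)
      with ⟨h1, h2⟩ | ⟨h1, h2⟩
    · exact .m11 h1 h2
    · exact .m23 h1 h2

theorem hyp_of_index {T : Type*} [Group T] [Finite T] [IsSimpleGroup T] (hna : ¬ IsMulCommutative T) {H : Subgroup T}
    {p : ℕ} (hp : p.Prime) (hH : H.index = p) : Hyp T (T ⧸ H) p where
  fin := inferInstance
  simple := inferInstance
  nc := by
    by_contra hcon
    push Not at hcon
    exact hna (isMulCommutative_iff.2 hcon)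
  prime := hp
  card := hH
  trans := inferInstance

/-- **Known simple groups with a subgroup of prime index.** -/
theorem prime_index {T : Type*} [Group T] [Finite T] [IsSimpleGroup T] (hK : IsKnownSimple' T)
    (hna : ¬ IsMulCommutative T) (H : Subgroup T) (p : ℕ) (hp : p.Prime) (hH : H.index = p) :
    (5 ≤ p ∧ Nonempty (T ≃* alternatingGroup (Fin p))) ∨
    (∃ (d : ℕ) (F : Type) (_ : Field F) (_ : Fintype F), 2 ≤ d ∧ Fintype.card F ^ d - 1 = p * (Fintype.card F - 1) ∧
      Nonempty (T ≃* Matrix.ProjectiveSpecialLinearGroup (Fin d) F)) ∨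
    (p = 11 ∧ (Nonempty (T ≃* Matrix.ProjectiveSpecialLinearGroup (Fin 2) (ZMod 11)) ∨ Spor.IsoM11 T)) ∨
    (p = 23 ∧ Spor.IsoM23 T) := by
  have hyp := hyp_of_index hna hp hH
  cases main hyp hK with
  | alt e => exact Or.inl ⟨hyp.five_le, e⟩
  | psl F d hd e Φ hΦ hp => exact Or.inr (Or.inl ⟨d, F, _, _, hd, hp, ⟨e⟩⟩)
  | psl11 hp e => exact Or.inr (Or.inr (Or.inl ⟨hp, Or.inl e⟩))
  | m11 hp h => exact Or.inr (Or.inr (Or.inl ⟨hp, Or.inr h⟩))
  | m23 hp h => exact Or.inr (Or.inr (Or.inr ⟨hp, h⟩))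

/-- **Known simple groups with a subgroup of prime index**, with the position of the subgroup in the linear case. -/
theorem prime_index_point {T : Type*} [Group T] [Finite T] [IsSimpleGroup T] (hK : IsKnownSimple' T)
    (hna : ¬ IsMulCommutative T) (H : Subgroup T) (p : ℕ) (hp : p.Prime) (hH : H.index = p) :
    (5 ≤ p ∧ Nonempty (T ≃* alternatingGroup (Fin p))) ∨
    (∃ (d : ℕ) (F : Type) (_ : Field F) (_ : Fintype F), 2 ≤ d ∧ Fintype.card F ^ d - 1 = p * (Fintype.card F - 1) ∧
      ∃ (e : T ≃* Matrix.ProjectiveSpecialLinearGroup (Fin d) F) (x : ℙ F (Fin d → F)),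
        H.map e.toMonoidHom = stabilizer (Matrix.ProjectiveSpecialLinearGroup (Fin d) F) x) ∨
    (p = 11 ∧ (Nonempty (T ≃* Matrix.ProjectiveSpecialLinearGroup (Fin 2) (ZMod 11)) ∨ Spor.IsoM11 T)) ∨
    (p = 23 ∧ Spor.IsoM23 T) := by
  have hyp := hyp_of_index hna hp hH
  cases main hyp hK with
  | alt e => exact Or.inl ⟨hyp.five_le, e⟩
  | psl F d hd e Φ hΦ hp =>
    refine Or.inr (Or.inl ⟨d, F, _, _, hd, hp, e, Φ (QuotientGroup.mk 1), ?_⟩)
    ext g
    rw [mem_stabilizer_iff]
    constructor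
    · rintro ⟨t, ht, rfl⟩
      show e t • _ = _
      rw [← hΦ]
      congr 1
      show (QuotientGroup.mk (t * 1) : T ⧸ H) = QuotientGroup.mk 1
      rw [mul_one, QuotientGroup.eq, mul_one]
      exact inv_mem ht
    · intro h1
      refine ⟨e.symm g, ?_, e.apply_symm_apply g⟩
      have h2 : Φ (e.symm g • (QuotientGroup.mk 1 : T ⧸ H)) = Φ (QuotientGroup.mk 1) := by
        rw [hΦ, e.apply_symm_apply, h1]
      have h3 := Φ.injective h2
      have h4 : (QuotientGroup.mk (e.symm g * 1) : T ⧸ H) = QuotientGroup.mk 1 := h3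
      rw [mul_one, QuotientGroup.eq, mul_one] at h4
      exact inv_mem_iff.1 h4
  | psl11 hp e => exact Or.inr (Or.inr (Or.inl ⟨hp, Or.inl e⟩))
  | m11 hp h => exact Or.inr (Or.inr (Or.inl ⟨hp, Or.inr h⟩))
  | m23 hp h => exact Or.inr (Or.inr (Or.inr ⟨hp, h⟩))

end Cfsg.Agent.H410.PrimeIndex
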