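import Cfsg.Agent.H410.Basic
import Cfsg.Agent.H409.PrimeBase
import Cfsg.Agent.S0700
import Cfsg.Agent.Lib.SubnormalJoin

/-!
# Insoluble transitive groups of prime degree: the simple normal subgroup (helper410)

* `exists_hyp` : an insoluble faithful transitive group of prime degree `p` has a normal subgroup `T` with `Hyp ↥T Ω p`
  (simple, non-abelian, transitive).
-/

set_option autoImplicit false

namespace Cfsg.Agent.H410.PrimeReduce

open MulAction
open Cfsg.Agent.H409 Cfsg.Agent.H410.Basic

variable {G Ω : Type*} [Group G] [Finite G] [MulAction G Ω] [FaithfulSMul G Ω] [Finite Ω] {p : ℕ}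

theorem two_trans (hp : p.Prime) (hΩ : Nat.card Ω = p) (htrans : IsPretransitive G Ω) (hins : ¬ Group.IsSolvable G) :
    IsMultiplyPretransitive G Ω 2 := by
  rw [is_two_pretransitive_iff]
  intro a b c d hab hcd
  exact two_transitive (by rw [hΩ]; exact hp) htrans hins a b c d hab hcd

/-- An abelian regular normal subgroup of prime order: the group is solvable. -/
theorem solvable_of_abelian (hp : p.Prime) (hΩ : Nat.card Ω = p) (htrans : IsPretransitive G Ω) {N : Subgroup G}
    [hN : N.Normal] (hab : ∀ a ∈ N, ∀ b ∈ N, a * b = b * a) (hNt : IsPretransitive ↥N Ω) : Group.IsSolvable G := by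
  obtain ⟨α⟩ : Nonempty Ω := (Nat.card_pos_iff.1 (by rw [hΩ]; exact hp.pos)).1
  have := Fact.mk hp
  -- `N` is self-centralising
  have hC : ∀ g : G, (∀ a ∈ N, g * a = a * g) → g ∈ N := by
    intro g hg
    obtain ⟨⟨n, hn⟩, h1⟩ := MulAction.exists_smul_eq ↥N α (g • α)
    have h1' : n • α = g • α := h1
    have h2 : n⁻¹ * g = 1 := by
      refine FaithfulSMul.eq_of_smul_eq_smul (α := Ω) fun x => ?_
      obtain ⟨⟨m, hm⟩, rfl⟩ := MulAction.exists_smul_eq ↥N α x
      show (n⁻¹ * g) • m • α = 1 • m • α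
      rw [one_smul, ← mul_smul]
      have h3 : n⁻¹ * g * m = m * (n⁻¹ * g) := by
        rw [mul_assoc, hg m hm, ← mul_assoc, hab n⁻¹ (inv_mem hn) m hm, mul_assoc]
      rw [h3, mul_smul, mul_smul, ← h1', inv_smul_smul]
    rw [inv_mul_eq_one] at h2
    exact h2 ▸ hn
  -- `|N| = p`
  have hfree : stabilizer ↥N α = ⊥ := by
    rw [Subgroup.eq_bot_iff_forall]
    rintro ⟨n, hn⟩ h1
    apply Subtype.ext
    refine FaithfulSMul.eq_of_smul_eq_smul (α := Ω) fun x => ?_
    obtain ⟨⟨m, hm⟩, rfl⟩ := MulAction.exists_smul_eq ↥N α x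
    have h1' : n • α = α := h1
    show n • m • α = (1 : G) • m • α
    rw [one_smul, ← mul_smul, hab n hn m hm, mul_smul, h1']
  have hcard : Nat.card ↥N = p := by
    have h1 := MulAction.index_stabilizer_of_transitive ↥N α
    rw [hfree, Subgroup.index_bot, hΩ] at h1
    exact h1
  have hcyc : IsCyclic ↥N := isCyclic_of_prime_card hcard
  have hAb : Group.IsSolvable (MulAut ↥N) := by
    refine Group.isSolvable_of_isSolvable_injective (f := (IsCyclic.mulAutMulEquiv ↥N).toMonoidHom)
      (IsCyclic.mulAutMulEquiv ↥N).injective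
  have hNs : Group.IsSolvable ↥N := Group.isSolvable_of_comm fun a b => Subtype.ext (hab a a.2 b b.2)
  refine Group.isSolvable_of_ker_le_range N.subtype (MulAut.conjNormal (H := N)) ?_
  intro g hg
  rw [Subgroup.range_subtype]
  apply hC
  intro a ha
  have h1 := congrArg (fun f : MulAut ↥N => ((f ⟨a, ha⟩ : ↥N) : G)) (MonoidHom.mem_ker.1 hg)
  simp only [MulAut.conjNormal_apply, MulAut.one_apply] at h1
  rw [mul_inv_eq_iff_eq_mul] at h1
  exact h1

/-- **The simple normal subgroup.** -/
theorem exists_hyp (hp : p.Prime) (hΩ : Nat.card Ω = p) (htrans : IsPretransitive G Ω)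
    (hins : ¬ Group.IsSolvable G) : ∃ T : Subgroup G, T.Normal ∧ Hyp ↥T Ω p := by
  classical
  have := Fintype.ofFinite Ω
  set G' := permGroup G Ω with hG'
  let e : G ≃* ↥G' := permGroupEquiv (G := G) (Ω := Ω)
  have htr' : IsPretransitive ↥G' Ω := permGroup_trans (G := G) (Ω := Ω)
  have hins' : ¬ Group.IsSolvable ↥G' := not_solvable_permGroup hins
  have h2' := two_trans (G := ↥G') hp hΩ htr' hins'
  have hnt : Nontrivial ↥G' := by
    by_contra hcon
    rw [not_nontrivial_iff_subsingleton] at hcon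
    exact hins' inferInstance
  obtain ⟨N, hN, hN1, hmin⟩ := Lib.SubnormalJoin.exists_minimal_normal ↥G'
  have hprim : IsPreprimitive ↥G' Ω := isPreprimitive_of_is_two_pretransitive h2'
  -- `N` is transitive
  have hNt : IsPretransitive ↥N Ω := by
    refine IsQuasiPreprimitive.isPretransitive_of_normal ?_
    intro h1
    apply hN1
    rw [Subgroup.eq_bot_iff_forall]
    intro n hn
    refine FaithfulSMul.eq_of_smul_eq_smul (α := Ω) fun x => ?_
    have h2 : x ∈ fixedPoints ↥N Ω := h1 ▸ Set.mem_univ x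
    rw [one_smul]
    exact h2 ⟨n, hn⟩
  have hsimple : IsSimpleGroup ↥N := by
    rcases S0700.result G' h2' N hN1 hmin with ⟨h1, -, -⟩ | ⟨h1, -⟩
    · exfalso
      apply hins'
      refine solvable_of_abelian hp hΩ htr' (N := N) (fun a ha b hb => ?_) hNt
      exact congrArg Subtype.val (isMulCommutative_iff.1 h1 ⟨a, ha⟩ ⟨b, hb⟩)
    · exact h1
  have hnc : ∃ a b : ↥N, a * b ≠ b * a := by
    by_contra hcon
    push Not at hcon
    exact hins' (solvable_of_abelian hp hΩ htr' (N := N)
      (fun a ha b hb => congrArg Subtype.val (hcon ⟨a, ha⟩ ⟨b, hb⟩)) hNt)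
  -- back to `G`
  let T := N.comap e.toMonoidHom
  have hTn : T.Normal := inferInstance
  let f : ↥T ≃* ↥N :=
    { toFun := fun t => ⟨e t, t.2⟩
      invFun := fun n => ⟨e.symm n, by
        show e (e.symm n) ∈ N
        rw [MulEquiv.apply_symm_apply]
        exact n.2⟩
      left_inv := fun t => Subtype.ext (e.symm_apply_apply t)
      right_inv := fun n => Subtype.ext (e.apply_symm_apply n)
      map_mul' := fun a b => Subtype.ext (map_mul e (a : G) b) }
  refine ⟨T, hTn, ?_⟩
  exact
    { fin := inferInstance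
      simple := f.isSimpleGroup
      nc := by
        obtain ⟨a, b, hab⟩ := hnc
        refine ⟨f.symm a, f.symm b, fun h1 => hab ?_⟩
        have := congrArg f h1
        rwa [map_mul, map_mul, MulEquiv.apply_symm_apply, MulEquiv.apply_symm_apply] at this
      prime := hp
      card := hΩ
      trans := by
        constructor
        intro x y
        obtain ⟨n, hn⟩ := MulAction.exists_smul_eq ↥N x y
        refine ⟨f.symm n, ?_⟩
        rw [← hn]
        have h1 : e ((f.symm n : ↥T) : G) = (n : ↥G') := congrArg Subtype.val (f.apply_symm_apply n)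
        have h2 : ((f.symm n : ↥T) : G) • x = ((e ((f.symm n : ↥T) : G) : ↥G') : Equiv.Perm Ω) x := rfl
        have h3 : ((f.symm n : ↥T) : G) • x = ((n : ↥G') : Equiv.Perm Ω) x := by rw [h2, h1]
        exact h3 }

end Cfsg.Agent.H410.PrimeReduce
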